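import Groth.Agent.PnEuler.SerreBundle
import Groth.Agent.HodgeCI.WedgeDual
import Groth.Agent.SGA6Ext.Lambda
import Groth.Agent.CurveRR.Deg
import Groth.Agent.LocFree.Props
import Groth.Agent.RatFun.Basic
import Groth.Agent.W7Slope.Hom
import Groth.Agent.PicPn.Main
import Groth.Agent.HNSplit.Dual
import Groth.Agent.ModDesc.LocFreeDesc

/-!
# Simple rank two bundles on projective space have no sections after normalisation
-/

set_option autoImplicit false
set_option backward.isDefEq.respectTransparency false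
set_option backward.isDefEq.respectTransparency.types false
set_option linter.style.haveILetI false
set_option linter.unusedSectionVars false
set_option maxHeartbeats 1000000

universe u

open CategoryTheory CategoryTheory.Limits AlgebraicGeometry TopologicalSpace Opposite Groth.Agent.QC Groth.Agent.WeakAssLib
open Groth.Agent.CohFinite (tmap)
open Groth.Agent.PicBdd (scal)

noncomputable section

namespace Groth.Agent.PnEuler

section General

variable {X : Scheme.{u}} [IsIntegral X]

/-- locally free modules on an integral scheme are torsion free -/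
theorem isTorsionFree_of_isFinLocFree {E : X.Modules} (hE : FlatMod.IsFinLocFree E) : TorSh.IsTorsionFree E := by
  intro x
  haveI := LocFree.free_stalk_of_isFinLocFree hE x
  infer_instance

/-- a nonzero map from an invertible module to a locally free module is injective -/
theorem mono_of_ne_zero_locFree {N E : X.Modules} (hN : PicF.IsInvertible N) (hE : FlatMod.IsFinLocFree E)
    (φ : N ⟶ E) (hφ : φ ≠ 0) : Mono φ := by
  haveI : Coh.IsQCoh E := LocFree.isQCoh_of_isFinLocFree hE
  have hT := isTorsionFree_of_isFinLocFree hE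
  refine (Groth.Agent.QC.mono_iff_app_injective φ).2 fun U =>
    (injective_iff_map_eq_zero _).2 fun s hs => section_eq_of_locally fun x hx => ?_
  refine ⟨U, le_rfl, hx, ?_⟩
  rw [res_self, map_zero]
  have hηU : genericPoint X ∈ U := (genericPoint_specializes x).mem_open U.2 hx
  refine CurveRR.eq_zero_of_germ_generic hN s hηU ?_
  obtain ⟨D, g, hηD, hg⟩ := TMul.exists_isGen hN (genericPoint X)
  obtain ⟨r, hr⟩ := ZeroSch.exists_smul_germ hg hηD (mgerm N hηU s)
  have h0 : r • stalkHom φ (genericPoint X) (mgerm N hηD g) = 0 := by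
    rw [← stalkHom_smul, ← hr, stalkHom_germ, hs, map_zero]
  haveI := hT (genericPoint X)
  rcases smul_eq_zero.1 h0 with hr0 | hv
  · rw [hr, hr0, zero_smul]
  · exfalso
    refine hφ (Scheme.Modules.hom_ext _ _ fun V => ?_)
    ext t
    change φ.app V t = 0
    by_cases hV : genericPoint X ∈ V
    · refine RatFun.germ_generic_injective E hT hV ?_
      obtain ⟨a, ha⟩ := ZeroSch.exists_smul_germ hg hηD (mgerm N hV t)
      rw [← stalkHom_germ, ha, stalkHom_smul, hv, smul_zero]
    · refine section_eq_of_locally fun y hy => ?_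
      exact absurd ((genericPoint_specializes y).mem_open V.2 hy) hV

end General

variable {k : Type u} [Field k]

/-- a nonzero morphism `O(a) → O(b)` for `a ≤ b` -/
theorem exists_hom_twist_ne_zero (n : ℕ) {a b : ℤ} (h : a ≤ b) :
    ∃ f : tO n k a ⟶ tO n k b, f ≠ 0 := by
  obtain ⟨η⟩ := nonempty_eta (k := k) n (-a) a (by norm_num)
  obtain ⟨θ⟩ := TwistPairing.nonempty_twist_twist (R := k) n b (-a) (b - a) (by ring)
  by_contra hne
  push_neg at hne
  have h1 : Subsingleton (Coh.HH (CohB1.ProjSpace n k) (CohB1.tensorMod (tO n k b) (tO n k (-a))) 0) := by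
    refine subsingleton_h0_of_sections fun g => ?_
    rw [← LinRes.tmap_secHom_gen η (CohFinite.isInvertible_twist n k (-a)) g, hne (LinRes.secHom η g),
      CohFinite.tmap_zero]
    rfl
  have h2 := CohQC.hh_subsingleton_of_iso θ 0 h1
  obtain ⟨j, hj⟩ : ∃ j : ℕ, b - a = (j : ℤ) - (0 : ℕ) := ⟨(b - a).toNat, by omega⟩
  rw [hj] at h2
  letI : (CohB1.ProjSpace n k).Over (Spec (CommRingCat.of k)) := ⟨CohB1.ProjSpace.toSpec n k⟩
  have h3 := (PnHodge.twist_h0 (n := n) (k := k) 0 j (Nat.zero_le _)).2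
  rw [Module.finrank_zero_of_subsingleton, Nat.sub_zero] at h3
  exact absurd h3.symm (Nat.choose_pos (by omega)).ne'

/-- a simple rank two bundle has no sections after normalisation -/
theorem subsingleton_h0_of_simple (n : ℕ) {E L : (CohB1.ProjSpace n k).Modules}
    (hE : FlatMod.IsFinLocFreeOfRank 2 E) (c k₀ : ℤ) (hL : ExtPow.IsExtPow 2 E L)
    (e : L ≅ Twist.twistProjSpace n k c) (hk₀ : c + 2 * k₀ ≤ 0)
    (hsimple : ∀ φ : E ⟶ E, ∃ c' : k, (SheafOfModules.toSheaf (CohB1.ProjSpace n k).ringCatSheaf).map φ =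
      Coh.smulAb E (Coh.toGlobal (CohB1.ProjSpace.toSpec n k) c')) :
    Subsingleton (Coh.HH (CohB1.ProjSpace n k) (CohB1.tensorMod E (tO n k k₀)) 0) := by
  haveI : IsIntegral (CohB1.ProjSpace n k) := PicPn.isIntegral
  have hEf : FlatMod.IsFinLocFree E := HNSplit.isFinLocFree_of_rank hE
  refine subsingleton_h0_of_sections fun g => ?_
  by_contra hg
  obtain ⟨η⟩ := nonempty_eta (k := k) n k₀ (-k₀) (by ring)
  have hInv := CohFinite.isInvertible_twist n k k₀
  let M := tO n k (-k₀)
  let s : M ⟶ E := LinRes.secHom η g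
  have hs : s ≠ 0 := fun h => hg (by
    rw [← LinRes.tmap_secHom_gen η hInv g, show LinRes.secHom η g = 0 from h, CohFinite.tmap_zero]
    rfl)
  haveI := mono_of_ne_zero_locFree (CohFinite.isInvertible_twist n k (-k₀)) hEf s hs
  -- the pairing with the determinant
  obtain ⟨φ₁, hφ₁⟩ := SGA6Ext.isExtPow_one E
  obtain ⟨φ₂, hφ₂⟩ := hL
  obtain ⟨ι⟩ := HodgeCI.exists_iso_homSh (n := 2) (p := 1) φ₁ φ₁ φ₂ hφ₁ hφ₁ hφ₂ (by norm_num) hE
    (LocFree.isQCoh_of_isFinLocFree hEf)
  have hs' : s ≫ ι.hom ≠ 0 := fun h => hs (by rw [← cancel_mono ι.hom, h, zero_comp])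
  let p : CohB1.tensorMod E M ⟶ L := W7Hull.curEquiv.symm (s ≫ ι.hom)
  have hp : p ≠ 0 := fun h => hs' (by
    have h0 : W7Hull.curEquiv (0 : CohB1.tensorMod E M ⟶ L) = 0 := by
      apply W7Hull.curEquiv.symm.injective
      rw [Equiv.symm_apply_apply]
      refine TMul.hom_ext fun U a m => RefStalk.germ_ext fun y hy => ?_
      change _ = mgerm L hy ((W7Hull.uncur 0).app U (TMul.tm a m))
      rw [W7Hull.uncur_tm]
      exact map_zero _
    rw [← h0, ← h]
    exact (W7Hull.curEquiv.apply_symm_apply _).symm)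
  obtain ⟨θ⟩ := TwistPairing.nonempty_twist_twist (R := k) n c k₀ (c + k₀) rfl
  let e₁ : CohB1.tensorMod (CohB1.tensorMod E M) (tO n k k₀) ≅ E :=
    TMul.assocIso _ _ _ ≪≫ PicGrp.tensorModIso (Iso.refl E) (TMul.commIso _ _ ≪≫ η) ≪≫ SecTwist.unitorR E
  let e₂ : CohB1.tensorMod L (tO n k k₀) ≅ tO n k (c + k₀) := PicGrp.tensorModIso e (Iso.refl _) ≪≫ θ
  let t : E ⟶ tO n k (c + k₀) := e₁.inv ≫ tmap p (tO n k k₀) ≫ e₂.hom
  have ht : t ≠ 0 := fun h => hp (LinRes.eq_zero_of_tmap hInv p (by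
    rw [← cancel_epi e₁.inv, ← cancel_mono e₂.hom, Category.assoc]
    simp only [comp_zero, zero_comp]
    exact h))
  obtain ⟨f, hf⟩ := exists_hom_twist_ne_zero (k := k) n (a := c + k₀) (b := -k₀) (by omega)
  haveI := CurveRR.mono_of_ne_zero (CohFinite.isInvertible_twist n k (c + k₀))
    (CohFinite.isInvertible_twist n k (-k₀)) f hf
  obtain ⟨c', hc'⟩ := hsimple (t ≫ f ≫ s)
  have hφ := BlowPn.eq_scal hc'
  have hne : t ≫ f ≫ s ≠ 0 := fun h => ht (by rw [← cancel_mono (f ≫ s), h, zero_comp])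
  have hc0 : c' ≠ 0 := fun h => hne (by rw [hφ, h, map_zero, BlowPn.scal_zero])
  let a : Γ(CohB1.ProjSpace n k, ⊤) := Coh.toGlobal (CohB1.ProjSpace.toSpec n k) c'⁻¹
  haveI : IsSplitEpi s := ⟨⟨⟨scal a E ≫ t ≫ f, by
    rw [Category.assoc, Category.assoc, hφ, ← BlowPn.scal_mul]
    refine Eq.trans (congrArg (fun z => scal z E) ?_) (BlowPn.scal_one E)
    show Coh.toGlobal (CohB1.ProjSpace.toSpec n k) c'⁻¹ * Coh.toGlobal (CohB1.ProjSpace.toSpec n k) c' = 1
    rw [← map_mul, inv_mul_cancel₀ hc0, map_one]⟩⟩⟩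
  haveI : IsIso s := isIso_of_mono_of_isSplitEpi s
  have h1 := W7Slope.rank_iso (asIso s)
    (CurveRR.isFinLocFreeOfRank_one (CohFinite.isInvertible_twist n k (-k₀)))
  obtain ⟨x⟩ : Nonempty (CohB1.ProjSpace n k) := inferInstance
  obtain ⟨U, hxU, ⟨u⟩⟩ := hE x
  obtain ⟨V, hxV, ⟨v⟩⟩ := h1 x
  exact absurd (ModDesc.rank_unique u v hxU hxV) (by norm_num)

end Groth.Agent.PnEuler
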