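import Groth.Agent.PnEuler.Free
import Groth.Agent.BlowPn.Koszul
import Groth.Agent.PnHodge.Coh
import Groth.Agent.PnHodge.Dim
import Groth.Agent.HodgeCI.CIFacts
import Groth.Agent.CurveRR.Point
import Groth.Agent.PicPn.Main

/-!
# The cotangent sheaf of projective space: simplicity and restriction to linear subspaces
-/

set_option autoImplicit false
set_option backward.isDefEq.respectTransparency false
set_option backward.isDefEq.respectTransparency.types false
set_option linter.style.haveILetI false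
set_option linter.unusedSectionVars false
set_option maxHeartbeats 1000000

universe u

open CategoryTheory CategoryTheory.Limits AlgebraicGeometry TopologicalSpace Opposite
open Groth.Agent.CohFinite (tmap hhEquiv)

noncomputable section

namespace Groth.Agent.PnEuler

variable {k : Type u} [Field k]

/-- `O(d)` -/
abbrev tO (n : ℕ) (k : Type u) [Field k] (d : ℤ) : (CohB1.ProjSpace n k).Modules := Twist.twistProjSpace n k d

theorem nonempty_eta (n : ℕ) (a b : ℤ) (h : a + b = 0) :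
    Nonempty (CohB1.tensorMod (tO n k a) (tO n k b) ≅ Coh.structureModule (CohB1.ProjSpace n k)) := by
  obtain ⟨θ⟩ := TwistPairing.nonempty_twist_twist (R := k) n a b 0 h
  obtain ⟨z⟩ := PnHodge.nonempty_twist_zero_iso (n := n) (A := k)
  exact ⟨θ ≪≫ z⟩

/-- the Euler sequence -/
theorem exists_euler (n : ℕ) :
    ∃ q : FlatMod.freeMod (CohB1.ProjSpace n k) (n + 1) ⟶ tO n k 1, Epi q ∧
      Nonempty (CohB1.tensorMod (Omega.sheaf (CohB1.ProjSpace.toSpec n k)) (tO n k 1) ≅ kernel q) := by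
  haveI := PnHodge.quasiSeparated_toSpec n k
  have hP := CycPB.isProjBundle_projSpace n k
  obtain ⟨ε⟩ := PBundle.euler_sequence hP
    (ResDesc.isFinLocFree_of_frames fun x => ⟨⊤, _, _, trivial, W7Strat.isFrame_freeMod _ (n + 1)⟩)
    (OmegaLib.isUniversal_dOmega (CohB1.ProjSpace.toSpec n k))
  haveI := hP.epi
  exact ⟨(DerPerf.pullFreeIso (CohB1.ProjSpace.toSpec n k) (n + 1)).inv ≫ _, epi_comp _ _,
    ⟨ε ≪≫ (kernelIsIsoComp _ _).symm⟩⟩

/-- `Ω(1)` has no sections -/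
theorem subsingleton_omega_one (n : ℕ) :
    Subsingleton (Coh.HH (CohB1.ProjSpace n k)
      (CohB1.tensorMod (Omega.sheaf (CohB1.ProjSpace.toSpec n k)) (tO n k 1)) 0) := by
  rcases Nat.eq_zero_or_pos n with rfl | hn
  · exact PnHodge.subsingleton_of_big (p := 1) one_pos (SGA6Ext.isExtPow_one _) 1 0
  · exact PnHodge.step_down (n := n) (A := k) 1 (d := 1) (q := 0)
      (ProjCech.twist_vanish (R := k) n ((1 : ℤ) - (1 + 1 : ℕ)) 0 (fun h => by simp at h) (fun h => by omega))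
      (fun L hL => PnHodge.vanish_high 2 1 1 (Or.inr ⟨one_pos, one_pos⟩) L hL)
      _ (SGA6Ext.isExtPow_one _)

theorem surjective_toGlobal [IsAlgClosed k] (n : ℕ) :
    Function.Surjective (Coh.toGlobal (CohB1.ProjSpace.toSpec n k)) := by
  haveI : AlgebraicGeometry.IsIntegral (CohB1.ProjSpace n k) := PicPn.isIntegral
  haveI : IsProper (CohB1.ProjSpace.toSpec n k) := ProjMor.isProper_toSpec n k
  exact (CurveRR.bijective_toGlobal (CohB1.ProjSpace.toSpec n k)).2

/-- the cotangent sheaf is simple -/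
theorem omega_simple [IsAlgClosed k] (n : ℕ)
    (φ : Omega.sheaf (CohB1.ProjSpace.toSpec n k) ⟶ Omega.sheaf (CohB1.ProjSpace.toSpec n k)) :
    ∃ c : k, (SheafOfModules.toSheaf (CohB1.ProjSpace n k).ringCatSheaf).map φ =
      Coh.smulAb (Omega.sheaf (CohB1.ProjSpace.toSpec n k)) (Coh.toGlobal (CohB1.ProjSpace.toSpec n k) c) := by
  obtain ⟨q, hq, ⟨ε⟩⟩ := exists_euler (k := k) n
  haveI := hq
  obtain ⟨η⟩ := nonempty_eta (k := k) n (-1) 1 (by norm_num)
  have hT : PicF.IsInvertible (tO n k 1) := CohFinite.isInvertible_twist n k 1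
  have hL' : PicF.IsInvertible (tO n k (-1)) := CohFinite.isInvertible_twist n k (-1)
  have hH1 : Subsingleton (Coh.HH (CohB1.ProjSpace n k)
      (CohB1.tensorMod (FlatMod.freeMod (CohB1.ProjSpace n k) (n + 1)) (tO n k (-1))) 1) :=
    BlowPn.subsingleton_hh_free (n + 1) _ 1
      (ProjCech.twist_vanish (R := k) n (-1) 1 (fun h => by omega) (fun h => by omega))
  have hK : Subsingleton (Coh.HH (CohB1.ProjSpace n k)
      (CohB1.tensorMod (kernel q) (Coh.structureModule (CohB1.ProjSpace n k))) 0) :=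
    CohQC.hh_subsingleton_of_iso (ε ≪≫ (SecTwist.unitorR _).symm) 0 (subsingleton_omega_one n)
  obtain ⟨a, ha⟩ := kernel_simple q η hL' hH1
    (BlowPn.hom_coprod_eq_zero (TMul.leftUnitIso (Coh.structureModule (CohB1.ProjSpace n k)))
      (PicLoc.isInvertible_structureModule _) (Iso.refl _) hK)
    (ε.inv ≫ tmap φ (tO n k 1) ≫ ε.hom)
  obtain ⟨c, hc⟩ := surjective_toGlobal (k := k) n a
  refine ⟨c, ?_⟩
  rw [hc, ← BlowPn.toSheaf_scal]
  refine congrArg _ ?_
  have h1 : tmap φ (tO n k 1) = tmap (PicBdd.scal a (Omega.sheaf (CohB1.ProjSpace.toSpec n k))) (tO n k 1) := by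
    rw [BlowPn.tmap_scal, ← cancel_epi ε.inv, ← cancel_mono ε.hom, Category.assoc, ha, Category.assoc,
      PicBdd.scal_comp, Iso.inv_hom_id_assoc]
  rw [← sub_eq_zero]
  refine LinRes.eq_zero_of_tmap hT _ ?_
  have h2 : tmap (φ - PicBdd.scal a (Omega.sheaf (CohB1.ProjSpace.toSpec n k))) (tO n k 1) +
      tmap (PicBdd.scal a (Omega.sheaf (CohB1.ProjSpace.toSpec n k))) (tO n k 1) = tmap φ (tO n k 1) := by
    rw [← CohFinite.tmap_add, sub_add_cancel]
  rw [h1] at h2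
  exact add_eq_right.1 h2

/-- `O(1)` is not generated by fewer than `n + 1` sections -/
theorem not_epi_of_le {n c : ℕ} (hc : c ≤ n) (q : FlatMod.freeMod (CohB1.ProjSpace n k) c ⟶ tO n k 1) :
    ¬ Epi q := by
  intro hq
  haveI := PnHodge.quasiSeparated_toSpec n k
  have hT : PicF.IsInvertible (tO n k 1) := CohFinite.isInvertible_twist n k 1
  have hne : ¬ Subsingleton (Coh.HH (CohB1.ProjSpace n k) (tO n k (-((n + 1 : ℕ) : ℤ))) n) := fun h => by
    have h1 := (PnHodge.twist_hn (n := n) (k := k) (n + 1) (by omega)).2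
    rw [Module.finrank_zero_of_subsingleton, Nat.add_sub_cancel, Nat.choose_self] at h1
    omega
  apply hne
  rcases c with _ | c
  · refine PnHodge.subsingleton_hh_of_isZero ?_ n
    have h0 : IsZero (FlatMod.freeMod (CohB1.ProjSpace n k) 0) :=
      (IsZero.iff_id_eq_zero _).2 (Sigma.hom_ext _ _ fun j => j.elim0)
    haveI := hq
    have hzero : IsZero (tO n k 1) := (IsZero.iff_id_eq_zero _).2 ((cancel_epi q).1 (h0.eq_of_src _ _))
    obtain ⟨θ⟩ := TwistPairing.nonempty_twist_twist (R := k) n (-((n + 1 : ℕ) : ℤ) - 1) 1 (-((n + 1 : ℕ) : ℤ)) (by ring)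
    exact (PnReg.isZero_tensor_right hzero _).of_iso θ.symm
  · haveI := hq
    refine BlowPn.subsingleton_of_twists hT q n (CohFinite.isInvertible_twist n k _) fun j hjn hjc => ?_
    obtain ⟨e⟩ := PnHodge.nonempty_tensorPow_twist n k (j + 1)
    obtain ⟨θ⟩ := TwistPairing.nonempty_twist_twist (R := k) n ((j + 1 : ℕ) : ℤ) (-((n + 1 : ℕ) : ℤ))
      (((j + 1 : ℕ) : ℤ) - (n + 1 : ℕ)) (by ring)
    exact CohQC.hh_subsingleton_of_iso (PicGrp.tensorModIso e (Iso.refl _) ≪≫ θ).symm _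
      (ProjCech.twist_vanish (R := k) n _ (n - j) (fun h => by omega) (fun h => by omega))

/-- The cotangent sheaf along a map with `i^*O(1) ≅ O(1)`. -/
theorem nonempty_omega_pullback [IsAlgClosed k] (m n : ℕ) (i : CohB1.ProjSpace m k ⟶ CohB1.ProjSpace n k)
    (hO : Nonempty ((Scheme.Modules.pullback i).obj (tO n k 1) ≅ tO m k 1)) :
    Nonempty ((Scheme.Modules.pullback i).obj (Omega.sheaf (CohB1.ProjSpace.toSpec n k)) ≅
      Omega.sheaf (CohB1.ProjSpace.toSpec m k) ⊞ ∐ fun _ : Fin (n - m) => tO m k (-1)) := by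
  obtain ⟨w⟩ := hO
  haveI := PnHodge.quasiSeparated_toSpec n k
  obtain ⟨E, q₀, hq₀, ⟨e⟩, ⟨ε₀⟩⟩ := HodgeCI.exists_pulled_euler (k := k) (N := n) i
  obtain ⟨q, hq, ⟨ε⟩⟩ := exists_euler (k := k) m
  haveI := hq₀
  haveI := hq
  let g := Coh.toGlobal (CohB1.ProjSpace.toSpec m k)
  let q₁ : FlatMod.freeMod (CohB1.ProjSpace m k) (n + 1) ⟶ tO m k 1 := (e.inv ≫ q₀) ≫ w.hom
  haveI : Epi q₁ := inferInstanceAs (Epi ((e.inv ≫ q₀) ≫ w.hom))
  have hS : (ShortComplex.mk (kernel.ι q) q (kernel.condition q)).ShortExact :=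
    { exact := ShortComplex.exact_kernel q }
  have hH1 : Subsingleton (Coh.HH (CohB1.ProjSpace m k)
      (CohB1.tensorMod (kernel q) (Coh.structureModule (CohB1.ProjSpace m k))) 1) :=
    CohQC.hh_subsingleton_of_iso (ε ≪≫ (SecTwist.unitorR _).symm) 1
      (PnHodge.vanish_high 1 1 1 (Or.inr ⟨one_pos, one_pos⟩) _ (SGA6Ext.isExtPow_one _))
  obtain ⟨r, hr⟩ := BlowPn.exists_lift_coprod (TMul.leftUnitIso (Coh.structureModule (CohB1.ProjSpace m k)))
    (PicLoc.isInvertible_structureModule _) (Iso.refl (FlatMod.freeMod (CohB1.ProjSpace m k) (n + 1))) hS hH1 q₁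
  obtain ⟨f, rfl⟩ := exists_linF g (surjective_toGlobal m) r
  change linF g f ≫ q = q₁ at hr
  have hf : Function.Surjective f := by
    by_contra h
    obtain ⟨A, B, hAB⟩ := exists_fewer f h
    rw [← hAB, ← linF_comp, Category.assoc] at hr
    haveI : Epi (linF g A ≫ linF g B ≫ q) := by rw [hr]; infer_instance
    exact not_epi_of_le le_rfl _ (epi_of_epi (linF g A) (linF g B ≫ q))
  obtain ⟨s⟩ := nonempty_kernel_split g f hf q
  let s₀ : kernel q₀ ≅ kernel q₁ := (kernelIsIsoComp e.inv q₀).symm ≪≫ (kernelCompMono (e.inv ≫ q₀) w.hom).symm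
  let key : CohB1.tensorMod ((Scheme.Modules.pullback i).obj (Omega.sheaf (CohB1.ProjSpace.toSpec n k))) (tO m k 1) ≅
      CohB1.tensorMod (Omega.sheaf (CohB1.ProjSpace.toSpec m k)) (tO m k 1) ⊞
        FlatMod.freeMod (CohB1.ProjSpace m k) (n + 1 - (m + 1)) :=
    PicGrp.tensorModIso (Iso.refl _) w.symm ≪≫ ε₀ ≪≫ s₀ ≪≫ eqToIso (congrArg (fun x => kernel x) hr.symm) ≪≫ s ≪≫
      biprod.mapIso ε.symm (Iso.refl _)
  obtain ⟨η⟩ := nonempty_eta (k := k) m 1 (-1) (by norm_num)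
  let cancel : ∀ M : (CohB1.ProjSpace m k).Modules, CohB1.tensorMod (CohB1.tensorMod M (tO m k 1)) (tO m k (-1)) ≅ M :=
    fun M => TMul.assocIso _ _ _ ≪≫ PicGrp.tensorModIso (Iso.refl _) η ≪≫ SecTwist.unitorR _
  obtain ⟨t⟩ := nonempty_tensor_biprod (A := CohB1.tensorMod (Omega.sheaf (CohB1.ProjSpace.toSpec m k)) (tO m k 1))
    (B := FlatMod.freeMod (CohB1.ProjSpace m k) (n + 1 - (m + 1))) (tO m k (-1))
  obtain ⟨v⟩ := nonempty_tensor_free (X := CohB1.ProjSpace m k) (tO m k (-1)) (n + 1 - (m + 1))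
  rw [show n - m = n + 1 - (m + 1) by omega]
  exact ⟨(cancel _).symm ≪≫ PicGrp.tensorModIso key (Iso.refl _) ≪≫ t ≪≫ biprod.mapIso (cancel _) v⟩

/-- `Ω = O(-2)` on the projective line -/
theorem nonempty_omega_line : Nonempty (Omega.sheaf (CohB1.ProjSpace.toSpec 1 k) ≅ tO 1 k (-2)) := by
  obtain ⟨L₂, h₂⟩ := PnHodge.exists_isOm 1 k 2
  obtain ⟨S, hS, ⟨a⟩, ⟨b⟩, ⟨c⟩⟩ := PnHodge.exists_seq (n := 1) (A := k) 1 (SGA6Ext.isExtPow_one _) h₂ 0
  have hz : IsZero S.X₁ := ((PnReg.isZero_tensor_right (PnHodge.isZero_extPow_omega (by omega) h₂) _).of_iso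
    (TMul.commIso _ _)).of_iso a
  haveI := hS.epi_g
  haveI : Mono S.g := hS.exact.mono_g (hz.eq_of_src _ _)
  haveI : IsIso S.g := isIso_of_mono_of_epi _
  obtain ⟨z⟩ := PnHodge.nonempty_twist_zero_iso (n := 1) (A := k)
  exact ⟨(PicGrp.tensorModIso (Iso.refl _) z ≪≫ SecTwist.unitorR _).symm ≪≫ c.symm ≪≫ (asIso S.g).symm ≪≫ b ≪≫
    PicGrp.tensorModIso (eqToIso (by rfl) ≪≫ coproductUniqueIso fun _ : Fin 1 =>
      Coh.structureModule (CohB1.ProjSpace 1 k)) (Iso.refl _) ≪≫ TMul.leftUnitIso _ ≪≫ eqToIso (by norm_num)⟩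

end Groth.Agent.PnEuler
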