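import Groth.Agent.PnEuler.NullCorr

/-!
# Sections of twisted extensions of twisted ideals by the structure sheaf
-/

set_option autoImplicit false
set_option backward.isDefEq.respectTransparency false
set_option backward.isDefEq.respectTransparency.types false
set_option linter.style.haveILetI false
set_option linter.unusedSectionVars false
set_option maxHeartbeats 1000000

universe u

open CategoryTheory CategoryTheory.Limits AlgebraicGeometry TopologicalSpace Opposite
open Groth.Agent.CohFinite (tmap)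

noncomputable section

namespace Groth.Agent.PnEuler

variable {k : Type u} [Field k]

theorem subsingleton_h0_of_sections {X : Scheme.{u}} {M : X.Modules} (h : ∀ s : Γ(M, ⊤), s = 0) :
    Subsingleton (Coh.HH X M 0) := by
  have hT : IsTerminal (⊤ : X.Opens) := isTerminalTop
  refine subsingleton_of_forall_eq 0 fun x => (Sheaf.H.equiv₀ (Coh.toAb M) hT).injective ?_
  exact (h _).trans (map_zero _).symm

/-- a section killed by all linear forms is zero -/
theorem subsingleton_of_twist_one {n : ℕ} (F : (CohB1.ProjSpace n k).Modules)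
    (h : Subsingleton (Coh.HH (CohB1.ProjSpace n k) (CohB1.tensorMod F (tO n k 1)) 0)) :
    Subsingleton (Coh.HH (CohB1.ProjSpace n k) F 0) := by
  obtain ⟨q, hq, -⟩ := exists_euler (k := k) n
  haveI := hq
  refine subsingleton_h0_of_sections fun s => ?_
  have h1 : q ≫ (TMul.leftUnitIso (tO n k 1)).inv ≫ tmap (GrT.homOfSection F s) (tO n k 1) = 0 :=
    BlowPn.hom_coprod_eq_zero (TMul.leftUnitIso (Coh.structureModule (CohB1.ProjSpace n k)))
      (PicLoc.isInvertible_structureModule _) (Iso.refl _)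
      (CohQC.hh_subsingleton_of_iso (SecTwist.unitorR _).symm 0 h) _
  have h2 : tmap (GrT.homOfSection F s) (tO n k 1) = 0 := by
    rw [← cancel_epi (TMul.leftUnitIso (tO n k 1)).inv, ← cancel_epi q, h1, comp_zero, comp_zero]
  have h3 := LinRes.eq_zero_of_tmap (CohFinite.isInvertible_twist n k 1) _ h2
  have h4 := congrArg (fun φ : Coh.structureModule (CohB1.ProjSpace n k) ⟶ F =>
    φ.app ⊤ (1 : Γ(CohB1.ProjSpace n k, ⊤))) h3
  dsimp only at h4
  rw [GrT.homOfSection_app, one_smul, Groth.Agent.QC.res_self] at h4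
  exact h4

/-- vanishing of sections descends to smaller twists -/
theorem subsingleton_twist_le {n : ℕ} (F : (CohB1.ProjSpace n k).Modules) {d' d : ℤ} (hd : d' ≤ d)
    (h : Subsingleton (Coh.HH (CohB1.ProjSpace n k) (CohB1.tensorMod F (tO n k d)) 0)) :
    Subsingleton (Coh.HH (CohB1.ProjSpace n k) (CohB1.tensorMod F (tO n k d')) 0) := by
  obtain ⟨j, rfl⟩ : ∃ j : ℕ, d = d' + j := ⟨(d - d').toNat, by omega⟩
  induction j with
  | zero => simpa using h
  | succ j ih =>
    refine ih (by omega) (subsingleton_of_twist_one _ ?_)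
    obtain ⟨θ⟩ := TwistPairing.nonempty_twist_twist (R := k) n (d' + j) 1 (d' + (j + 1 : ℕ)) (by push_cast; ring)
    exact CohQC.hh_subsingleton_of_iso (TMul.assocIso _ _ _ ≪≫ PicGrp.tensorModIso (Iso.refl _) θ).symm 0 h

theorem subsingleton_h0_twist_iff {n : ℕ} (hn : 0 < n) (d : ℤ) :
    Subsingleton (Coh.HH (CohB1.ProjSpace n k) (tO n k d) 0) ↔ d < 0 := by
  refine ⟨fun h => ?_, fun h => ?_⟩
  · by_contra hd
    obtain ⟨j, rfl⟩ : ∃ j : ℕ, d = (j : ℤ) - (0 : ℕ) := ⟨d.toNat, by omega⟩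
    letI : (CohB1.ProjSpace n k).Over (Spec (CommRingCat.of k)) := ⟨CohB1.ProjSpace.toSpec n k⟩
    have h1 := (PnHodge.twist_h0 (n := n) (k := k) 0 j (Nat.zero_le _)).2
    rw [Module.finrank_zero_of_subsingleton, Nat.sub_zero] at h1
    exact absurd h1.symm (Nat.choose_pos (by omega)).ne'
  · exact ProjCech.twist_vanish (R := k) n d 0 (fun h' => by omega) (fun h' => by omega)

/-- sections of the twists of an extension of `J(c)` by `O` -/
theorem h0_extension_iff {n : ℕ} (hn : 2 ≤ n) {S : ShortComplex (CohB1.ProjSpace n k).Modules} (hS : S.ShortExact)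
    {F : (CohB1.ProjSpace n k).Modules} {c : ℤ} (e₁ : S.X₁ ≅ Coh.structureModule (CohB1.ProjSpace n k))
    (e₃ : S.X₃ ≅ CohB1.tensorMod F (tO n k c)) (k₀ : ℤ) :
    Subsingleton (Coh.HH (CohB1.ProjSpace n k) (CohB1.tensorMod S.X₂ (tO n k k₀)) 0) ↔
      (k₀ < 0 ∧ ∀ d : ℤ, d ≤ c + k₀ →
        Subsingleton (Coh.HH (CohB1.ProjSpace n k) (CohB1.tensorMod F (tO n k d)) 0)) := by
  letI : (CohB1.ProjSpace n k).Over (Spec (CommRingCat.of k)) := ⟨CohB1.ProjSpace.toSpec n k⟩
  have hS' := CohFinite.shortExact_tmap (CohFinite.isInvertible_twist n k k₀) hS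
  let i₁ : CohB1.tensorMod S.X₁ (tO n k k₀) ≅ tO n k k₀ :=
    PicGrp.tensorModIso e₁ (Iso.refl _) ≪≫ TMul.leftUnitIso _
  obtain ⟨θ⟩ := TwistPairing.nonempty_twist_twist (R := k) n c k₀ (c + k₀) rfl
  let i₃ : CohB1.tensorMod S.X₃ (tO n k k₀) ≅ CohB1.tensorMod F (tO n k (c + k₀)) :=
    PicGrp.tensorModIso e₃ (Iso.refl _) ≪≫ TMul.assocIso _ _ _ ≪≫ PicGrp.tensorModIso (Iso.refl _) θ
  have h1 : Subsingleton (Coh.HH (CohB1.ProjSpace n k) (CohB1.tensorMod S.X₁ (tO n k k₀)) 1) :=
    CohQC.hh_subsingleton_of_iso i₁.symm 1 (ProjCech.twist_vanish (R := k) n k₀ 1 (fun h => by omega) (fun h => by omega))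
  constructor
  · intro h
    refine ⟨(subsingleton_h0_twist_iff (by omega) k₀).1 (CohQC.hh_subsingleton_of_iso i₁ 0
      (BlowPn.subsingleton_hh_X₁_zero hS' h)), fun d hd => subsingleton_twist_le F hd ?_⟩
    exact CohQC.hh_subsingleton_of_iso i₃ 0 (BlowPn.subsingleton_hh_X₃ hS' 0 h h1)
  · rintro ⟨hk, hF⟩
    have h₁ : Subsingleton (Coh.HH (CohB1.ProjSpace n k) (CohB1.tensorMod S.X₁ (tO n k k₀)) 0) :=
      CohQC.hh_subsingleton_of_iso i₁.symm 0 ((subsingleton_h0_twist_iff (by omega) k₀).2 hk)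
    have h₃ : Subsingleton (Coh.HH (CohB1.ProjSpace n k) (CohB1.tensorMod S.X₃ (tO n k k₀)) 0) :=
      CohQC.hh_subsingleton_of_iso i₃.symm 0 (hF _ le_rfl)
    refine subsingleton_of_forall_eq 0 fun x => ?_
    obtain ⟨y, rfl⟩ := (CohFinite.map_g_eq_zero_iff (CohQC.seq_shortExact hS') 0 x).1 (h₃.elim _ _)
    rw [show y = 0 from h₁.elim _ _, map_zero]

theorem subsingleton_h0_null (u : Twist.twistProjSpace 3 k (-1) ⟶ OmT 3 k) [Mono u] :
    Subsingleton (Coh.HH (CohB1.ProjSpace 3 k) (cokernel u) 0) :=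
  BlowPn.subsingleton_hh_X₃ (BlowPn.coker_shortExact u) 0 (subsingleton_omega_one 3)
    (ProjCech.twist_vanish (R := k) 3 (-1) 1 (fun h => by omega) (fun h => by omega))

end Groth.Agent.PnEuler
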