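import Groth.Agent.PnEuler.Tango
import Groth.Agent.PnEuler.SerreBundle
import Groth.Agent.Horrocks.Main
import Groth.Agent.CurveRR.Easy
import Groth.Agent.ProjMor.ProjSpaceBase

/-!
# Simple bundles of rank `n - 1` on `P^n`: existence
-/

set_option autoImplicit false
set_option backward.isDefEq.respectTransparency false
set_option backward.isDefEq.respectTransparency.types false
set_option linter.style.haveILetI false
set_option linter.unusedSectionVars false
set_option maxHeartbeats 1000000

universe u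

open CategoryTheory CategoryTheory.Limits AlgebraicGeometry TopologicalSpace Opposite Abelian
open Groth.Agent.QC
open Groth.Agent.CohFinite (tmap)
open Groth.Agent.PicBdd (scal scal_comp)

noncomputable section

namespace Groth.Agent.PnEuler

theorem subsingleton_sections {X : Scheme.{u}} {M : X.Modules} (h : Subsingleton (Coh.HH X M 0)) :
    Subsingleton Γ(M, ⊤) :=
  (Sheaf.H.equiv₀ (Coh.toAb M) (isTerminalTop (α := X.Opens))).symm.injective.subsingleton

theorem subsingleton_ext_left {C : Type*} [Category* C] [Abelian C] [HasExt C] {P P' G : C} (p : P' ≅ P) {m : ℕ}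
    (h : Subsingleton (Ext P G m)) : Subsingleton (Ext P' G m) := by
  refine subsingleton_of_forall_eq 0 fun x => ?_
  have h1 : (Ext.mk₀ p.inv).comp x (zero_add m) = 0 := h.elim _ _
  have h2 := congrArg (fun y => (Ext.mk₀ p.hom).comp y (zero_add m)) h1
  simpa using h2

theorem simple_tensor {X : Scheme.{u}} {L L' K P : X.Modules} (hL' : PicF.IsInvertible L')
    (η : CohB1.tensorMod L L' ≅ Coh.structureModule X) (hK : ∀ φ : K ⟶ K, ∃ a : Γ(X, ⊤), φ = scal a K)
    (κ : P ≅ CohB1.tensorMod K L) (γ : P ⟶ P) : ∃ a : Γ(X, ⊤), γ = scal a P := by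
  let δ := κ.inv ≫ γ ≫ κ.hom
  obtain ⟨a, ha⟩ := hK ((W7Slope.untw η K).inv ≫ tmap δ L' ≫ (W7Slope.untw η K).hom)
  refine ⟨a, ?_⟩
  have h1 : tmap δ L' = tmap (scal a (CohB1.tensorMod K L)) L' := by
    rw [BlowPn.tmap_scal, ← cancel_epi (W7Slope.untw η K).inv, ← cancel_mono (W7Slope.untw η K).hom,
      Category.assoc, ha, Category.assoc, scal_comp, Iso.inv_hom_id_assoc]
  have h2 : δ = scal a (CohB1.tensorMod K L) := by
    rw [← sub_eq_zero]
    refine LinRes.eq_zero_of_tmap hL' _ ?_
    rw [sub_eq_add_neg]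
    have h3 : tmap (δ + -scal a (CohB1.tensorMod K L)) L' + tmap (scal a (CohB1.tensorMod K L)) L' = tmap δ L' := by
      rw [← CohFinite.tmap_add, neg_add_cancel_right]
    rwa [h1, add_eq_right] at h3
  rw [← cancel_epi κ.inv, ← cancel_mono κ.hom, Category.assoc, Category.assoc, scal_comp, Iso.inv_hom_id_assoc]
  exact h2

theorem exists_simple_of_three_le {k : Type u} [Field k] [IsAlgClosed k] [CharZero k] {n : ℕ} (hn : 3 ≤ n) :
    ∃ F : (CohB1.ProjSpace n k).Modules, FlatMod.IsFinLocFreeOfRank (n - 1) F ∧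
      ∀ φ : F ⟶ F, ∃ c : k, φ = scal (Coh.toGlobal (CohB1.ProjSpace.toSpec n k) c) F := by
  haveI : AlgebraicGeometry.IsIntegral (CohB1.ProjSpace n k) := Horrocks.isIntegral_projSpace
  haveI := SerrePn.enoughInjectives (X := CohB1.ProjSpace n k)
  haveI : HasExt.{u} (CohB1.ProjSpace n k).Modules := hasExt_of_enoughInjectives _
  haveI : (CohB1.ProjSpace n k).Over (Spec (CommRingCat.of k)) := ⟨CohB1.ProjSpace.toSpec n k⟩
  obtain ⟨q, hq, ⟨ε⟩⟩ := exists_euler (k := k) n
  haveI := hq
  let g : k →+* Γ(CohB1.ProjSpace n k, ⊤) := Coh.toGlobal (CohB1.ProjSpace.toSpec n k)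
  have hg : Function.Surjective g := surjective_toGlobal (k := k) n
  have hL : PicF.IsInvertible (tO n k 1) := CohFinite.isInvertible_twist n k 1
  have hL' : PicF.IsInvertible (tO n k (-1)) := CohFinite.isInvertible_twist n k (-1)
  obtain ⟨η⟩ := nonempty_eta (k := k) n 1 (-1) (by norm_num)
  haveI := W7Slope.epi_tmap hL q
  have hqS : (ShortComplex.mk (kernel.ι q) q (kernel.condition q)).ShortExact :=
    { exact := ShortComplex.exact_kernel q }
  let κ : kernel (tmap q (tO n k 1)) ≅ CohB1.tensorMod (kernel q) (tO n k 1) :=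
    (limit.isLimit _).conePointUniqueUpToIso (CohFinite.shortExact_tmap hL hqS).fIsKernel
  have hfree : ∀ m, FlatMod.IsFinLocFreeOfRank m (FlatMod.freeMod (CohB1.ProjSpace n k) m) := fun m _ =>
    ⟨⊤, trivial, ⟨(Scheme.Modules.restrictFunctorIsoPullback (⊤ : (CohB1.ProjSpace n k).Opens).ι).app _ ≪≫
      DerPerf.pullFreeIso _ m⟩⟩
  have hPr : FlatMod.IsFinLocFreeOfRank n (kernel (tmap q (tO n k 1))) :=
    Nagata.isFinLocFreeOfRank_of_iso κ.symm
      (W7Slope.rank_tensor_inv (CycPB.isFinLocFreeOfRank_kernel q (hfree (n + 1)) hL) hL)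
  have hinj : ∀ e : Fin (n + 1) → k,
      ∑ b, g (e b) • q.app ⊤ (PBundle.bv (CohB1.ProjSpace n k) b) = 0 → e = 0 := fun e he => by
    let v := ∑ b, g (e b) • PBundle.bv (CohB1.ProjSpace n k) b
    have hv : q.app ⊤ v = 0 := by simp only [v, map_sum, Scheme.Modules.Hom.app_smul, he]
    have hu : CohQC.secHom v ≫ q = 0 := by
      rw [GenSection.secHom_comp, hv]
      refine Scheme.Modules.hom_ext _ _ fun W => ?_
      ext a
      rw [CohQC.secHom_app, map_zero, smul_zero]
      rfl
    have := subsingleton_sections (CohQC.hh_subsingleton_of_iso ε 0 (subsingleton_omega_one (k := k) n))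
    have hv0 : v = 0 := by
      let one : Γ(Coh.structureModule (CohB1.ProjSpace n k), ⊤) := (1 : Γ(CohB1.ProjSpace n k, ⊤))
      have h1 : (CohQC.secHom v).app ⊤ one = v := by rw [CohQC.secHom_app, one_smul, res_self]
      rw [← h1, ← kernel.lift_ι q (CohQC.secHom v) hu]
      change (kernel.ι q).app ⊤ ((kernel.lift q (CohQC.secHom v) hu).app ⊤ one) = 0
      rw [Subsingleton.elim ((kernel.lift q (CohQC.secHom v) hu).app ⊤ one) 0, map_zero]
    have hfr : TMul.IsFrame (fun b => PBundle.bv (CohB1.ProjSpace n k) b) := fun z hz => by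
      simpa using PBundle.isFrame_bv (CohB1.ProjSpace n k) (n + 1) z trivial
    have h0 : (hfr.equiv le_rfl) (fun b => g (e b)) = (hfr.equiv le_rfl) 0 := by
      rw [map_zero, ← hv0]
      simp [TMul.IsFrame.equiv, v]
      exact Finset.sum_congr rfl fun x _ => congrArg (g (e x) • ·) (res_self _ _ _)
    funext b
    have h1 := congrFun ((hfr.equiv le_rfl).injective h0) b
    exact g.injective (h1.trans g.map_zero.symm)
  have hK : ∀ φ : kernel q ⟶ kernel q, ∃ a, φ = scal a (kernel q) := fun φ => by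
    obtain ⟨c, hc⟩ := omegaOne_simple n (ε.hom ≫ φ ≫ ε.inv)
    refine ⟨g c, ?_⟩
    rw [← cancel_epi ε.hom, ← cancel_mono ε.inv, Category.assoc, Category.assoc, scal_comp, Iso.hom_inv_id_assoc]
    exact hc
  have hext : Subsingleton (Ext (kernel (tmap q (tO n k 1))) (Coh.structureModule (CohB1.ProjSpace n k)) 1) := by
    let S := ShortComplex.mk (kernel.ι (tmap q (tO n k 1))) (tmap q (tO n k 1)) (kernel.condition _)
    have hS : S.ShortExact := { exact := ShortComplex.exact_kernel _ }
    obtain ⟨φ⟩ := nonempty_tensor_free (T := tO n k 1) (n + 1)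
    obtain ⟨η'⟩ := nonempty_eta (k := k) n (-1) 1 (by norm_num)
    have h2 : Subsingleton (Ext S.X₂ (Coh.structureModule (CohB1.ProjSpace n k)) 1) :=
      subsingleton_ext_left φ (SerrePn.subsingleton_ext_coprod _ _ 1 fun _ =>
        SerrePn.subsingleton_ext_of_hh k hL hL' η η' 0 _
          (CohQC.hh_subsingleton_of_iso (TMul.leftUnitIso _).symm 1
            (ProjCech.twist_vanish (R := k) n (-1) 1 (fun h => by omega) (fun h => by omega))))
    obtain ⟨θ⟩ := TwistPairing.nonempty_twist_twist (R := k) n 1 1 2 (by norm_num)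
    obtain ⟨η₂⟩ := nonempty_eta (k := k) n 2 (-2) (by norm_num)
    obtain ⟨η₂'⟩ := nonempty_eta (k := k) n (-2) 2 (by norm_num)
    have h3 : Subsingleton (Ext S.X₃ (Coh.structureModule (CohB1.ProjSpace n k)) 2) :=
      subsingleton_ext_left θ (SerrePn.subsingleton_ext_of_hh k (CohFinite.isInvertible_twist n k 2)
        (CohFinite.isInvertible_twist n k (-2)) η₂ η₂' 1 _
          (CohQC.hh_subsingleton_of_iso (TMul.leftUnitIso _).symm 2
            (ProjCech.twist_vanish (R := k) n (-2) 2 (fun h => by omega) (fun h => by omega))))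
    refine subsingleton_of_forall_eq 0 fun x => ?_
    obtain ⟨y, hy⟩ := Ext.contravariant_sequence_exact₁ hS _ x (n₁ := 2) rfl (h3.elim _ _)
    rw [← hy, show y = 0 from h2.elim _ _, Ext.comp_zero]
  haveI := epi_wlift q g hL
  refine ⟨kernel (wlift q hL), ?_, kernel_wlift_simple q g hg hL hinj (simple_tensor hL' η hK κ) hext⟩
  have hKl := DCohLocus.isFinLocFree_kernel (wlift q hL) (Nagata.isFinLocFree_of_rank' (hfree (2 * n - 1)))
    (Nagata.isFinLocFree_of_rank' hPr)
  have hr := W7Slope.rank_of_isFinLocFree (LocFree.isQCoh_of_isFinLocFree hKl) hKl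
  have hS : (ShortComplex.mk (kernel.ι (wlift q hL)) (wlift q hL) (kernel.condition _)).ShortExact :=
    { exact := ShortComplex.exact_kernel _ }
  have := CurveRR.Easy.rank_add hS hr (hfree (2 * n - 1)) hPr
  rwa [show n - 1 = W7Slope.grk (kernel (wlift q hL)) by omega]

theorem exists_simple (k : Type u) [Field k] [IsAlgClosed k] [CharZero k] (n : ℕ) :
    ∃ F : (CohB1.ProjSpace n k).Modules, FlatMod.IsFinLocFreeOfRank (n - 1) F ∧
      ∀ φ : F ⟶ F, ∃ c : k, φ = scal (Coh.toGlobal (CohB1.ProjSpace.toSpec n k) c) F := by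
  rcases Nat.lt_or_ge n 3 with hn | hn
  · rcases Nat.lt_or_ge n 2 with h2 | h2
    · refine ⟨FlatMod.freeMod _ 0, fun _ => ?_, fun φ => ⟨0, Sigma.hom_ext _ _ fun l => l.elim0⟩⟩
      rw [show n - 1 = 0 by omega]
      exact ⟨⊤, trivial, ⟨(Scheme.Modules.restrictFunctorIsoPullback (⊤ : (CohB1.ProjSpace n k).Opens).ι).app _ ≪≫
        DerPerf.pullFreeIso _ 0⟩⟩
    · refine ⟨Coh.structureModule _, ?_, fun φ => ?_⟩
      · rw [show n - 1 = 1 by omega]
        exact CurveRR.isFinLocFreeOfRank_one (PicLoc.isInvertible_structureModule _)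
      · obtain ⟨a, rfl⟩ := BlowPn.exists_scal (TMul.leftUnitIso (Coh.structureModule _))
          (PicLoc.isInvertible_structureModule _) φ
        obtain ⟨c, rfl⟩ := surjective_toGlobal (k := k) n a
        exact ⟨c, rfl⟩
  · exact exists_simple_of_three_le hn

end Groth.Agent.PnEuler
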