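import Groth.Agent.PnEuler.RankTwoStable
import Groth.Agent.PnEuler.TangoMain
import Groth.Agent.ProjNoether.Const
import Groth.Agent.ZeroSch.Basic
import Groth.Agent.CycPB.Filt
import Groth.Agent.QuotProj.EpiIso

/-!
# Bundles with few-generated cokernel of a section split
-/

set_option autoImplicit false
set_option backward.isDefEq.respectTransparency false
set_option backward.isDefEq.respectTransparency.types false
set_option linter.style.haveILetI false
set_option linter.unusedSectionVars false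
set_option maxHeartbeats 1000000

universe u

open CategoryTheory CategoryTheory.Limits AlgebraicGeometry TopologicalSpace Opposite
open Groth.Agent.QC Groth.Agent.WeakAssLib
open Groth.Agent.CohFinite (tmap)
open Groth.Agent.PicBdd (scal scal_comp)

noncomputable section

namespace Groth.Agent.PnEuler

/-- a complemented summand mapping onto the subobject may be deleted -/
theorem isIso_complement {C : Type*} [Category* C] [Abelian C] {S : ShortComplex C} (hS : S.ShortExact) {A B : C}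
    (e : S.X₂ ≅ A ⊞ B) [IsIso (S.f ≫ e.hom ≫ biprod.fst)] : IsIso (biprod.inr ≫ e.inv ≫ S.g) := by
  haveI := hS.mono_f
  haveI := hS.epi_g
  let v := S.f ≫ e.hom ≫ biprod.fst
  haveI : Mono (biprod.inr ≫ e.inv ≫ S.g) := by
    refine Preadditive.mono_of_cancel_zero _ fun {T} x hx => ?_
    have h1 : (x ≫ biprod.inr ≫ e.inv) ≫ S.g = 0 := by simpa only [Category.assoc] using hx
    have h2 := hS.exact.lift_f (x ≫ biprod.inr ≫ e.inv) h1
    have h3 : hS.exact.lift (x ≫ biprod.inr ≫ e.inv) h1 ≫ v = 0 := by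
      simp only [v]
      rw [reassoc_of% h2]
      simp
    have h4 : hS.exact.lift (x ≫ biprod.inr ≫ e.inv) h1 = 0 := by rwa [← cancel_mono v, zero_comp]
    rw [h4, zero_comp] at h2
    have h5 := congrArg (· ≫ e.hom ≫ biprod.snd) h2
    simpa using h5.symm
  haveI : Epi (biprod.inr ≫ e.inv ≫ S.g) := by
    refine Preadditive.epi_of_cancel_zero _ fun {T} x hx => ?_
    rw [← cancel_epi S.g, comp_zero, ← cancel_epi e.inv, comp_zero]
    refine biprod.hom_ext' _ _ ?_ (by simpa only [Category.assoc, comp_zero] using hx)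
    have h1 : S.f ≫ S.g ≫ x = 0 := by rw [← Category.assoc, S.zero, zero_comp]
    have h2 : S.f = v ≫ biprod.inl ≫ e.inv + (S.f ≫ e.hom ≫ biprod.snd) ≫ biprod.inr ≫ e.inv := by
      have h := congrArg (fun z => S.f ≫ e.hom ≫ z ≫ e.inv) (biprod.total (X := A) (Y := B))
      simp only [Preadditive.add_comp, Preadditive.comp_add, Category.assoc, Category.id_comp, Iso.hom_inv_id,
        Category.comp_id] at h
      simpa only [v, Category.assoc] using h.symm
    rw [h2, Preadditive.add_comp] at h1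
    simp only [Category.assoc] at h1 hx
    rw [hx, comp_zero, comp_zero, comp_zero, add_zero] at h1
    rw [← cancel_epi v, comp_zero, comp_zero]
    exact h1
  exact isIso_of_mono_of_epi _

theorem total₃ {C : Type*} [Category* C] [Abelian C] (P Q R : C) :
    (biprod.fst : P ⊞ (Q ⊞ R) ⟶ P) ≫ biprod.inl + (biprod.snd ≫ biprod.fst) ≫ biprod.inl ≫ biprod.inr +
      (biprod.snd ≫ biprod.snd) ≫ biprod.inr ≫ biprod.inr = 𝟙 (P ⊞ (Q ⊞ R)) := by
  refine biprod.hom_ext _ _ ?_ (biprod.hom_ext _ _ ?_ ?_) <;> simp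

/-- swapping to the front -/
def front₁ {C : Type*} [Category* C] [Abelian C] (P Q R : C) : P ⊞ (Q ⊞ R) ≅ Q ⊞ (P ⊞ R) where
  hom := biprod.lift (biprod.snd ≫ biprod.fst) (biprod.lift biprod.fst (biprod.snd ≫ biprod.snd))
  inv := biprod.lift (biprod.snd ≫ biprod.fst) (biprod.lift biprod.fst (biprod.snd ≫ biprod.snd))
  hom_inv_id := biprod.hom_ext _ _ (by simp) (biprod.hom_ext _ _ (by simp) (by simp))
  inv_hom_id := biprod.hom_ext _ _ (by simp) (biprod.hom_ext _ _ (by simp) (by simp))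

/-- the last summand to the front -/
def front₂ {C : Type*} [Category* C] [Abelian C] (P Q R : C) : P ⊞ (Q ⊞ R) ≅ R ⊞ (P ⊞ Q) where
  hom := biprod.lift (biprod.snd ≫ biprod.snd) (biprod.lift biprod.fst (biprod.snd ≫ biprod.fst))
  inv := biprod.lift (biprod.snd ≫ biprod.fst) (biprod.lift (biprod.snd ≫ biprod.snd) biprod.fst)
  hom_inv_id := biprod.hom_ext _ _ (by simp) (biprod.hom_ext _ _ (by simp) (by simp))
  inv_hom_id := biprod.hom_ext _ _ (by simp) (biprod.hom_ext _ _ (by simp) (by simp))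

section Comp

variable {X : Scheme.{u}}

theorem rank_biprod {A B : X.Modules} {a b : ℕ} (hA : FlatMod.IsFinLocFreeOfRank a A)
    (hB : FlatMod.IsFinLocFreeOfRank b B) : FlatMod.IsFinLocFreeOfRank (a + b) (A ⊞ B) :=
  CycPB.isFinLocFreeOfRank_middle (S := ShortComplex.mk (biprod.inl : A ⟶ A ⊞ B) biprod.snd biprod.inl_snd)
    (ShortComplex.Splitting.ofHasBinaryBiproduct A B).shortExact hA hB

theorem stalk_free {M : X.Modules} {r : ℕ} (h : FlatMod.IsFinLocFreeOfRank r M) (x : X) :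
    Module.Free (X.presheaf.stalk x) (M.presheaf.stalk x) := by
  obtain ⟨U, e, hxU, he⟩ := CurveRR.exists_frame h x
  let φ := Fintype.linearCombination (X.presheaf.stalk x) fun i => mgerm M hxU (e i)
  have hφ : Function.Bijective φ := by
    convert he x hxU using 1
    funext c
    exact Fintype.linearCombination_apply _ _ _
  exact Module.Free.of_equiv (LinearEquiv.ofBijective φ hφ)

/-- a line subbundle has a nowhere vanishing component -/
theorem exists_surjective_component {S : ShortComplex X.Modules} (hS : S.ShortExact) (h₁ : PicF.IsInvertible S.X₁)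
    {r : ℕ} (h₃ : FlatMod.IsFinLocFreeOfRank r S.X₃) {ι : Type} [Fintype ι] (L : ι → X.Modules)
    (hL : ∀ j, PicF.IsInvertible (L j)) (i : ∀ j, L j ⟶ S.X₂) (p : ∀ j, S.X₂ ⟶ L j)
    (hip : ∑ j, p j ≫ i j = 𝟙 S.X₂) (x : X) : ∃ j, Function.Surjective (stalkHom (S.f ≫ p j) x) := by
  classical
  haveI := hS.mono_f
  haveI := hS.epi_g
  by_contra! hall
  obtain ⟨U, e, hxU, he⟩ := TMul.exists_isGen h₁ x
  have hfe := BlowExcBundle.isFrame_of_isGen he x hxU
  let γ := mgerm S.X₁ hxU e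
  have hc : ∀ j, ∃ (c : X.presheaf.stalk x) (w : (L j).presheaf.stalk x),
      stalkHom (S.f ≫ p j) x γ = c • w ∧ ¬ IsUnit c := fun j => by
    obtain ⟨V, e', hxV, he'⟩ := TMul.exists_isGen (hL j) x
    have hfe' := BlowExcBundle.isFrame_of_isGen he' x hxV
    obtain ⟨c, hc⟩ := hfe'.2 (stalkHom (S.f ≫ p j) x γ)
    simp only [Fin.sum_univ_one] at hc
    refine ⟨c 0, mgerm (L j) hxV e', hc.symm, fun hu => hall j fun y => ?_⟩
    obtain ⟨d, hd⟩ := hfe'.2 y
    simp only [Fin.sum_univ_one] at hd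
    refine ⟨(d 0 * ↑hu.unit⁻¹) • γ, ?_⟩
    rw [stalkHom_smul, ← hc, smul_smul, mul_assoc, IsUnit.val_inv_mul, mul_one, hd]
  choose c w hcw hcu using hc
  haveI := stalk_free h₃ x
  obtain ⟨σ, hσ⟩ := Module.projective_lifting_property (stalkL S.g x) LinearMap.id (fun y => by
    haveI : Epi ((DerSch.stalkFunctor X x).map S.g) := inferInstance
    exact (ModuleCat.epi_iff_surjective _).1 this y)
  have hdec : ∀ j, ∃ a : X.presheaf.stalk x, stalkHom (i j) x (w j) =
      σ (stalkL S.g x (stalkHom (i j) x (w j))) + a • stalkHom S.f x γ := fun j => by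
    obtain ⟨m, hm⟩ := stalk_exact S hS x (stalkHom (i j) x (w j) - σ (stalkL S.g x (stalkHom (i j) x (w j)))) (by
      change stalkL S.g x _ = 0
      rw [map_sub, ← LinearMap.comp_apply (stalkL S.g x) σ, hσ, LinearMap.id_apply, sub_self])
    obtain ⟨a, ha⟩ := hfe.2 m
    simp only [Fin.sum_univ_one] at ha
    refine ⟨a 0, ?_⟩
    rw [← stalkHom_smul, ha, hm, add_sub_cancel]
  choose a ha using hdec
  have hadd : ∀ (t : Finset ι) (m : S.X₁.presheaf.stalk x),
      stalkHom (∑ j ∈ t, (S.f ≫ p j) ≫ i j) x m = ∑ j ∈ t, stalkHom ((S.f ≫ p j) ≫ i j) x m := fun t m => by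
    induction t using Finset.induction_on with
    | empty => simpa using Horrocks.sh_zero x m
    | @insert b t hb ih => rw [Finset.sum_insert hb, Finset.sum_insert hb, Horrocks.sh_add, ih]
  have hsum : stalkHom S.f x γ = ∑ j, c j • stalkHom (i j) x (w j) := by
    have h1 : S.f = ∑ j, (S.f ≫ p j) ≫ i j := by
      simp only [Category.assoc, ← Preadditive.comp_sum, hip]
      exact (Category.comp_id _).symm
    conv_lhs => rw [h1]
    rw [hadd]
    exact Finset.sum_congr rfl fun j _ => by rw [Horrocks.sh_comp, hcw, stalkHom_smul]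
  have h0 : stalkL S.g x (stalkHom S.f x γ) = 0 := by
    change stalkHom S.g x _ = 0
    rw [← Horrocks.sh_comp, S.zero, Horrocks.sh_zero]
  have hz : ∑ j, c j • stalkL S.g x (stalkHom (i j) x (w j)) = 0 := by
    rw [hsum, map_sum] at h0
    rw [← h0]
    exact Finset.sum_congr rfl fun j _ => (map_smul _ _ _).symm
  have hkey : stalkHom S.f x γ = (∑ j, c j * a j) • stalkHom S.f x γ := by
    conv_lhs => rw [hsum]
    calc ∑ j, c j • stalkHom (i j) x (w j)
        = ∑ j, (σ (c j • stalkL S.g x (stalkHom (i j) x (w j))) + (c j * a j) • stalkHom S.f x γ) :=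
          Finset.sum_congr rfl fun j _ => by
            conv_lhs => rw [ha j]
            rw [smul_add, map_smul, smul_smul]
      _ = _ := by rw [Finset.sum_add_distrib, ← map_sum, hz, map_zero, zero_add, Finset.sum_smul]
  have hu : IsUnit (1 - ∑ j, c j * a j) := by
    refine IsLocalRing.isUnit_one_sub_self_of_mem_nonunits _ ?_
    intro h
    obtain ⟨j, -, hj⟩ := IsLocalRing.exists_of_isUnit_sum h
    exact hcu j (isUnit_of_mul_isUnit_left hj)
  have hγ : (1 - ∑ j, c j * a j) • γ = 0 := by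
    refine WeakAssLib.stalkHom_injective S.f x ?_
    rw [stalkHom_smul, sub_smul, one_smul, ← hkey, sub_self, map_zero]
  have h2 := congrFun (hfe.1 (a₁ := fun _ : Fin 1 => 1 - ∑ j, c j * a j) (a₂ := 0) (by simpa using hγ)) 0
  exact hu.ne_zero h2

/-- the surjectivity locus of a map of line bundles is locally principal -/
theorem exists_principal_locus {L₁ L₂ : X.Modules} (h₁ : PicF.IsInvertible L₁) (h₂ : PicF.IsInvertible L₂)
    (φ : L₁ ⟶ L₂) (z : X) : ∃ (W : X.Opens) (g : Γ(X, W)), z ∈ W ∧ IsAffineOpen W ∧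
      ∀ y, y ∈ X.basicOpen g ↔ y ∈ W ∧ Function.Surjective (stalkHom φ y) := by
  obtain ⟨U₁, e₁, hz₁, he₁⟩ := TMul.exists_isGen h₁ z
  obtain ⟨U₂, e₂, hz₂, he₂⟩ := TMul.exists_isGen h₂ z
  obtain ⟨W, hW, hzW, hWU⟩ := exists_isAffineOpen_mem_and_subset (x := z) (U := U₁ ⊓ U₂) ⟨hz₁, hz₂⟩
  have hW₁ : W ≤ U₁ := fun y hy => (hWU hy).1
  have hW₂ : W ≤ U₂ := fun y hy => (hWU hy).2
  have hg₁ := he₁.res hW₁
  have hg₂ := he₂.res hW₂
  obtain ⟨g, hg⟩ := (hg₂ W le_rfl).2 (φ.app W (res L₁ hW₁ e₁))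
  simp only [res_self] at hg
  refine ⟨W, g, hzW, hW, fun y => ?_⟩
  have key : ∀ hy : y ∈ W, stalkHom φ y (mgerm L₁ hy (res L₁ hW₁ e₁)) =
      (X.presheaf.germ W y hy).hom g • mgerm L₂ hy (res L₂ hW₂ e₂) := fun hy => by
    rw [stalkHom_germ, ← hg, mgerm_smul]
  constructor
  · intro h
    have hy : y ∈ W := X.basicOpen_le g h
    refine ⟨hy, fun v => ?_⟩
    obtain ⟨d, hd⟩ := (BlowExcBundle.isFrame_of_isGen hg₂ y hy).2 v
    simp only [Fin.sum_univ_one] at hd
    have hu := (X.mem_basicOpen g y hy).1 h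
    refine ⟨(d 0 * ↑hu.unit⁻¹) • mgerm L₁ hy (res L₁ hW₁ e₁), ?_⟩
    rw [stalkHom_smul, key, smul_smul, mul_assoc, IsUnit.val_inv_mul, mul_one, hd]
  · rintro ⟨hy, hs⟩
    rw [X.mem_basicOpen g y hy]
    obtain ⟨v, hv⟩ := hs (mgerm L₂ hy (res L₂ hW₂ e₂))
    obtain ⟨d, hd⟩ := (BlowExcBundle.isFrame_of_isGen hg₁ y hy).2 v
    simp only [Fin.sum_univ_one] at hd
    rw [← hd, stalkHom_smul, key, smul_smul] at hv
    refine IsUnit.of_mul_eq_one_right (d 0) ?_
    exact congrFun ((BlowExcBundle.isFrame_of_isGen hg₂ y hy).1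
      (a₁ := fun _ : Fin 1 => d 0 * (X.presheaf.germ W y hy).hom g) (a₂ := 1) (by simpa using hv)) 0

end Comp

section Pn

variable {k : Type u} [Field k] {n : ℕ}

/-- few maps of line bundles, none of them an isomorphism, degenerate simultaneously -/
theorem exists_common_degenerate {m : ℕ} (hm : m ≤ n) {L : (CohB1.ProjSpace n k).Modules}
    (hL : PicF.IsInvertible L) (M : Fin m → (CohB1.ProjSpace n k).Modules) (hM : ∀ j, PicF.IsInvertible (M j))
    (v : ∀ j, L ⟶ M j) (hv : ∀ j, ¬ IsIso (v j)) :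
    ∃ x, ∀ j, ¬ Function.Surjective (stalkHom (v j) x) := by
  classical
  choose W g hzW hW hWg using fun j z => exists_principal_locus hL (hM j) (v j) z
  let O : Fin m → (CohB1.ProjSpace n k).Opens := fun j => ⨆ z, (CohB1.ProjSpace n k).basicOpen (g j z)
  have hO : ∀ j y, y ∈ O j ↔ Function.Surjective (stalkHom (v j) y) := fun j y => by
    refine ⟨fun h => ?_, fun h => Opens.mem_iSup.2 ⟨y, (hWg j y y).2 ⟨hzW j y, h⟩⟩⟩
    obtain ⟨z, hz⟩ := Opens.mem_iSup.1 h
    exact ((hWg j z y).1 hz).2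
  have key : ∀ j, ∃ (P : Ideal (MvPolynomial (Fin (n + 1)) k)) (π : MvPolynomial (Fin (n + 1)) k),
      P = Ideal.span {π} ∧ P.IsHomogeneous (CohB1.polyGrading n k) ∧ P ≠ ⊤ ∧
      ∀ z : ProjectiveSpectrum (CohB1.polyGrading n k), P ≤ z.asHomogeneousIdeal.toIdeal →
        z ∉ (O j : Set (CohB1.ProjSpace n k)) := fun j => by
    by_cases hne : (O j : Set (CohB1.ProjSpace n k)).Nonempty
    · refine ProjNoether.exists_principal (O j) (fun z => ⟨W j z, g j z, hzW j z, hW j z, ?_⟩) (fun htop => ?_) hne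
      · ext y
        exact (and_congr_right fun _ => hO j y).trans (hWg j z y).symm
      · haveI : Epi (v j) := Horrocks.epi_of_stalk _ fun x => (hO j x).1 (htop.ge (x := x) trivial)
        exact hv j (QuotProj.isIso_of_epi_rank (v j) (CurveRR.isFinLocFreeOfRank_one hL)
          (CurveRR.isFinLocFreeOfRank_one (hM j)))
    · exact ⟨⊥, 0, (Ideal.span_singleton_eq_bot.mpr rfl).symm, Ideal.IsHomogeneous.bot _, bot_ne_top,
        fun z _ hz => hne ⟨z, hz⟩⟩
  choose P π hP hh hne hzero using key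
  obtain ⟨z, hz⟩ := ProjNoether.exists_common_zero (k := k) (n := n) hm P π hP hh hne
  exact ⟨z, fun j hs => hzero j z (hz j) ((hO j z).2 hs)⟩

/-- a bundle spanned by three line bundles is split -/
theorem split_of_three [IsAlgClosed k] (hn : 3 ≤ n) {E : (CohB1.ProjSpace n k).Modules}
    (hE : FlatMod.IsFinLocFreeOfRank 2 E) (d : Fin 3 → ℤ)
    (Φ : tO n k (d 0) ⊞ (tO n k (d 1) ⊞ tO n k (d 2)) ⟶ E) [Epi Φ] :
    ∃ a b : ℤ, Nonempty (E ≅ tO n k a ⊞ tO n k b) := by
  classical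
  haveI : AlgebraicGeometry.IsIntegral (CohB1.ProjSpace n k) := Horrocks.isIntegral_projSpace
  haveI := CohFinite.isNoetherian_projSpace n k
  let A := fun j => tO n k (d j)
  have hA : ∀ j, PicF.IsInvertible (A j) := fun j => CohFinite.isInvertible_twist n k (d j)
  have hA1 := fun j => CurveRR.isFinLocFreeOfRank_one (hA j)
  have hF : FlatMod.IsFinLocFreeOfRank 3 (A 0 ⊞ (A 1 ⊞ A 2)) := rank_biprod (hA1 0) (rank_biprod (hA1 1) (hA1 2))
  have hKl := DCohLocus.isFinLocFree_kernel Φ (Nagata.isFinLocFree_of_rank' hF) (Nagata.isFinLocFree_of_rank' hE)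
  have hKr := W7Slope.rank_of_isFinLocFree (LocFree.isQCoh_of_isFinLocFree hKl) hKl
  let S := ShortComplex.mk (kernel.ι Φ) Φ (kernel.condition Φ)
  have hS : S.ShortExact := { exact := ShortComplex.exact_kernel Φ }
  have h3 := CurveRR.Easy.rank_add hS hKr hF hE
  have hK : PicF.IsInvertible S.X₁ := ZeroSch.isInvertible_of_rankOne (by
    rwa [show W7Slope.grk (kernel Φ) = 1 by omega] at hKr)
  let p : ∀ j, S.X₂ ⟶ A j := Fin.cases biprod.fst (Fin.cases (biprod.snd ≫ biprod.fst)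
    (Fin.cases (biprod.snd ≫ biprod.snd) fun j => j.elim0))
  let i : ∀ j, A j ⟶ S.X₂ := Fin.cases biprod.inl (Fin.cases (biprod.inl ≫ biprod.inr)
    (Fin.cases (biprod.inr ≫ biprod.inr) fun j => j.elim0))
  have hip : ∑ j, p j ≫ i j = 𝟙 S.X₂ := by
    rw [Fin.sum_univ_three]
    change biprod.fst ≫ biprod.inl + (biprod.snd ≫ biprod.fst) ≫ biprod.inl ≫ biprod.inr +
      (biprod.snd ≫ biprod.snd) ≫ biprod.inr ≫ biprod.inr = _
    exact total₃ (A 0) (A 1) (A 2)
  obtain ⟨j, hj⟩ : ∃ j, IsIso (S.f ≫ p j) := by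
    by_contra! hall
    obtain ⟨x, hx⟩ := exists_common_degenerate hn hK A hA (fun j => S.f ≫ p j) hall
    obtain ⟨j, hj⟩ := exists_surjective_component hS hK hE A hA i p hip x
    exact hx j hj
  fin_cases j
  · haveI : IsIso (S.f ≫ (Iso.refl S.X₂).hom ≫ biprod.fst) := by rw [Iso.refl_hom, Category.id_comp]; exact hj
    haveI := isIso_complement hS (Iso.refl S.X₂)
    exact ⟨_, _, ⟨(asIso (biprod.inr ≫ (Iso.refl S.X₂).inv ≫ S.g)).symm⟩⟩
  · let e : S.X₂ ≅ A 1 ⊞ (A 0 ⊞ A 2) := front₁ (A 0) (A 1) (A 2)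
    haveI : IsIso (S.f ≫ e.hom ≫ biprod.fst) := by
      rw [show e.hom ≫ biprod.fst = p 1 from biprod.lift_fst _ _]; exact hj
    haveI := isIso_complement hS e
    exact ⟨_, _, ⟨(asIso (biprod.inr ≫ e.inv ≫ S.g)).symm⟩⟩
  · let e : S.X₂ ≅ A 2 ⊞ (A 0 ⊞ A 1) := front₂ (A 0) (A 1) (A 2)
    haveI : IsIso (S.f ≫ e.hom ≫ biprod.fst) := by
      rw [show e.hom ≫ biprod.fst = p 2 from biprod.lift_fst _ _]; exact hj
    haveI := isIso_complement hS e
    exact ⟨_, _, ⟨(asIso (biprod.inr ≫ e.inv ≫ S.g)).symm⟩⟩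

/-- Serre bundles of complete intersections split, and conversely -/
theorem split_iff_ci [IsAlgClosed k] (hn : 3 ≤ n) (J : (CohB1.ProjSpace n k).Modules) (c : ℤ)
    {S : ShortComplex (CohB1.ProjSpace n k).Modules} (hS : S.ShortExact) (hE : FlatMod.IsFinLocFreeOfRank 2 S.X₂)
    (e₁ : S.X₁ ≅ Coh.structureModule (CohB1.ProjSpace n k))
    (e₃ : S.X₃ ≅ CohB1.tensorMod J (tO n k c)) :
    (∃ a' b' : ℤ, Nonempty (S.X₂ ≅ tO n k a' ⊞ tO n k b')) ↔
      ∃ (a b : ℤ) (ψ : tO n k (-a) ⊞ tO n k (-b) ⟶ J), Epi ψ := by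
  haveI := hS.mono_f
  haveI := hS.epi_g
  constructor
  · rintro ⟨a', b', ⟨e⟩⟩
    have hc := CohFinite.isInvertible_twist n k (-c)
    obtain ⟨η⟩ := nonempty_eta (k := k) n c (-c) (by ring)
    obtain ⟨θ₁⟩ := TwistPairing.nonempty_twist_twist (R := k) n a' (-c) (-(c - a')) (by ring)
    obtain ⟨θ₂⟩ := TwistPairing.nonempty_twist_twist (R := k) n b' (-c) (-(c - b')) (by ring)
    obtain ⟨τ⟩ := nonempty_tensor_biprod (A := tO n k a') (B := tO n k b') (T := tO n k (-c))
    haveI := W7Slope.epi_tmap hc (e.inv ≫ S.g ≫ e₃.hom)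
    refine ⟨c - a', c - b', (τ ≪≫ biprod.mapIso θ₁ θ₂).inv ≫ tmap (e.inv ≫ S.g ≫ e₃.hom) (tO n k (-c)) ≫
      (W7Slope.untw η J).hom, inferInstance⟩
  · rintro ⟨a, b, ψ, hψ⟩
    haveI := hψ
    have hc := CohFinite.isInvertible_twist n k c
    obtain ⟨θ₁⟩ := TwistPairing.nonempty_twist_twist (R := k) n (-a) c (c - a) (by ring)
    obtain ⟨θ₂⟩ := TwistPairing.nonempty_twist_twist (R := k) n (-b) c (c - b) (by ring)
    obtain ⟨τ⟩ := nonempty_tensor_biprod (A := tO n k (-a)) (B := tO n k (-b)) (T := tO n k c)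
    haveI := W7Slope.epi_tmap hc ψ
    let χ : tO n k (c - a) ⊞ tO n k (c - b) ⟶ S.X₃ := (τ ≪≫ biprod.mapIso θ₁ θ₂).inv ≫ tmap ψ (tO n k c) ≫ e₃.inv
    have hlift : ∀ (α : ℤ) (φ : tO n k α ⟶ S.X₃), ∃ ψ' : tO n k α ⟶ S.X₂, ψ' ≫ S.g = φ := fun α φ => by
      obtain ⟨η⟩ := nonempty_eta (k := k) n (-α) α (by ring)
      refine BlowPn.exists_lift η (CohFinite.isInvertible_twist n k (-α)) hS ?_ φ
      exact CohQC.hh_subsingleton_of_iso ((TMul.leftUnitIso _).symm ≪≫ PicGrp.tensorModIso e₁.symm (Iso.refl _)) 1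
        (ProjCech.twist_vanish (R := k) n (-α) 1 (fun h => by omega) (fun h => by omega))
    obtain ⟨l₁, hl₁⟩ := hlift _ (biprod.inl ≫ χ)
    obtain ⟨l₂, hl₂⟩ := hlift _ (biprod.inr ≫ χ)
    obtain ⟨z⟩ := PnHodge.nonempty_twist_zero_iso (n := n) (A := k)
    let d : Fin 3 → ℤ := ![0, c - a, c - b]
    let Φ : tO n k (d 0) ⊞ (tO n k (d 1) ⊞ tO n k (d 2)) ⟶ S.X₂ :=
      biprod.desc (z.hom ≫ e₁.inv ≫ S.f) (biprod.desc l₁ l₂)
    haveI : Epi Φ := by
      refine Preadditive.epi_of_cancel_zero _ fun {T} x hx => ?_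
      have h1 : S.f ≫ x = 0 := by
        rw [← cancel_epi e₁.inv, ← cancel_epi z.hom, comp_zero, comp_zero]
        have := congrArg (biprod.inl ≫ ·) hx
        simp only [Φ, biprod.inl_desc_assoc, Category.assoc, comp_zero] at this
        exact this
      have h2 := hS.exact.g_desc x h1
      have h3 : χ ≫ hS.exact.desc x h1 = 0 := by
        refine biprod.hom_ext' _ _ ?_ ?_
        · rw [← Category.assoc, ← hl₁, Category.assoc, h2, comp_zero]
          have := congrArg ((biprod.inl ≫ biprod.inr) ≫ ·) hx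
          simpa [Φ] using this
        · rw [← Category.assoc, ← hl₂, Category.assoc, h2, comp_zero]
          have := congrArg ((biprod.inr ≫ biprod.inr) ≫ ·) hx
          simpa [Φ] using this
      have h4 : hS.exact.desc x h1 = 0 := by rwa [← cancel_epi χ, comp_zero]
      rw [← h2, h4, comp_zero]
    exact split_of_three hn hE d Φ

end Pn

end Groth.Agent.PnEuler
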