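import Groth.Agent.PnEuler.RankTwo
import Groth.Agent.RefStalk.RankOne
import Groth.Agent.LocFree.SemiLocal
import Groth.Agent.PicPn.Main
import Groth.Agent.SerrePn.Local

/-!
# Kernels of degenerate endomorphisms of rank two bundles are invertible
-/

set_option autoImplicit false
set_option backward.isDefEq.respectTransparency false
set_option backward.isDefEq.respectTransparency.types false
set_option linter.style.haveILetI false
set_option linter.unusedSectionVars false
set_option maxHeartbeats 1000000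

universe u

open CategoryTheory CategoryTheory.Limits AlgebraicGeometry TopologicalSpace Opposite Groth.Agent.QC
  Groth.Agent.WeakAssLib

noncomputable section

namespace Groth.Agent.PnEuler

section Alg

variable {R : Type u} [CommRing R] [IsDomain R] [UniqueFactorizationMonoid R]

/-- a degenerate nonzero map out of `R²` has kernel free of rank one -/
theorem ker_equiv_of_pair {M : Type u} [AddCommGroup M] [Module R M] [Module.IsTorsionFree R M]
    (g : (Fin 2 → R) →ₗ[R] M) (l : M →ₗ[R] R) (hl : l.comp g ≠ 0) (hg : ¬ Function.Injective g) :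
    Nonempty (LinearMap.ker g ≃ₗ[R] R) := by
  classical
  letI := Classical.arbitrary (NormalizedGCDMonoid R)
  let p := l (g (Pi.single 0 1))
  let q := l (g (Pi.single 1 1))
  have hrow : ∀ v : Fin 2 → R, l (g v) = v 0 * p + v 1 * q := fun v => by
    have : v = v 0 • Pi.single 0 1 + v 1 • Pi.single 1 1 := by
      funext j; fin_cases j <;> simp
    conv_lhs => rw [this]
    simp only [map_add, map_smul, smul_eq_mul]
    rfl
  have hpq : p ≠ 0 ∨ q ≠ 0 := by
    by_contra! h
    exact hl (LinearMap.ext fun v => by rw [LinearMap.comp_apply, hrow, h.1, h.2]; simp)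
  obtain ⟨p', hp'⟩ := gcd_dvd_left p q
  obtain ⟨q', hq'⟩ := gcd_dvd_right p q
  set d := gcd p q with hd
  have hd0 : d ≠ 0 := fun h => by
    rw [h, zero_mul] at hp' hq'
    exact hpq.elim (· hp') (· hq')
  have hcop : IsUnit (gcd p' q') := by
    have h1 : Associated (gcd p q) (d * gcd p' q') := by
      conv_lhs => rw [hp', hq']
      exact gcd_mul_left' d p' q'
    obtain ⟨u, hu⟩ := h1.symm
    refine IsUnit.of_mul_eq_one (↑u : R) (mul_left_cancel₀ hd0 ?_)
    rw [mul_one, ← mul_assoc, hu]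
  have hv0 : ¬ (p' = 0 ∧ q' = 0) := fun ⟨h1, h2⟩ => by rw [h1, h2, gcd_zero_left, normalize_zero] at hcop; exact not_isUnit_zero hcop
  let v : Fin 2 → R := ![q', -p']
  have hv : ∀ w : Fin 2 → R, l (g w) = 0 → ∃ r : R, r • v = w := fun w hw => by
    rw [hrow, hp', hq'] at hw
    have h2 : w 0 * p' + w 1 * q' = 0 := by
      refine mul_left_cancel₀ hd0 ?_
      rw [mul_zero]
      linear_combination hw
    by_cases hq0 : q' = 0
    · have hp0 : p' ≠ 0 := fun h => hv0 ⟨h, hq0⟩
      rw [hq0, mul_zero, add_zero] at h2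
      rw [hq0, gcd_zero_right] at hcop
      obtain ⟨i, hi⟩ := (normalize_associated p').isUnit hcop |>.exists_left_inv
      refine ⟨-(w 1) * i, ?_⟩
      funext j
      fin_cases j
      · simp [v, hq0, (mul_eq_zero.1 h2).resolve_right hp0]
      · simp [v]; linear_combination (w 1) * hi
    · have hdiv : q' ∣ w 0 * p' := ⟨-(w 1), by linear_combination h2⟩
      obtain ⟨r, hr⟩ : q' ∣ w 0 := by
        rw [mul_comm] at hdiv
        exact (IsRelPrime.dvd_of_dvd_mul_left (gcd_isUnit_iff_isRelPrime.1 ((gcd_comm' q' p').symm.isUnit hcop)) hdiv)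
      refine ⟨r, ?_⟩
      funext j
      fin_cases j
      · simp [v, hr, mul_comm]
      · simp only [v, Pi.smul_apply, smul_eq_mul]
        refine mul_left_cancel₀ hq0 ?_
        simp
        linear_combination -h2 + p' * hr
  obtain ⟨w, hw, hw0⟩ : ∃ w, g w = 0 ∧ w ≠ 0 := by
    by_contra! h
    exact hg ((injective_iff_map_eq_zero g).2 h)
  obtain ⟨r, rfl⟩ := hv w (by rw [hw, map_zero])
  rw [map_smul] at hw
  have hgv : g v = 0 := (smul_eq_zero.1 hw).resolve_left fun h => hw0 (by rw [h, zero_smul])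
  have hv1 : v ≠ 0 := fun h => hw0 (by rw [h, smul_zero])
  let f : R →ₗ[R] LinearMap.ker g := LinearMap.toSpanSingleton R _ ⟨v, LinearMap.mem_ker.2 hgv⟩
  refine ⟨(LinearEquiv.ofBijective f ⟨(injective_iff_map_eq_zero f).2 fun a ha => ?_, fun x => ?_⟩).symm⟩
  · have h2 : a • v = 0 := congrArg Subtype.val ha
    exact (smul_eq_zero.1 h2).resolve_right hv1
  · obtain ⟨a, ha⟩ := hv x.1 (by rw [LinearMap.mem_ker.1 x.2, map_zero])
    exact ⟨a, Subtype.ext ha⟩

/-- a degenerate nonzero endomorphism of a free module of rank two -/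
theorem exists_ker_equiv {M N : Type u} [AddCommGroup M] [Module R M] [AddCommGroup N] [Module R N]
    (b : Module.Basis (ULift.{u} (Fin 2)) R M) (b' : Module.Basis (ULift.{u} (Fin 2)) R N)
    (f : M →ₗ[R] N) (hf : f ≠ 0) (hf' : ¬ Function.Injective f) : Nonempty (LinearMap.ker f ≃ₗ[R] R) := by
  let e : (Fin 2 → R) ≃ₗ[R] M := (b.reindex Equiv.ulift).equivFun.symm
  haveI : Module.IsTorsionFree R N := by
    haveI := Module.Free.of_basis b'
    infer_instance
  obtain ⟨i, hi⟩ : ∃ i, (b'.coord i).comp (f.comp e.toLinearMap) ≠ 0 := by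
    by_contra! h
    refine hf (LinearMap.ext fun m => b'.ext_elem fun i => ?_)
    have := LinearMap.congr_fun (h i) (e.symm m)
    simpa using this
  obtain ⟨k⟩ := ker_equiv_of_pair (f.comp e.toLinearMap) (b'.coord i) hi fun h => hf' fun x y hxy =>
    e.symm.injective (h (by simpa using hxy))
  exact ⟨(LinearEquiv.ofSubmodules e _ _ (by
    rw [LinearMap.ker_comp, Submodule.map_comap_eq_of_surjective e.surjective])).symm ≪≫ₗ k⟩

end Alg

section Scheme

variable {X : Scheme.{u}} [IsIntegral X]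

omit [IsIntegral X] in
/-- the stalk map, linearly -/
def stalkL {M N : X.Modules} (φ : M ⟶ N) (x : X) :
    M.presheaf.stalk x →ₗ[X.presheaf.stalk x] N.presheaf.stalk x :=
  { stalkHom φ x with map_smul' := fun r m => stalkHom_smul φ x r m }

/-- a nonzero map to a locally free module is nonzero at every stalk -/
theorem stalkHom_ne_zero {M N : X.Modules} (hM : Coh.IsQCoh M) (hN : FlatMod.IsFinLocFree N) (φ : M ⟶ N)
    (hφ : φ ≠ 0) (x : X) : stalkHom φ x ≠ 0 := by
  haveI : Coh.IsQCoh N := LocFree.isQCoh_of_isFinLocFree hN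
  have hT := isTorsionFree_of_isFinLocFree hN
  intro h
  obtain ⟨U, hU, hxU, -⟩ := exists_isAffineOpen_mem_and_subset (X := X) (x := x) (U := (⊤ : X.Opens)) trivial
  have hη : genericPoint X ∈ U := (genericPoint_specializes x).mem_open U.2 hxU
  have hU0 : ∀ t : Γ(M, U), φ.app U t = 0 := fun t => by
    have h1 : mgerm N hxU (φ.app U t) = 0 := by rw [← stalkHom_germ, h]; rfl
    obtain ⟨W, hxW, iW, iW', hW⟩ := TopCat.Presheaf.germ_eq N.presheaf x hxU hxU (φ.app U t) 0
      (h1.trans (map_zero _).symm)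
    refine RatFun.germ_generic_injective N hT hη ?_
    have hηW : genericPoint X ∈ W := (genericPoint_specializes x).mem_open W.2 hxW
    rw [← mgerm_res N iW.le hηW, show res N iW.le (φ.app U t) = res N iW'.le 0 from hW, map_zero, map_zero]
  refine hφ (Scheme.Modules.hom_ext _ _ fun V => ?_)
  ext t
  change φ.app V t = 0
  by_cases hV : genericPoint X ∈ V
  · refine RatFun.germ_generic_injective N hT hV ?_
    obtain ⟨a, s, ha, has⟩ := WeakAssLib.exists_germ hU (QC.isLoc_of_isQCoh hU (hM := hM)) hη (mgerm M hV t)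
    refine (WeakAssLib.isUnit_germ hU hη ha).smul_eq_zero.1 ?_
    rw [← stalkHom_germ, ← stalkHom_smul, has, stalkHom_germ, hU0, map_zero]
  · refine section_eq_of_locally fun y hy => ?_
    exact absurd ((genericPoint_specializes y).mem_open V.2 hy) hV

theorem stalk_kernel_equiv {M N : X.Modules} (φ : M ⟶ N) (x : X) :
    Nonempty ((kernel φ).presheaf.stalk x ≃ₗ[X.presheaf.stalk x] LinearMap.ker (stalkL φ x)) := by
  let f : (kernel φ).presheaf.stalk x →ₗ[X.presheaf.stalk x] LinearMap.ker (stalkL φ x) :=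
    LinearMap.codRestrict _ (stalkL (kernel.ι φ) x) fun z => by
      obtain ⟨W, hW, a, rfl⟩ := (kernel φ).presheaf.exists_germ_eq (x := x) z
      show stalkHom φ x (stalkHom (kernel.ι φ) x (mgerm _ hW a)) = 0
      rw [stalkHom_germ, stalkHom_germ,
        show φ.app W ((kernel.ι φ).app W a) = (kernel.ι φ ≫ φ).app W a from rfl, kernel.condition]
      exact map_zero _
  refine ⟨LinearEquiv.ofBijective f ⟨(injective_iff_map_eq_zero f).2 fun z hz => ?_, fun ⟨m, hm⟩ => ?_⟩⟩
  · obtain ⟨W, hW, a, rfl⟩ := (kernel φ).presheaf.exists_germ_eq (x := x) z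
    have hz' : mgerm M hW ((kernel.ι φ).app W a) = 0 := by
      rw [← stalkHom_germ]; exact congrArg Subtype.val hz
    obtain ⟨D, hxD, i, i', hD⟩ := TopCat.Presheaf.germ_eq M.presheaf x hW hW _ 0 (hz'.trans (map_zero _).symm)
    have h0 : res (kernel φ) i.le a = 0 := by
      refine (Groth.Agent.QC.mono_iff_app_injective (kernel.ι φ)).1 inferInstance D ?_
      rw [← app_res, map_zero, show res M i.le ((kernel.ι φ).app W a) = res M i'.le 0 from hD, map_zero]
    change mgerm (kernel φ) hW a = 0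
    rw [← mgerm_res (kernel φ) i.le hxD, h0, map_zero]
  · obtain ⟨W, hW, t, rfl⟩ := M.presheaf.exists_germ_eq (x := x) m
    have hm' : mgerm N hW (φ.app W t) = 0 := by rw [← stalkHom_germ]; exact hm
    obtain ⟨D, hxD, i, i', hD⟩ := TopCat.Presheaf.germ_eq N.presheaf x hW hW _ 0 (hm'.trans (map_zero _).symm)
    obtain ⟨a, ha⟩ := (QC.mem_range_kernel_app φ D (res M i.le t)).2 (by
      rw [← app_res, show res N i.le (φ.app W t) = res N i'.le 0 from hD, map_zero])
    refine ⟨mgerm (kernel φ) hxD a, Subtype.ext ?_⟩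
    show stalkHom (kernel.ι φ) x (mgerm (kernel φ) hxD a) = mgerm M hW t
    rw [stalkHom_germ, ha, mgerm_res]

/-- the kernel of a degenerate nonzero map of rank two bundles -/
theorem isInvertible_kernel [IsLocallyNoetherian X] (hreg : ∀ x : X, IsRegularLocalRing (X.presheaf.stalk x))
    {E E' A : X.Modules} (hE : FlatMod.IsFinLocFreeOfRank 2 E) (hE' : FlatMod.IsFinLocFreeOfRank 2 E')
    (hA : Coh.IsQCoh A) (ψ : E ⟶ E') (hψ : ψ ≠ 0) (w : A ⟶ E) (hw : w ≠ 0) (hwψ : w ≫ ψ = 0) :
    PicF.IsInvertible (kernel ψ) := by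
  have hEf := HNSplit.isFinLocFree_of_rank hE
  have hEf' := HNSplit.isFinLocFree_of_rank hE'
  have hK := QC.isCoh_kernel (CurveRR.isCoh_of_rank hE) (CurveRR.isCoh_of_rank hE').1 ψ
  refine RefStalk.isInvertible_of_stalk_equiv hK.1 hK.2 fun x => ?_
  haveI := hreg x
  haveI : UniqueFactorizationMonoid (X.presheaf.stalk x) := UFDLib.ufd_of_isRegularLocalRing _
  obtain ⟨U, hxU, ⟨e⟩⟩ := hE x
  obtain ⟨U', hxU', ⟨e'⟩⟩ := hE' x
  obtain ⟨b⟩ := LocFree.exists_basis_stalk e (LocFree.isQCoh_of_isFinLocFree hEf) hxU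
  obtain ⟨b'⟩ := LocFree.exists_basis_stalk e' (LocFree.isQCoh_of_isFinLocFree hEf') hxU'
  obtain ⟨k⟩ := stalk_kernel_equiv ψ x
  obtain ⟨k'⟩ := exists_ker_equiv b b' (stalkL ψ x)
    (fun h => stalkHom_ne_zero (LocFree.isQCoh_of_isFinLocFree hEf) hEf' ψ hψ x
      (AddMonoidHom.ext fun z => LinearMap.congr_fun h z)) fun hinj =>
      stalkHom_ne_zero hA hEf w hw x (AddMonoidHom.ext fun z => hinj (by
        obtain ⟨W, hW, a, rfl⟩ := A.presheaf.exists_germ_eq (x := x) z
        show stalkHom ψ x (stalkHom w x (mgerm A hW a)) = stalkHom ψ x 0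
        rw [stalkHom_germ, stalkHom_germ, show ψ.app W (w.app W a) = (w ≫ ψ).app W a from rfl, hwψ, map_zero]
        exact map_zero _))
  exact ⟨k ≪≫ₗ k'⟩

end Scheme

end Groth.Agent.PnEuler
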