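import Groth.Agent.PnEuler.PlaneSplit
import Groth.Agent.PlaneCurve.ZeroSeq
import Groth.Agent.W7Slope.H1Quot
import Groth.Agent.GrpAct.PointAlg
import Groth.Agent.Horrocks.Point
import Groth.Agent.CurveRR.GlobGen

/-!
# The sequence of a linear form, functorially in the form
-/

set_option autoImplicit false
set_option backward.isDefEq.respectTransparency false
set_option backward.isDefEq.respectTransparency.types false
set_option linter.style.haveILetI false
set_option linter.unusedSectionVars false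
set_option maxHeartbeats 1000000

universe u

open CategoryTheory CategoryTheory.Limits AlgebraicGeometry TopologicalSpace Opposite
open Groth.Agent.CohFinite
open Groth.Agent.QC (res resO res_res res_self res_smul resO_resO resO_self app_res)
open TMul (IsGen val tm homOf val_homOf)

noncomputable section

namespace Groth.Agent.PnEuler

theorem gen_tensor' {X : Scheme.{u}} {M N : X.Modules} (hM : PicF.IsInvertible M) (hN : FlatMod.IsFinLocFree N) :
    FlatMod.IsFinLocFree (CohB1.tensorMod M N) :=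
  ResDesc.isFinLocFree_tensorMod (ResDesc.isFinLocFree_of_isInvertible hM) hN

/-- a section locally nonzero is the kernel of restriction to its zeros -/
theorem exists_iso_lift {X : Scheme.{u}} [IsIntegral X] {L : X.Modules} (hL : PicF.IsInvertible L)
    (s : Coh.structureModule X ⟶ L)
    (hloc : ∀ x : X, ∃ (U : X.affineOpens) (e : Γ(L, U.1)) (c : Γ(X, U.1)),
      x ∈ U.1 ∧ IsGen e ∧ val s U.1 = c • e ∧ c ≠ 0) :
    ∃ t : Coh.structureModule X ≅ CohB1.tensorMod (ClSub.idealMod (PicF2.zeroScheme L s)) L,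
      t.hom ≫ tmap (ClSub.idealModι (PicF2.zeroScheme L s)) L = s ≫ (TMul.leftUnitIso L).inv := by
  let I := PicF2.zeroScheme L s
  have hI : BlowUp.IsEffCartierIdeal I := fun x => by
    obtain ⟨U, e, c, hx, he, hc, hc0⟩ := hloc x
    haveI : Nonempty U.1 := ⟨⟨x, hx⟩⟩
    exact ⟨U, hx, c, mem_nonZeroDivisors_of_ne_zero hc0, ZeroSch.ideal_zeroScheme_eq_span s hL U he hc⟩
  have hIi : PicF.IsInvertible (ClSub.idealMod I) := (Groth.Agent.S8914.result I).mpr hI
  have hS := shortExact_tmap hL (CurveRR.ideal_shortExact I)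
  have hz : (s ≫ (TMul.leftUnitIso L).inv) ≫ tmap (ClSub.toSubscheme I) L = 0 := by
    refine TMul.hom_ext_val (Groth.Agent.QC.section_eq_of_locally fun x _ => ?_)
    obtain ⟨U, e, c, hx, he, hc, -⟩ := hloc x
    refine ⟨U.1, le_top, hx, ?_⟩
    rw [TMul.res_val, TMul.res_val, TMul.val_comp, TMul.val_comp, hc]
    have h1 : (TMul.leftUnitIso L).inv.app U.1 (c • e) = tm (M := Coh.structureModule X) c e := by
      conv_lhs => rw [← CurveRR.leftUnitIso_tm L c e]
      exact congrArg (fun φ : CohB1.tensorMod (Coh.structureModule X) L ⟶ CohB1.tensorMod (Coh.structureModule X) L =>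
        φ.app U.1 (tm (M := Coh.structureModule X) c e)) (TMul.leftUnitIso L).hom_inv_id
    rw [h1, tmap_tm]
    obtain ⟨a, ha⟩ := (Groth.Agent.QC.mem_range_idealModι_affine I U c).mpr
      ((ZeroSch.ideal_zeroScheme_eq_span s hL U he hc).ge (Ideal.mem_span_singleton_self c))
    have h2 : (ClSub.toSubscheme I).app U.1 (show Γ(Coh.structureModule X, U.1) from c) = 0 := by
      rw [← ha]
      exact congrArg (fun φ : ClSub.idealMod I ⟶ ClSub.quotMod I => φ.app U.1 a)
        (kernel.condition (ClSub.toSubscheme I))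
    rw [h2, TMul.zero_tm]
    rfl
  let t : Coh.structureModule X ⟶ CohB1.tensorMod (ClSub.idealMod I) L := hS.fIsKernel.lift (KernelFork.ofι _ hz)
  have ht : t ≫ tmap (ClSub.idealModι I) L = s ≫ (TMul.leftUnitIso L).inv :=
    Fork.IsLimit.lift_ι' hS.fIsKernel _ hz
  have ht' : t ≫ CurveRR.idealIncl I L = s := by
    rw [CurveRR.idealIncl, ← Category.assoc, ht, Category.assoc, Iso.inv_hom_id, Category.comp_id]
  have htop : CohB1.genLocus _ t = ⊤ := top_le_iff.1 fun x _ => by
    obtain ⟨U, e, c, hx, he, hc, hc0⟩ := hloc x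
    obtain ⟨V, g, hxV, hg⟩ := TMul.exists_isGen hIi x
    obtain ⟨D, hD, hxD, hDle⟩ := exists_isAffineOpen_mem_and_subset (U := U.1 ⊓ V) (x := x) ⟨hx, hxV⟩
    have hDU : D ≤ U.1 := fun y hy => (hDle hy).1
    have hDV : D ≤ V := fun y hy => (hDle hy).2
    have hgD := (hg.res hDV)
    have heD := (he.res hDU)
    obtain ⟨r, hr⟩ := ((TMul.isGen_tm hgD heD) D le_rfl).2 (val t D)
    change r • res _ le_rfl _ = _ at hr
    rw [res_self] at hr
    refine (TMul.mem_genLocus_iff t).2 ⟨D, hxD, ?_⟩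
    rw [← hr]
    refine TMul.isGen_smul (TMul.isGen_tm hgD heD) ?_
    have hcD : val s D = resO X hDU c • res L hDU e := by rw [← TMul.res_val s hDU, hc, res_smul]
    let f : Γ(X, D) := (ClSub.idealModι I).app D (res _ hDV g)
    have h3 : val s D = (r * f) • res L hDU e := by
      rw [← ht', TMul.val_comp, ← hr, Scheme.Modules.Hom.app_smul, CurveRR.idealIncl_tm, smul_smul]
    have h4 : resO X hDU c = r * f := by
      refine (heD D le_rfl).1 ?_
      show resO X hDU c • res L le_rfl (res L hDU e) = _ • res L le_rfl (res L hDU e)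
      rw [res_self, ← hcD, h3]
    haveI : Nonempty D := ⟨⟨x, hxD⟩⟩
    have hc1 : resO X hDU c ≠ 0 := fun h => hc0 (map_injective_of_isIntegral X (homOfLE hDU) (h.trans (map_zero _).symm))
    have h5 := (Groth.Agent.QC.mem_range_idealModι_affine I ⟨D, hD⟩ f).1 ⟨_, rfl⟩
    rw [ZeroSch.ideal_zeroScheme_eq_span s hL ⟨D, hD⟩ heD hcD, Ideal.mem_span_singleton'] at h5
    obtain ⟨a, ha⟩ := h5
    refine IsUnit.of_mul_eq_one a ?_
    apply mul_right_cancel₀ hc1
    rw [one_mul]
    conv_rhs => rw [h4, ← ha]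
    ring
  haveI : IsIso t := by
    rw [Scheme.Modules.Hom.isIso_iff_isIso_app]
    intro V
    rw [ConcreteCategory.isIso_iff_bijective]
    have hg := TMul.isGen_genLocus t
    rw [htop] at hg
    have h1 := hg V le_top
    simp only [TMul.res_val] at h1
    rw [show (fun c : Γ(X, V) => c • val t V) = fun c => t.app V c from
      funext fun c => (TMul.app_eq_smul t c).symm] at h1
    exact h1
  exact ⟨asIso t, ht⟩

/-- the sequence `0 → O → L → L|_Z → 0` -/
theorem exists_zero_seq {X : Scheme.{u}} [IsIntegral X] {L : X.Modules} (hL : PicF.IsInvertible L)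
    (s : Coh.structureModule X ⟶ L) (hs : s ≠ 0) :
    ∃ (g : L ⟶ CohB1.tensorMod (ClSub.quotMod (PicF2.zeroScheme L s)) L) (w : s ≫ g = 0),
      (ShortComplex.mk s g w).ShortExact := by
  haveI := CurveRR.mono_of_ne_zero TMul.isInvertible_structureModule hL s hs
  obtain ⟨t, ht⟩ := exists_iso_lift hL s fun x => by
    obtain ⟨U, e, c, hU, hxU, -, he, hc⟩ := TMul.exists_coeff hL s (W := ⊤) (x := x) trivial
    refine ⟨⟨U, hU⟩, e, c, hxU, he, hc, fun h0 => ?_⟩
    haveI : Nonempty U := ⟨⟨x, hxU⟩⟩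
    have h1 : s.app U (show Γ(Coh.structureModule X, U) from (1 : Γ(X, U))) = 0 := by
      have hv : TMul.val s U = 0 := by rw [hc, h0, zero_smul]
      exact hv
    have h2 := (Groth.Agent.QC.mono_iff_app_injective s).1 inferInstance U (h1.trans (map_zero _).symm)
    exact one_ne_zero (α := Γ(X, U)) h2
  have hS := shortExact_tmap hL (CurveRR.ideal_shortExact (PicF2.zeroScheme L s))
  have hw : s ≫ (TMul.leftUnitIso L).inv ≫ tmap (ClSub.toSubscheme (PicF2.zeroScheme L s)) L = 0 := by
    rw [← Category.assoc, ← ht, Category.assoc]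
    exact (congrArg (t.hom ≫ ·) (show tmap (ClSub.idealModι _) L ≫ tmap (ClSub.toSubscheme _) L = 0 by rw [← tmap_comp, show ClSub.idealModι _ ≫ ClSub.toSubscheme (PicF2.zeroScheme L s) = 0 from kernel.condition _, tmap_zero])).trans comp_zero
  refine ⟨_, hw, ShortComplex.shortExact_of_iso ?_ hS⟩
  refine ShortComplex.isoMk t.symm (TMul.leftUnitIso L) (Iso.refl _) ?_ ?_
  · show t.inv ≫ s = tmap _ L ≫ (TMul.leftUnitIso L).hom
    rw [Iso.inv_comp_eq, ← Category.assoc, ht, Category.assoc, Iso.inv_hom_id, Category.comp_id]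
  · simp

variable {k : Type u} [Field k]

/-- multiplication by a linear form, with the cohomology of the hyperplane as cokernel -/
theorem exists_mult_seq {n : ℕ}
    (s : Coh.structureModule (CohB1.ProjSpace (n + 1) k) ⟶ tO (n + 1) k 1) (hs : s ≠ 0) :
    ∃ j : CohB1.ProjSpace n k ⟶ CohB1.ProjSpace (n + 1) k, IsClosedImmersion j ∧
      j ≫ CohB1.ProjSpace.toSpec (n + 1) k = CohB1.ProjSpace.toSpec n k ∧
      j.ker = PicF2.zeroScheme _ s ∧
      Nonempty ((Scheme.Modules.pullback j).obj (tO (n + 1) k 1) ≅ tO n k 1) ∧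
      ∀ G : (CohB1.ProjSpace (n + 1) k).Modules, FlatMod.IsFinLocFree G →
        ∃ (X₃ : (CohB1.ProjSpace (n + 1) k).Modules) (g : CohB1.tensorMod (tO (n + 1) k 1) G ⟶ X₃)
          (w : tmap s G ≫ g = 0), (ShortComplex.mk (tmap s G) g w).ShortExact ∧
          ∀ q, Subsingleton (Coh.HH (CohB1.ProjSpace n k)
              ((Scheme.Modules.pullback j).obj (CohB1.tensorMod (tO (n + 1) k 1) G)) q) →
            Subsingleton (Coh.HH (CohB1.ProjSpace (n + 1) k) X₃ q) := by
  haveI := Horrocks.isIntegral_projSpace (k := k) (n := n + 1)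
  obtain ⟨j, hjc, hj, hjk, hτ⟩ := exists_linear_immersion s hs
  haveI := hjc
  refine ⟨j, hjc, hj, hjk, hτ, fun G hG => ?_⟩
  have hT := CohFinite.isInvertible_twist (n + 1) k 1
  obtain ⟨g, w, hS⟩ := exists_zero_seq hT s hs
  have hSG := PnReg.shortExact_tensor hG hS
  refine ⟨_, tmap g G, _, hSG, fun q hq => ?_⟩
  letI : (CohB1.ProjSpace (n + 1) k).Over (Spec (CommRingCat.of k)) := ⟨CohB1.ProjSpace.toSpec (n + 1) k⟩
  let Z := PicF2.zeroScheme (tO (n + 1) k 1) s
  letI : Z.subscheme.Over (Spec (CommRingCat.of k)) := ⟨Z.subschemeι ≫ CohB1.ProjSpace.toSpec (n + 1) k⟩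
  have hk : j.ker = Z.subschemeι.ker := hjk.trans Z.ker_subschemeι.symm
  haveI := IsClosedImmersion.isIso_lift j Z.subschemeι hk
  let ψ := IsClosedImmersion.lift j Z.subschemeι hk.le
  have hfac : ψ ≫ j = Z.subschemeι := IsClosedImmersion.lift_fac _ _ _
  let G' := CohB1.tensorMod (tO (n + 1) k 1) G
  have hG' : FlatMod.IsFinLocFree G' := gen_tensor' hT hG
  have hq' : Subsingleton (Coh.HH Z.subscheme ((Scheme.Modules.pullback Z.subschemeι).obj G') q) := by
    rw [← hfac]
    exact CompInt.hh_pullback_comp _ _ _ q (CompInt.hh_pullback_of_ker_eq_bot ψ ψ.ker_eq_bot_of_isIso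
      (CohB1.ProjSpace.toSpec n k) _ (LocFree.isQCoh_of_isFinLocFree (SGA6Ext.isFinLocFree_pullback _ hG')) q hq)
  haveI : ((Scheme.Modules.pullback Z.subschemeι).obj G').IsQuasicoherent :=
    LocFree.isQCoh_of_isFinLocFree (SGA6Ext.isFinLocFree_pullback _ hG')
  exact CohQC.hh_subsingleton_of_iso
    (TMul.assocIso _ _ _ ≪≫ TMul.commIso _ _ ≪≫ (S0927.projIso Z.subschemeι G' hG').app (Coh.structureModule Z.subscheme) ≪≫
      (Scheme.Modules.pushforward Z.subschemeι).mapIso (TMul.commIso _ _ ≪≫ TMul.leftUnitIso _)).symm q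
    ((CompInt.hh_push_iff Z.subschemeι (CohB1.ProjSpace.toSpec (n + 1) k) _ q).1 hq')

end Groth.Agent.PnEuler
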