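import Groth.Agent.BlowPn.HomLift
import Mathlib.LinearAlgebra.Dimension.Free

/-!
# Scalar maps between free modules and kernels of maps out of free modules
-/

set_option autoImplicit false
set_option backward.isDefEq.respectTransparency false
set_option backward.isDefEq.respectTransparency.types false
set_option linter.style.haveILetI false
set_option linter.unusedSectionVars false
set_option maxHeartbeats 1000000

universe u

open CategoryTheory CategoryTheory.Limits AlgebraicGeometry TopologicalSpace Opposite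
open Groth.Agent.CohFinite (tmap)
open Groth.Agent.PicBdd (scal scal_comp)

noncomputable section

namespace Groth.Agent.PnEuler

attribute [local instance] Abelian.hasFiniteBiproducts

variable {X : Scheme.{u}}

/-- the inclusions -/
abbrev fι {a : ℕ} (j : Fin a) : Coh.structureModule X ⟶ FlatMod.freeMod X a :=
  Sigma.ι (fun _ : Fin a => Coh.structureModule X) j

variable {k : Type u} [Field k] (g : k →+* Γ(X, ⊤))

/-- the map of free modules given by a linear map -/
def linF {a b : ℕ} (f : (Fin a → k) →ₗ[k] (Fin b → k)) : FlatMod.freeMod X a ⟶ FlatMod.freeMod X b :=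
  Sigma.desc fun j => ∑ t, scal (g (f (Pi.single j 1) t)) (Coh.structureModule X) ≫ fι t

theorem ι_linF {a b : ℕ} (f : (Fin a → k) →ₗ[k] (Fin b → k)) (j : Fin a) :
    fι j ≫ linF g f = ∑ t, scal (g (f (Pi.single j 1) t)) (Coh.structureModule X) ≫ fι t :=
  Sigma.ι_desc _ _

theorem linF_comp {a b c : ℕ} (f : (Fin a → k) →ₗ[k] (Fin b → k)) (f' : (Fin b → k) →ₗ[k] (Fin c → k)) :
    linF g f ≫ linF g f' = linF g (f' ∘ₗ f) := by
  classical
  refine Sigma.hom_ext _ _ fun j => ?_
  show fι j ≫ linF g f ≫ linF g f' = fι j ≫ linF g (f' ∘ₗ f)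
  rw [← Category.assoc, ι_linF, ι_linF, Preadditive.sum_comp]
  simp only [Category.assoc, ι_linF, Preadditive.comp_sum]
  rw [Finset.sum_comm]
  refine Finset.sum_congr rfl fun u _ => ?_
  have key : (f' ∘ₗ f) (Pi.single j 1) u = ∑ t, f (Pi.single j 1) t * f' (Pi.single t 1) u := by
    have h : f (Pi.single j 1) = ∑ t, f (Pi.single j 1) t • (Pi.single t 1 : Fin b → k) :=
      pi_eq_sum_univ' (f (Pi.single j 1))
    calc (f' ∘ₗ f) (Pi.single j 1) u = f' (∑ t, f (Pi.single j 1) t • (Pi.single t 1 : Fin b → k)) u := by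
          rw [← h]; rfl
      _ = _ := by simp [map_sum, Finset.sum_apply]
  rw [key, map_sum, BlowPn.scal_sum, Preadditive.sum_comp]
  refine Finset.sum_congr rfl fun t _ => ?_
  rw [map_mul, BlowPn.scal_mul, Category.assoc]

theorem linF_id {a : ℕ} : linF g (LinearMap.id : (Fin a → k) →ₗ[k] (Fin a → k)) = 𝟙 (FlatMod.freeMod X a) := by
  classical
  refine Sigma.hom_ext _ _ fun j => ?_
  show fι j ≫ linF g LinearMap.id = fι j ≫ 𝟙 _
  rw [ι_linF, Category.comp_id, Finset.sum_eq_single j]
  · simp [BlowPn.scal_one]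
  · intro t _ htj
    simp [Pi.single_eq_of_ne htj, BlowPn.scal_zero]
  · simp

theorem linF_zero {a b : ℕ} : linF g (0 : (Fin a → k) →ₗ[k] (Fin b → k)) = 0 := by
  refine Sigma.hom_ext _ _ fun j => ?_
  show fι j ≫ linF g 0 = fι j ≫ 0
  rw [ι_linF, comp_zero]
  exact Finset.sum_eq_zero fun t _ => by simp [BlowPn.scal_zero]

theorem linF_add {a b : ℕ} (f f' : (Fin a → k) →ₗ[k] (Fin b → k)) : linF g (f + f') = linF g f + linF g f' := by
  refine Sigma.hom_ext _ _ fun j => ?_
  show fι j ≫ linF g (f + f') = fι j ≫ (linF g f + linF g f')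
  rw [Preadditive.comp_add, ι_linF, ι_linF, ι_linF, ← Finset.sum_add_distrib]
  refine Finset.sum_congr rfl fun t _ => ?_
  rw [LinearMap.add_apply, Pi.add_apply, map_add, BlowPn.scal_add, Preadditive.add_comp]

theorem exists_linF (hg : Function.Surjective g) {a b : ℕ} (φ : FlatMod.freeMod X a ⟶ FlatMod.freeMod X b) :
    ∃ f : (Fin a → k) →ₗ[k] (Fin b → k), φ = linF g f := by
  classical
  obtain ⟨π, hπ⟩ := LinRes.exists_total (b := b) (Coh.structureModule X)
  choose s hs using fun j t => BlowPn.exists_scal (TMul.leftUnitIso (Coh.structureModule X))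
    (PicLoc.isInvertible_structureModule X) (fι (X := X) j ≫ φ ≫ π t)
  choose c hc using fun j t => hg (s j t)
  let f : (Fin a → k) →ₗ[k] (Fin b → k) := (Pi.basisFun k (Fin a)).constr k c
  have hf : ∀ j, f (Pi.single j 1) = c j := fun j => by
    rw [← Pi.basisFun_apply]
    exact Module.Basis.constr_basis _ _ _ _
  refine ⟨f, Sigma.hom_ext _ _ fun j => ?_⟩
  show fι j ≫ φ = fι j ≫ linF g f
  rw [ι_linF, hf]
  conv_lhs => rw [← Category.comp_id φ, ← hπ, Preadditive.comp_sum, Preadditive.comp_sum]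
  refine Finset.sum_congr rfl fun t _ => ?_
  rw [hc, ← hs]
  simp only [Category.assoc]

/-- Splitting a free module along a surjective linear map. -/
theorem exists_split {a b : ℕ} (f : (Fin a → k) →ₗ[k] (Fin b → k)) (hf : Function.Surjective f) :
    ∃ (A : (Fin b → k) →ₗ[k] (Fin a → k)) (B : (Fin (a - b) → k) →ₗ[k] (Fin a → k))
      (C : (Fin a → k) →ₗ[k] (Fin (a - b) → k)),
      f ∘ₗ A = LinearMap.id ∧ C ∘ₗ A = 0 ∧ f ∘ₗ B = 0 ∧ C ∘ₗ B = LinearMap.id ∧
        A ∘ₗ f + B ∘ₗ C = LinearMap.id := by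
  obtain ⟨A, hA⟩ := f.exists_rightInverse_of_surjective (LinearMap.range_eq_top.2 hf)
  have hdim : Module.finrank k (LinearMap.ker f) = a - b := by
    have h := LinearMap.finrank_range_add_finrank_ker f
    rw [LinearMap.range_eq_top.2 hf, finrank_top, Module.finrank_fin_fun, Module.finrank_fin_fun] at h
    omega
  let e : (Fin (a - b) → k) ≃ₗ[k] LinearMap.ker f :=
    LinearEquiv.ofFinrankEq _ _ (by rw [hdim, Module.finrank_fin_fun])
  have hmem : ∀ x, x - A (f x) ∈ LinearMap.ker f := fun x => by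
    rw [LinearMap.mem_ker, map_sub, show f (A (f x)) = f x from LinearMap.congr_fun hA (f x), sub_self]
  let p : (Fin a → k) →ₗ[k] LinearMap.ker f := (LinearMap.id - A ∘ₗ f).codRestrict _ hmem
  have hp : ∀ x, (p x : Fin a → k) = x - A (f x) := fun x => rfl
  refine ⟨A, (LinearMap.ker f).subtype ∘ₗ e.toLinearMap, e.symm.toLinearMap ∘ₗ p, hA, ?_, ?_, ?_, ?_⟩
  · refine LinearMap.ext fun y => ?_
    show e.symm (p (A y)) = 0
    have : p (A y) = 0 := Subtype.ext (by
      rw [hp, show f (A y) = y from LinearMap.congr_fun hA y, sub_self]; rfl)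
    rw [this, map_zero]
  · exact LinearMap.ext fun y => LinearMap.mem_ker.1 (e y).2
  · refine LinearMap.ext fun y => ?_
    show e.symm (p (e y : Fin a → k)) = y
    have : p (e y : Fin a → k) = e y := Subtype.ext (by
      rw [hp, LinearMap.mem_ker.1 (e y).2, map_zero, sub_zero])
    rw [this, e.symm_apply_apply]
  · refine LinearMap.ext fun x => ?_
    show A (f x) + (e (e.symm (p x)) : Fin a → k) = x
    rw [e.apply_symm_apply, hp]
    abel

/-- The kernel of a map factoring through a split surjection. -/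
theorem nonempty_kernel_split {a b : ℕ} {T : X.Modules} (f : (Fin a → k) →ₗ[k] (Fin b → k))
    (hf : Function.Surjective f) (q : FlatMod.freeMod X b ⟶ T) :
    Nonempty (kernel (linF g f ≫ q) ≅ kernel q ⊞ FlatMod.freeMod X (a - b)) := by
  obtain ⟨A, B, C, h1, h2, h3, h4, h5⟩ := exists_split f hf
  have l1 : linF g A ≫ linF g f = 𝟙 _ := by rw [linF_comp, h1, linF_id]
  have l2 : linF g A ≫ linF g C = 0 := by rw [linF_comp, h2, linF_zero]
  have l3 : linF g B ≫ linF g f = 0 := by rw [linF_comp, h3, linF_zero]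
  have l4 : linF g B ≫ linF g C = 𝟙 _ := by rw [linF_comp, h4, linF_id]
  have l5 : linF g f ≫ linF g A + linF g C ≫ linF g B = 𝟙 _ := by
    rw [linF_comp, linF_comp, ← linF_add, h5, linF_id]
  let to₁ : kernel (linF g f ≫ q) ⟶ kernel q :=
    kernel.lift q (kernel.ι (linF g f ≫ q) ≫ linF g f) (by rw [Category.assoc, kernel.condition])
  let to₂ : kernel (linF g f ≫ q) ⟶ FlatMod.freeMod X (a - b) := kernel.ι (linF g f ≫ q) ≫ linF g C
  let from₁ : kernel q ⟶ kernel (linF g f ≫ q) :=
    kernel.lift _ (kernel.ι q ≫ linF g A) (by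
      rw [Category.assoc, ← Category.assoc (linF g A), l1, Category.id_comp, kernel.condition])
  let from₂ : FlatMod.freeMod X (a - b) ⟶ kernel (linF g f ≫ q) :=
    kernel.lift _ (linF g B) (by rw [← Category.assoc, l3, zero_comp])
  refine ⟨⟨biprod.lift to₁ to₂, biprod.desc from₁ from₂, ?_, ?_⟩⟩
  · rw [biprod.lift_desc, ← cancel_mono (kernel.ι (linF g f ≫ q)), Category.id_comp, Preadditive.add_comp]
    simp only [to₁, to₂, from₁, from₂, Category.assoc, kernel.lift_ι, kernel.lift_ι_assoc]
    rw [← Preadditive.comp_add, l5, Category.comp_id]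
  · refine biprod.hom_ext' _ _ (biprod.hom_ext _ _ ?_ ?_) (biprod.hom_ext _ _ ?_ ?_)
    · rw [biprod.inl_desc_assoc, Category.comp_id, biprod.inl_fst, Category.assoc, biprod.lift_fst,
        ← cancel_mono (kernel.ι q), Category.id_comp]
      simp only [to₁, from₁, Category.assoc, kernel.lift_ι, kernel.lift_ι_assoc]
      rw [l1, Category.comp_id]
    · rw [biprod.inl_desc_assoc, Category.comp_id, biprod.inl_snd, Category.assoc, biprod.lift_snd]
      simp only [to₂, from₁, kernel.lift_ι_assoc, Category.assoc]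
      rw [l2, comp_zero]
    · rw [biprod.inr_desc_assoc, Category.comp_id, biprod.inr_fst, Category.assoc, biprod.lift_fst,
        ← cancel_mono (kernel.ι q), zero_comp]
      simp only [to₁, from₂, Category.assoc, kernel.lift_ι, kernel.lift_ι_assoc]
      exact l3
    · rw [biprod.inr_desc_assoc, Category.comp_id, biprod.inr_snd, Category.assoc, biprod.lift_snd]
      simp only [to₂, from₂, kernel.lift_ι_assoc]
      exact l4

/-- A map through a non-surjective linear map factors through fewer generators. -/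
theorem exists_fewer {a m : ℕ} (f : (Fin a → k) →ₗ[k] (Fin (m + 1) → k)) (hf : ¬ Function.Surjective f) :
    ∃ (A : (Fin a → k) →ₗ[k] (Fin m → k)) (B : (Fin m → k) →ₗ[k] (Fin (m + 1) → k)), B ∘ₗ A = f := by
  have hlt : Module.finrank k (LinearMap.range f) ≤ Module.finrank k (Fin m → k) := by
    have h := Submodule.finrank_lt (s := LinearMap.range f) (fun h => hf (LinearMap.range_eq_top.1 h))
    rw [Module.finrank_fin_fun] at h ⊢
    omega
  rw [Module.finrank_fin_fun] at hlt
  let e : (Fin (Module.finrank k (LinearMap.range f)) → k) ≃ₗ[k] LinearMap.range f :=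
    LinearEquiv.ofFinrankEq _ _ (Module.finrank_fin_fun k)
  let p : (Fin m → k) →ₗ[k] LinearMap.range f := e.toLinearMap ∘ₗ LinearMap.funLeft k k (Fin.castLE hlt)
  have hp' : Function.Surjective p :=
    e.surjective.comp (LinearMap.funLeft_surjective_of_injective k k _ (Fin.castLE_injective hlt))
  obtain ⟨j, hp⟩ := p.exists_rightInverse_of_surjective (LinearMap.range_eq_top.2 hp')
  refine ⟨j ∘ₗ f.rangeRestrict, (LinearMap.range f).subtype ∘ₗ p, LinearMap.ext fun x => ?_⟩
  show ((p (j (f.rangeRestrict x))) : Fin (m + 1) → k) = f x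
  rw [show p (j (f.rangeRestrict x)) = f.rangeRestrict x from LinearMap.congr_fun hp _]
  rfl

section Tensor

variable {A B : X.Modules} (T : X.Modules)

/-- tensoring a binary sum -/
theorem nonempty_tensor_biprod :
    Nonempty (CohB1.tensorMod (A ⊞ B) T ≅ CohB1.tensorMod A T ⊞ CohB1.tensorMod B T) := by
  refine ⟨⟨biprod.lift (tmap biprod.fst T) (tmap biprod.snd T), biprod.desc (tmap biprod.inl T) (tmap biprod.inr T), ?_, ?_⟩⟩
  · rw [biprod.lift_desc, ← CohFinite.tmap_comp, ← CohFinite.tmap_comp, ← CohFinite.tmap_add, biprod.total,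
      CohFinite.tmap_id]
  · refine biprod.hom_ext' _ _ (biprod.hom_ext _ _ ?_ ?_) (biprod.hom_ext _ _ ?_ ?_) <;>
      simp only [biprod.inl_desc_assoc, biprod.inr_desc_assoc, Category.comp_id, Category.assoc, biprod.lift_fst,
        biprod.lift_snd, ← CohFinite.tmap_comp, biprod.inl_fst, biprod.inl_snd, biprod.inr_fst, biprod.inr_snd,
        CohFinite.tmap_id, CohFinite.tmap_zero]

/-- tensoring a free module -/
theorem nonempty_tensor_free (c : ℕ) :
    Nonempty (CohB1.tensorMod (FlatMod.freeMod X c) T ≅ ∐ fun _ : Fin c => T) := by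
  classical
  let δ : Fin c → (FlatMod.freeMod X c ⟶ Coh.structureModule X) := fun i =>
    Sigma.desc fun j => if j = i then 𝟙 _ else 0
  have hid : (∑ i, δ i ≫ fι i) = 𝟙 (FlatMod.freeMod X c) := by
    refine Sigma.hom_ext _ _ fun j => ?_
    rw [Preadditive.comp_sum, Finset.sum_eq_single j]
    · simp [δ, fι]
    · intro i _ hij
      simp [δ, fι, Ne.symm hij]
    · simp
  let ι' := fun t : Fin c => Sigma.ι (fun _ : Fin c => T) t
  refine ⟨⟨∑ i, tmap (δ i) T ≫ (TMul.leftUnitIso T).hom ≫ ι' i,
    Sigma.desc fun t => (TMul.leftUnitIso T).inv ≫ tmap (fι t) T, ?_, ?_⟩⟩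
  · rw [Preadditive.sum_comp]
    simp only [Category.assoc, ι', Sigma.ι_desc, Iso.hom_inv_id_assoc, ← CohFinite.tmap_comp]
    rw [← CohFinite.tmap_sum, hid, CohFinite.tmap_id]
  · refine Sigma.hom_ext _ _ fun t => ?_
    rw [Sigma.ι_desc_assoc, Category.comp_id, Category.assoc, Preadditive.comp_sum, Preadditive.comp_sum,
      Finset.sum_eq_single t]
    · rw [← Category.assoc (tmap (fι t) T), ← CohFinite.tmap_comp]
      simp [δ, fι, ι', CohFinite.tmap_id]
    · intro i _ hit
      rw [← Category.assoc (tmap (fι t) T), ← CohFinite.tmap_comp]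
      simp [δ, fι, Ne.symm hit, CohFinite.tmap_zero]
    · simp

end Tensor

section Extend

variable {F T : X.Modules} (q : F ⟶ T) [Epi q]

/-- endomorphisms of a kernel extend when the extension group vanishes -/
theorem exists_extend {L' : X.Modules} (η : CohB1.tensorMod L' T ≅ Coh.structureModule X) (hL' : PicF.IsInvertible L')
    (h : Subsingleton (Coh.HH X (CohB1.tensorMod F L') 1)) (φ : kernel q ⟶ F) :
    ∃ ψ : F ⟶ F, kernel.ι q ≫ ψ = φ := by
  let inr' : F ⟶ pushout (kernel.ι q) φ := pushout.inr _ _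
  let v : pushout (kernel.ι q) φ ⟶ T := pushout.desc q 0 (by rw [kernel.condition, comp_zero])
  haveI : Mono inr' := inferInstanceAs (Mono (pushout.inr (kernel.ι q) φ))
  haveI : Epi v := by
    haveI : Epi (pushout.inl (kernel.ι q) φ ≫ v) := by rw [pushout.inl_desc]; infer_instance
    exact epi_of_epi (pushout.inl (kernel.ι q) φ) v
  have hw : inr' ≫ v = 0 := pushout.inr_desc _ _ _
  have hq : (ShortComplex.mk (kernel.ι q) q (kernel.condition q)).Exact := ShortComplex.exact_kernel q
  have hlim : IsColimit (CokernelCofork.ofπ v hw) := by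
    haveI : Epi (ShortComplex.mk (kernel.ι q) q (kernel.condition q)).g := ‹Epi q›
    refine CokernelCofork.IsColimit.ofπ v hw (fun {Z} x hx => hq.desc (pushout.inl (kernel.ι q) φ ≫ x) (by
      change kernel.ι q ≫ pushout.inl (kernel.ι q) φ ≫ x = 0
      rw [← Category.assoc, pushout.condition, Category.assoc, hx, comp_zero])) (fun {Z} x hx => ?_) fun {Z} x hx m hm => ?_
    · refine pushout.hom_ext ?_ ?_
      · rw [← Category.assoc, pushout.inl_desc]
        exact hq.g_desc _ _
      · rw [← Category.assoc, pushout.inr_desc, zero_comp]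
        exact hx.symm
    · rw [← cancel_epi q]
      refine Eq.trans ?_ (hq.g_desc _ _).symm
      rw [← hm, ← Category.assoc, pushout.inl_desc]
  have hS : (ShortComplex.mk inr' v hw).ShortExact :=
    { exact := ShortComplex.exact_of_g_is_cokernel _ hlim }
  obtain ⟨s, hs⟩ := BlowPn.exists_lift η hL' hS h (𝟙 T)
  change s ≫ v = 𝟙 T at hs
  haveI : Mono (ShortComplex.mk inr' v hw).f := ‹Mono inr'›
  let r := hS.exact.lift (𝟙 (pushout (kernel.ι q) φ) - v ≫ s) (by
    show (𝟙 _ - v ≫ s) ≫ v = 0
    rw [Preadditive.sub_comp, Category.assoc, hs, Category.comp_id, Category.id_comp, sub_self])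
  have hr : r ≫ inr' = 𝟙 _ - v ≫ s := hS.exact.lift_f _ _
  have hinr : inr' ≫ r = 𝟙 F := by
    rw [← cancel_mono inr', Category.assoc, hr, Preadditive.comp_sub, Category.comp_id, ← Category.assoc, hw,
      zero_comp, sub_zero, Category.id_comp]
  refine ⟨pushout.inl (kernel.ι q) φ ≫ r, ?_⟩
  rw [← Category.assoc, pushout.condition, Category.assoc]
  exact (congrArg (φ ≫ ·) hinr).trans (Category.comp_id φ)

/-- endomorphisms of a kernel are scalars -/
theorem kernel_simple {L' : X.Modules} (η : CohB1.tensorMod L' T ≅ Coh.structureModule X) (hL' : PicF.IsInvertible L')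
    (h : Subsingleton (Coh.HH X (CohB1.tensorMod F L') 1)) (hzero : ∀ χ : F ⟶ kernel q, χ = 0)
    (φ : kernel q ⟶ kernel q) : ∃ a : Γ(X, ⊤), φ = scal a (kernel q) := by
  obtain ⟨ψ, hψ⟩ := exists_extend q η hL' h (φ ≫ kernel.ι q)
  have hq : (ShortComplex.mk (kernel.ι q) q (kernel.condition q)).Exact := ShortComplex.exact_kernel q
  haveI : Epi (ShortComplex.mk (kernel.ι q) q (kernel.condition q)).g := ‹Epi q›
  let χ := hq.desc (ψ ≫ q) (by
    show kernel.ι q ≫ ψ ≫ q = 0
    rw [← Category.assoc, hψ, Category.assoc, kernel.condition, comp_zero])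
  obtain ⟨a, ha⟩ := BlowPn.exists_scal η hL' χ
  refine ⟨a, ?_⟩
  have h0 : (ψ - scal a F) ≫ q = 0 := by
    rw [Preadditive.sub_comp, scal_comp, ← ha, sub_eq_zero]
    exact (hq.g_desc _ _).symm
  have h1 := hzero (kernel.lift q (ψ - scal a F) h0)
  have h2 : ψ - scal a F = 0 := by
    rw [← kernel.lift_ι q (ψ - scal a F) h0, h1, zero_comp]
  rw [← cancel_mono (kernel.ι q), ← hψ, sub_eq_zero.1 h2, scal_comp]

end Extend

end Groth.Agent.PnEuler
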