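import Groth.Agent.PnEuler.SerreBundle
import Groth.Agent.HypIso.Main
import Groth.Agent.AbelMap.Section
import Groth.Agent.LefZero.Inverse
import Groth.Agent.HodgeCI.Div
import Groth.Agent.CompInt.Cohom
import Groth.Agent.CurveVA.Criterion
import Groth.Agent.CurveRR.Deg
import Groth.Agent.CurveRR.Easy3
import Groth.Agent.Horrocks.Bundles

/-!
# Hyperplanes through a linear subspace of projective space
-/

set_option autoImplicit false
set_option backward.isDefEq.respectTransparency false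
set_option backward.isDefEq.respectTransparency.types false
set_option linter.style.haveILetI false
set_option linter.unusedSectionVars false
set_option maxHeartbeats 1000000

universe u

open CategoryTheory CategoryTheory.Limits AlgebraicGeometry TopologicalSpace Opposite Groth.Agent.QC

noncomputable section

namespace Groth.Agent.PnEuler

variable {k : Type u} [Field k]

/-- a linear form vanishing on a linear subspace -/
theorem exists_form_vanishing {m n : ℕ} (hmn : m ≤ n) (i : CohB1.ProjSpace m k ⟶ CohB1.ProjSpace (n + 1) k)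
    (hi : i ≫ CohB1.ProjSpace.toSpec (n + 1) k = CohB1.ProjSpace.toSpec m k)
    (hO : Nonempty ((Scheme.Modules.pullback i).obj (tO (n + 1) k 1) ≅ tO m k 1)) :
    ∃ s : Coh.structureModule (CohB1.ProjSpace (n + 1) k) ⟶ tO (n + 1) k 1,
      s ≠ 0 ∧ AbelMap.pullSec i s = 0 := by
  obtain ⟨w⟩ := hO
  letI : (CohB1.ProjSpace (n + 1) k).Over (Spec (CommRingCat.of k)) := ⟨CohB1.ProjSpace.toSpec (n + 1) k⟩
  letI : (CohB1.ProjSpace m k).Over (Spec (CommRingCat.of k)) := ⟨CohB1.ProjSpace.toSpec m k⟩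
  haveI : IsProper (CohB1.ProjSpace (n + 1) k ↘ Spec (CommRingCat.of k)) := ProjMor.isProper_toSpec (n + 1) k
  haveI : IsProper (CohB1.ProjSpace m k ↘ Spec (CommRingCat.of k)) := ProjMor.isProper_toSpec m k
  letI m1 := CurveRR.secMod k (tO (n + 1) k 1) ⊤
  letI m2 := CurveRR.secMod k ((Scheme.Modules.pullback i).obj (tO (n + 1) k 1)) ⊤
  have hd : ∀ N : ℕ, Module.Finite k (Coh.HH (CohB1.ProjSpace N k) (tO N k 1) 0) ∧
      Module.finrank k (Coh.HH (CohB1.ProjSpace N k) (tO N k 1) 0) = N + 1 := fun N => by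
    obtain ⟨h1, h2⟩ := PnHodge.twist_h0 (n := N) (k := k) 0 1 (Nat.zero_le _)
    simp only [Nat.cast_one, Nat.cast_zero, sub_zero, Nat.sub_zero] at h1 h2
    exact ⟨h1, h2.trans (Nat.choose_succ_self_right N)⟩
  have eP := CohFinite.hhEquiv k w 0
  haveI := (hd (n + 1)).1
  haveI := (hd m).1
  haveI : Module.Finite k Γ(tO (n + 1) k 1, ⊤) := Module.Finite.equiv (CurveRR.secH0 (k := k) _).symm
  haveI : Module.Finite k (Coh.HH (CohB1.ProjSpace m k) ((Scheme.Modules.pullback i).obj (tO (n + 1) k 1)) 0) :=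
    Module.Finite.equiv eP.symm
  haveI : Module.Finite k Γ((Scheme.Modules.pullback i).obj (tO (n + 1) k 1), ⊤) :=
    Module.Finite.equiv (CurveRR.secH0 (k := k) _).symm
  let φ : Γ(tO (n + 1) k 1, ⊤) →ₗ[k] Γ((Scheme.Modules.pullback i).obj (tO (n + 1) k 1), ⊤) :=
    { toFun := OmegaSh.pullSect i (tO (n + 1) k 1) ⊤
      map_add' := map_add _
      map_smul' := fun a s => by
        show OmegaSh.pullSect i (tO (n + 1) k 1) ⊤ (CurveRR.cst k (CohB1.ProjSpace (n + 1) k) ⊤ a • s) =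
          HSMul.hSMul (α := Γ(CohB1.ProjSpace m k, i ⁻¹ᵁ ⊤)) (CurveRR.cst k (CohB1.ProjSpace m k) ⊤ a)
            (OmegaSh.pullSect i (tO (n + 1) k 1) ⊤ s)
        rw [OmegaSh.pullSect_smul]
        exact congrArg (· • _) (CurveVA.app_cst i hi ⊤ a) }
  have hne : LinearMap.ker φ ≠ ⊥ := LinearMap.ker_ne_bot_of_finrank_lt (by
    rw [CurveRR.finrank_sec, CurveRR.finrank_sec]
    show Module.finrank k (Coh.HH _ _ 0) < Module.finrank k (Coh.HH _ _ 0)
    rw [(hd (n + 1)).2, eP.finrank_eq, (hd m).2]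
    omega)
  obtain ⟨Q, hQ1, hQ2⟩ := Submodule.exists_mem_ne_zero_of_ne_bot hne
  refine ⟨TMul.homOf Q, fun h => hQ2 ?_, TMul.hom_ext_val ?_⟩
  · have := congrArg (fun t => TMul.val t ⊤) h
    simp only [TMul.val_homOf, res_self] at this
    exact this
  · refine Eq.trans ?_ (ZeroSch.val_zero ⊤).symm
    refine (AmpleDesc.val_pullback i (TMul.homOf Q)).trans ?_
    rw [TMul.val_homOf, res_self]
    exact hQ1

section Immersion

open HypIso ProjMor
open TMul (IsGen val)
open Groth.Agent.WeakAssLib (mgerm mgerm_res)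

/-- hyperplanes as linearly immersed projective spaces -/
theorem exists_linear_immersion {n : ℕ}
    (s : Coh.structureModule (CohB1.ProjSpace (n + 1) k) ⟶ Twist.twistProjSpace (n + 1) k 1) (hs : s ≠ 0) :
    ∃ r : CohB1.ProjSpace n k ⟶ CohB1.ProjSpace (n + 1) k, IsClosedImmersion r ∧
      r ≫ CohB1.ProjSpace.toSpec (n + 1) k = CohB1.ProjSpace.toSpec n k ∧
      r.ker = PicF2.zeroScheme _ s ∧
      Nonempty ((Scheme.Modules.pullback r).obj (Twist.twistProjSpace (n + 1) k 1) ≅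
        Twist.twistProjSpace n k 1) := by
  obtain ⟨a, ha⟩ := exists_eq_sec1 (val s ⊤)
  have hs' : s = TMul.homOf (ProjMor.sec1 (ProjMor.linForms_mem (n + 1) k a)) :=
    TMul.hom_ext_val (ha.trans ((res_self _ _ _).symm.trans (TMul.val_homOf _ ⊤).symm))
  have hform : ProjMor.linForms (n + 1) k a = ∑ l, a l • MvPolynomial.X l :=
    Fintype.linearCombination_apply _ _ _
  obtain ⟨j, hj⟩ : ∃ j, a j ≠ 0 := by
    by_contra h
    push Not at h
    refine hs (TMul.hom_ext_val (ha.trans (Eq.trans ?_ (ZeroSch.val_zero ⊤).symm)))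
    refine Groth.Agent.QC.section_eq_of_locally fun y _ => ?_
    obtain ⟨l, hl⟩ : ∃ l, y ∈ Proj.basicOpen (CohB1.polyGrading (n + 1) k) (MvPolynomial.X l) :=
      Opens.mem_iSup.1 ((Groth.Agent.S9576.result (n + 1) k).1.ge trivial)
    refine ⟨_, le_top, hl, ?_⟩
    refine (ProjMor.res_sec1 (X_mem₁ l) (ProjMor.linForms_mem (n + 1) k a)).trans ?_
    rw [hform, Finset.sum_eq_zero (fun i _ => by rw [h i, zero_smul]), map_zero, zero_smul]
    exact (map_zero _).symm
  obtain ⟨r, hr, τ, hτ⟩ := ProjMor.exists_projSpace (CohB1.ProjSpace.toSpec n k)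
    (GrT.isInvertible_twist (ProjMor.exists_notMem (ProjMor.genDegOne_projSpace n k)) 1) (emb a j) (generatedBy a j)
  haveI := isClosedImmersion a j r hr τ hτ
  have hker : r.ker = PicF2.zeroScheme _ s := by
    refine ker_eq a j hj r hr τ hτ _ fun i => ?_
    have he : IsGen (res (Twist.twistProjSpace (n + 1) k 1) le_top (ProjMor.sec1 (X_mem₁ (k := k) i)) :
        Γ(Twist.twistProjSpace (n + 1) k 1, Proj.basicOpen (CohB1.polyGrading (n + 1) k) (MvPolynomial.X i))) := by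
      have := (TMul.isGen_genLocus (TMul.homOf (ProjMor.sec1 (X_mem₁ (k := k) i)))).res
        (ProjMor.genLocus_sec1 (ProjMor.genDegOne_projSpace (n + 1) k) (X_mem₁ i)).ge
      rwa [TMul.val_homOf, res_res] at this
    rw [← hform]
    refine ZeroSch.ideal_zeroScheme_eq_span s
      (GrT.isInvertible_twist (ProjMor.exists_notMem (ProjMor.genDegOne_projSpace (n + 1) k)) 1) _ he ?_
    rw [hs', TMul.val_homOf]
    exact ProjMor.res_sec1 (X_mem₁ i) (ProjMor.linForms_mem (n + 1) k a)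
  exact ⟨r, inferInstance, hr, hker, ⟨τ⟩⟩

end Immersion

/-- the zero scheme of the zero section is everything -/
theorem zeroScheme_zero {X : Scheme.{u}} {M : X.Modules} (hM : PicF.IsInvertible M) :
    PicF2.zeroScheme M (0 : Coh.structureModule X ⟶ M) = ⊥ := by
  have loc : ∀ x : X, ∃ U : X.affineOpens, x ∈ U.1 ∧
      (PicF2.zeroScheme M (0 : Coh.structureModule X ⟶ M)).ideal U = (⊥ : X.IdealSheafData).ideal U := fun x => by
    obtain ⟨U₁, g₁, hx₁, hg₁⟩ := TMul.exists_isGen hM x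
    obtain ⟨U, hU, hxU, hUle⟩ := exists_isAffineOpen_mem_and_subset (x := x) (U := U₁) hx₁
    replace hUle : U ≤ U₁ := hUle
    refine ⟨⟨U, hU⟩, hxU, ?_⟩
    rw [ZeroSch.ideal_zeroScheme_eq_span (c := 0) _ hM ⟨U, hU⟩ (hg₁.res hUle) (by rw [zero_smul]; rfl),
      Scheme.IdealSheafData.ideal_bot, Pi.bot_apply, Ideal.span_singleton_eq_bot]
  choose U hxU hid using loc
  exact Scheme.IdealSheafData.ext_of_iSup_eq_top (fun x => U x)
    (Opens.ext (Set.eq_univ_of_forall fun x => Opens.mem_iSup.2 ⟨x, hxU x⟩)) hid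

/-- a hyperplane containing a linear subspace, with its restriction sequence -/
theorem exists_hyperplane {m n : ℕ} (hmn : m ≤ n) (i : CohB1.ProjSpace m k ⟶ CohB1.ProjSpace (n + 1) k)
    [IsClosedImmersion i] (hi : i ≫ CohB1.ProjSpace.toSpec (n + 1) k = CohB1.ProjSpace.toSpec m k)
    (hO : Nonempty ((Scheme.Modules.pullback i).obj (tO (n + 1) k 1) ≅ tO m k 1)) :
    ∃ (j : CohB1.ProjSpace n k ⟶ CohB1.ProjSpace (n + 1) k)
      (i' : CohB1.ProjSpace m k ⟶ CohB1.ProjSpace n k),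
      IsClosedImmersion j ∧ j ≫ CohB1.ProjSpace.toSpec (n + 1) k = CohB1.ProjSpace.toSpec n k ∧
      Nonempty ((Scheme.Modules.pullback j).obj (tO (n + 1) k 1) ≅ tO n k 1) ∧
      IsClosedImmersion i' ∧ i' ≫ j = i ∧ i' ≫ CohB1.ProjSpace.toSpec n k = CohB1.ProjSpace.toSpec m k ∧
      Nonempty ((Scheme.Modules.pullback i').obj (tO n k 1) ≅ tO m k 1) ∧
      ∀ G : (CohB1.ProjSpace (n + 1) k).Modules, FlatMod.IsFinLocFree G →
        ∃ S : ShortComplex (CohB1.ProjSpace (n + 1) k).Modules, S.ShortExact ∧ ∀ q,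
          Nonempty (Coh.HH (CohB1.ProjSpace (n + 1) k) S.X₁ q ≃
            Coh.HH (CohB1.ProjSpace (n + 1) k) (CohB1.tensorMod G (tO (n + 1) k (-1))) q) ∧
          Nonempty (Coh.HH (CohB1.ProjSpace (n + 1) k) S.X₂ q ≃ Coh.HH (CohB1.ProjSpace (n + 1) k) G q) ∧
          Nonempty (Coh.HH (CohB1.ProjSpace (n + 1) k) S.X₃ q ≃
            Coh.HH (CohB1.ProjSpace n k) ((Scheme.Modules.pullback j).obj G) q) := by
  obtain ⟨s, hs, his⟩ := exists_form_vanishing hmn i hi hO
  haveI := Horrocks.isIntegral_projSpace (k := k) (n := n + 1)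
  haveI := CohFinite.isNoetherian_projSpace (n + 1) k
  obtain ⟨j, hjc, hj, hjk, ⟨τ⟩⟩ := exists_linear_immersion s hs
  have hT := CohFinite.isInvertible_twist (n + 1) k 1
  let Z := PicF2.zeroScheme (tO (n + 1) k 1) s
  haveI := hjc
  -- the ideal
  haveI := CurveRR.mono_of_ne_zero TMul.isInvertible_structureModule hT s hs
  obtain ⟨e₀⟩ := (LefZero.isInverseOf_zeroScheme hT s).2
  obtain ⟨η⟩ := nonempty_eta (k := k) (n + 1) 1 (-1) (by norm_num)
  let eI : ClSub.idealMod Z ≅ tO (n + 1) k (-1) :=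
    (SecTwist.unitorR _).symm ≪≫ PicGrp.tensorModIso (Iso.refl _) η.symm ≪≫ (TMul.assocIso _ _ _).symm ≪≫
      PicGrp.tensorModIso (TMul.commIso _ _ ≪≫ e₀) (Iso.refl _) ≪≫ TMul.leftUnitIso _
  -- the factorisation
  have hZ : Z ≤ i.ker := by
    have h1 := AbelMap.zeroScheme_pullSec i hT s
    rw [his, zeroScheme_zero (PicLoc.isInvertible_pullback i hT)] at h1
    refine (Z.le_map_comap i).trans_eq ?_
    rw [← h1, Scheme.IdealSheafData.map_bot]
  let i' : CohB1.ProjSpace m k ⟶ CohB1.ProjSpace n k := IsClosedImmersion.lift j i (hjk.trans_le hZ)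
  have hij : i' ≫ j = i := IsClosedImmersion.lift_fac _ _ _
  haveI : IsClosedImmersion (i' ≫ j) := by rw [hij]; infer_instance
  haveI : IsClosedImmersion i' := IsClosedImmersion.of_comp i' j
  have hi' : i' ≫ CohB1.ProjSpace.toSpec n k = CohB1.ProjSpace.toSpec m k := by
    rw [← hj, ← Category.assoc, hij, hi]
  refine ⟨j, i', inferInstance, hj, ⟨τ⟩, inferInstance, hij, hi', ?_, fun G hG => ?_⟩
  · obtain ⟨w⟩ := hO
    exact ⟨(Scheme.Modules.pullback i').mapIso τ.symm ≪≫ (Scheme.Modules.pullbackComp i' j).app _ ≪≫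
      (Scheme.Modules.pullbackCongr hij).app _ ≪≫ w⟩
  · letI : (CohB1.ProjSpace (n + 1) k).Over (Spec (CommRingCat.of k)) := ⟨CohB1.ProjSpace.toSpec (n + 1) k⟩
    letI : Z.subscheme.Over (Spec (CommRingCat.of k)) := ⟨Z.subschemeι ≫ CohB1.ProjSpace.toSpec (n + 1) k⟩
    letI : (CohB1.ProjSpace n k).Over (Spec (CommRingCat.of k)) := ⟨CohB1.ProjSpace.toSpec n k⟩
    obtain ⟨S, hS, h⟩ := HodgeCI.exists_res_seq (A := k) Z rfl G hG
    refine ⟨S, hS, fun q => ?_⟩
    obtain ⟨⟨a⟩, ⟨b⟩, ⟨c⟩⟩ := h q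
    let M := (Scheme.Modules.pullback Z.subschemeι).obj G
    have hk : Z.subschemeι.ker = j.ker := Z.ker_subschemeι.trans hjk.symm
    haveI := IsClosedImmersion.isIso_lift Z.subschemeι j hk
    let φ : CohB1.ProjSpace n k ≅ Z.subscheme := asIso (IsClosedImmersion.lift Z.subschemeι j hk.le)
    have hfac : φ.hom ≫ Z.subschemeι = j := IsClosedImmersion.lift_fac _ _ _
    haveI : M.IsQuasicoherent := LocFree.isQCoh_of_isFinLocFree (SGA6Ext.isFinLocFree_pullback _ hG)
    haveI : ((Scheme.Modules.pullback φ.hom).obj M).IsQuasicoherent :=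
      LocFree.isQCoh_of_isFinLocFree (SGA6Ext.isFinLocFree_pullback _ (SGA6Ext.isFinLocFree_pullback _ hG))
    haveI := CompInt.isIso_unit_of_ker_eq_bot φ.hom φ.hom.ker_eq_bot_of_isIso M
    have hφ : φ.hom ≫ Z.subscheme ↘ Spec (CommRingCat.of k) = CohB1.ProjSpace n k ↘ Spec (CommRingCat.of k) := by
      show φ.hom ≫ Z.subschemeι ≫ _ = _
      rw [← Category.assoc, hfac]
      exact hj
    obtain ⟨d⟩ := CohFinite.hh_push_linear k φ.hom hφ _
      (CohQC.directAcyclic_of_isAffineHom φ.hom ((Scheme.Modules.pullback φ.hom).obj M)) q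
    exact ⟨⟨a.toEquiv.trans (CohFinite.hhEquiv k (TMul.commIso _ _ ≪≫ PicGrp.tensorModIso (Iso.refl G) eI) q).toEquiv⟩,
      ⟨b.toEquiv⟩, ⟨c.toEquiv.trans ((CohFinite.hhEquiv k (asIso ((Scheme.Modules.pullbackPushforwardAdjunction φ.hom).unit.app M)) q).toEquiv.trans
        (d.symm.toEquiv.trans (CohFinite.hhEquiv k ((Scheme.Modules.pullbackComp φ.hom Z.subschemeι).app G ≪≫
          (Scheme.Modules.pullbackCongr hfac).app G) q).toEquiv))⟩⟩

end Groth.Agent.PnEuler
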