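import Groth.Agent.PnEuler.Split
import Groth.Agent.SerrePn.Twists
import Groth.Agent.SGA6Ext.Pull
import Groth.Agent.SGA6Ext.Model

/-!
# Cokernels of `O(-1) → Ω(1)` (null-correlation bundles)
-/

set_option autoImplicit false
set_option backward.isDefEq.respectTransparency false
set_option backward.isDefEq.respectTransparency.types false
set_option linter.style.haveILetI false
set_option linter.unusedSectionVars false
set_option maxHeartbeats 1000000

universe u

open CategoryTheory CategoryTheory.Limits AlgebraicGeometry TopologicalSpace Opposite Abelian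
open Groth.Agent.CohFinite (tmap hhEquiv hhMap)
open Groth.Agent.PicBdd (scal scal_comp)

noncomputable section

namespace Groth.Agent.PnEuler

variable {k : Type u} [Field k]

/-- `Ω(1)` -/
abbrev OmT (n : ℕ) (k : Type u) [Field k] : (CohB1.ProjSpace n k).Modules :=
  CohB1.tensorMod (Omega.sheaf (CohB1.ProjSpace.toSpec n k)) (Twist.twistProjSpace n k 1)

theorem omegaOne_simple [IsAlgClosed k] (n : ℕ) (φ : OmT n k ⟶ OmT n k) :
    ∃ c : k, φ = scal (show Γ(CohB1.ProjSpace n k, ⊤) from Coh.toGlobal (CohB1.ProjSpace.toSpec n k) c) (OmT n k) := by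
  obtain ⟨q, hq, ⟨ε⟩⟩ := exists_euler (k := k) n
  haveI := hq
  obtain ⟨η⟩ := nonempty_eta (k := k) n (-1) 1 (by norm_num)
  have hL' : PicF.IsInvertible (tO n k (-1)) := CohFinite.isInvertible_twist n k (-1)
  have hH1 : Subsingleton (Coh.HH (CohB1.ProjSpace n k)
      (CohB1.tensorMod (FlatMod.freeMod (CohB1.ProjSpace n k) (n + 1)) (tO n k (-1))) 1) :=
    BlowPn.subsingleton_hh_free (n + 1) _ 1
      (ProjCech.twist_vanish (R := k) n (-1) 1 (fun h => by omega) (fun h => by omega))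
  have hK : Subsingleton (Coh.HH (CohB1.ProjSpace n k)
      (CohB1.tensorMod (kernel q) (Coh.structureModule (CohB1.ProjSpace n k))) 0) :=
    CohQC.hh_subsingleton_of_iso (ε ≪≫ (SecTwist.unitorR _).symm) 0 (subsingleton_omega_one n)
  obtain ⟨a, ha⟩ := kernel_simple q η hL' hH1
    (BlowPn.hom_coprod_eq_zero (TMul.leftUnitIso (Coh.structureModule (CohB1.ProjSpace n k)))
      (PicLoc.isInvertible_structureModule _) (Iso.refl _) hK) (ε.inv ≫ φ ≫ ε.hom)
  obtain ⟨c, hc⟩ := surjective_toGlobal (k := k) n a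
  refine ⟨c, ?_⟩
  rw [hc, ← cancel_epi ε.inv, ← cancel_mono ε.hom, Category.assoc, ha, Category.assoc, scal_comp,
    Iso.inv_hom_id_assoc]

/-- `Ext¹(Ω(1), O(-1))` vanishes -/
theorem subsingleton_ext_omT {n : ℕ} (hn : 2 ≤ n)
    [HasExt.{u} (CohB1.ProjSpace n k).Modules] :
    Subsingleton (Ext (OmT n k) (Twist.twistProjSpace n k (-1)) 1) := by
  haveI : (CohB1.ProjSpace n k).Over (Spec (CommRingCat.of k)) := ⟨CohB1.ProjSpace.toSpec n k⟩
  obtain ⟨q, hq, ⟨ε⟩⟩ := exists_euler (k := k) n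
  haveI := hq
  let S : ShortComplex (CohB1.ProjSpace n k).Modules :=
    ShortComplex.mk (ε.hom ≫ kernel.ι q) q (by rw [Category.assoc, kernel.condition, comp_zero])
  have hS : S.ShortExact := by
    have h : (ShortComplex.mk (kernel.ι q) q (kernel.condition q)).ShortExact :=
      { exact := ShortComplex.exact_kernel q }
    exact ShortComplex.shortExact_of_iso (show ShortComplex.mk (kernel.ι q) q (kernel.condition q) ≅ S from
      ShortComplex.isoMk ε.symm (Iso.refl _) (Iso.refl _) (by simp [S]) (by simp [S])) h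
  have h2 : Subsingleton (Ext S.X₂ (Twist.twistProjSpace n k (-1)) 1) :=
    SerrePn.subsingleton_ext_coprod _ _ 1 fun _ =>
      SerrePn.subsingleton_ext_of_hh k (PicLoc.isInvertible_structureModule _) (PicLoc.isInvertible_structureModule _)
        (TMul.leftUnitIso (Coh.structureModule _)) (TMul.leftUnitIso (Coh.structureModule _)) 0 _
        (CohQC.hh_subsingleton_of_iso (SecTwist.unitorR _).symm 1
          (ProjCech.twist_vanish (R := k) n (-1) 1 (fun h => by omega) (fun h => by omega)))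
  obtain ⟨η⟩ := nonempty_eta (k := k) n 1 (-1) (by norm_num)
  obtain ⟨η'⟩ := nonempty_eta (k := k) n (-1) 1 (by norm_num)
  obtain ⟨θ⟩ := TwistPairing.nonempty_twist_twist (R := k) n (-1) (-1) (-2) (by norm_num)
  have h3 : Subsingleton (Ext S.X₃ (Twist.twistProjSpace n k (-1)) 2) :=
    SerrePn.subsingleton_ext_of_hh k (CohFinite.isInvertible_twist n k 1) (CohFinite.isInvertible_twist n k (-1)) η η' 1 _
      (CohQC.hh_subsingleton_of_iso θ.symm 2
        (ProjCech.twist_vanish (R := k) n (-2) 2 (fun h => by omega) (fun h => by omega)))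
  refine subsingleton_of_forall_eq 0 fun x => ?_
  obtain ⟨y, hy⟩ := Ext.contravariant_sequence_exact₁ hS (Twist.twistProjSpace n k (-1)) x
    (n₁ := 2) rfl (h3.elim _ _)
  rw [← hy, show y = 0 from h2.elim _ _, Ext.comp_zero]

variable {n : ℕ} (u : Twist.twistProjSpace n k (-1) ⟶ OmT n k) [Mono u]

theorem exists_lift_omT (hn : 2 ≤ n) (φ : OmT n k ⟶ cokernel u) :
    ∃ ψ : OmT n k ⟶ OmT n k, ψ ≫ cokernel.π u = φ := by
  haveI := SerrePn.enoughInjectives (X := CohB1.ProjSpace n k)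
  haveI : HasExt.{u} (CohB1.ProjSpace n k).Modules := hasExt_of_enoughInjectives _
  have hS := BlowPn.coker_shortExact u
  obtain ⟨x, hx⟩ := Ext.covariant_sequence_exact₃ (OmT n k) hS (Ext.mk₀ φ) (rfl : 0 + 1 = 1)
    ((subsingleton_ext_omT (k := k) hn).elim _ _)
  obtain ⟨ψ, rfl⟩ := (Ext.mk₀_bijective _ _).2 x
  rw [Ext.mk₀_comp_mk₀] at hx
  exact ⟨ψ, (Ext.mk₀_bijective _ _).1 hx⟩

theorem endo_scalar [IsAlgClosed k] (hM : FlatMod.IsFinLocFreeOfRank (n - 1) (cokernel u))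
    (φ : cokernel u ⟶ cokernel u) :
    ∃ c : k, (SheafOfModules.toSheaf (CohB1.ProjSpace n k).ringCatSheaf).map φ =
      Coh.smulAb (cokernel u) (Coh.toGlobal (CohB1.ProjSpace.toSpec n k) c) := by
  rcases Nat.lt_or_ge n 2 with hn | hn
  · rw [show n - 1 = 0 by omega] at hM
    refine ⟨0, ?_⟩
    rw [← BlowPn.toSheaf_scal]
    exact congrArg _ ((SGA6Ext.isZero_of_rank_zero hM).eq_of_src _ _)
  obtain ⟨ψ, hψ⟩ := exists_lift_omT u hn (cokernel.π u ≫ φ)
  obtain ⟨c, rfl⟩ := omegaOne_simple n ψ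
  refine ⟨c, ?_⟩
  rw [← BlowPn.toSheaf_scal]
  refine congrArg _ ?_
  rw [← cancel_epi (cokernel.π u), ← hψ, scal_comp]

theorem iso_iff [IsAlgClosed k] (hn : 2 ≤ n) (a' : Twist.twistProjSpace n k (-1) ⟶ OmT n k) [Mono a']
    (hne : ¬ IsZero (cokernel u)) :
    Nonempty (cokernel u ≅ cokernel a') ↔
      ∃ c : k, c ≠ 0 ∧ (SheafOfModules.toSheaf (CohB1.ProjSpace n k).ringCatSheaf).map a' =
        (SheafOfModules.toSheaf (CohB1.ProjSpace n k).ringCatSheaf).map u ≫
          Coh.smulAb (OmT n k) (Coh.toGlobal (CohB1.ProjSpace.toSpec n k) c) := by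
  let g : k →+* Γ(CohB1.ProjSpace n k, ⊤) := Coh.toGlobal (CohB1.ProjSpace.toSpec n k)
  have hinv : ∀ (c : k) (N : (CohB1.ProjSpace n k).Modules), c ≠ 0 →
      scal (g c) N ≫ scal (g c⁻¹) N = 𝟙 N := fun c N hc => by
    rw [← BlowPn.scal_mul, ← map_mul, mul_inv_cancel₀ hc, map_one, BlowPn.scal_one]
  have hconv : ∀ c : k, ((SheafOfModules.toSheaf (CohB1.ProjSpace n k).ringCatSheaf).map a' =
        (SheafOfModules.toSheaf (CohB1.ProjSpace n k).ringCatSheaf).map u ≫ Coh.smulAb (OmT n k) (g c)) ↔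
      a' = u ≫ scal (g c) (OmT n k) := fun c => by
    rw [← BlowPn.toSheaf_scal, ← Functor.map_comp]
    exact (SheafOfModules.toSheaf (CohB1.ProjSpace n k).ringCatSheaf).map_injective.eq_iff
  constructor
  · rintro ⟨φ⟩
    obtain ⟨ψ, hψ⟩ := exists_lift_omT a' hn (cokernel.π u ≫ φ.hom)
    obtain ⟨c, rfl⟩ := omegaOne_simple n ψ
    change scal (g c) (OmT n k) ≫ cokernel.π a' = _ at hψ
    have hc : c ≠ 0 := by
      rintro rfl
      rw [map_zero, BlowPn.scal_zero, zero_comp] at hψ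
      apply hne
      rw [IsZero.iff_id_eq_zero, ← cancel_epi (cokernel.π u), ← cancel_mono φ.hom, Category.comp_id, comp_zero,
        zero_comp]
      exact hψ.symm
    obtain ⟨γ, hγ⟩ := BlowPn.exists_factor (f := a') (u ≫ scal (g c) (OmT n k)) (by
      rw [Category.assoc, hψ, cokernel.condition_assoc, zero_comp])
    obtain ⟨η⟩ := nonempty_eta (k := k) n 1 (-1) (by norm_num)
    obtain ⟨a, rfl⟩ := BlowPn.exists_scal η (CohFinite.isInvertible_twist n k 1) γ
    obtain ⟨d, rfl⟩ := surjective_toGlobal (k := k) n a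
    change scal (g d) _ ≫ a' = u ≫ scal (g c) (OmT n k) at hγ
    rw [scal_comp] at hγ
    by_cases hd : d = 0
    · subst hd
      rw [map_zero, BlowPn.scal_zero, comp_zero] at hγ
      have h0 : u = 0 := by
        have := congrArg (· ≫ scal (g c⁻¹) (OmT n k)) hγ.symm
        simpa only [Category.assoc, hinv c _ hc, Category.comp_id, zero_comp] using this
      exfalso
      subst h0
      have hz : IsZero (Twist.twistProjSpace n k (-1)) := IsZero.of_mono_zero _ (OmT n k)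
      obtain ⟨θ⟩ := TwistPairing.nonempty_twist_twist (R := k) n 1 (-1) 0 (by norm_num)
      obtain ⟨z⟩ := PnHodge.nonempty_twist_zero_iso (n := n) (A := k)
      have hO : Subsingleton (Coh.HH (CohB1.ProjSpace n k) (Twist.twistProjSpace n k 0) 0) :=
        PnHodge.subsingleton_hh_of_isZero ((PnReg.isZero_tensor_right hz _).of_iso θ.symm) 0
      letI : (CohB1.ProjSpace n k).Over (Spec (CommRingCat.of k)) := ⟨CohB1.ProjSpace.toSpec n k⟩
      have h1 := (PnHodge.twist_h0 (n := n) (k := k) 0 0 (Nat.zero_le _)).2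
      rw [show ((0 : ℕ) : ℤ) - (0 : ℕ) = 0 by simp, Module.finrank_zero_of_subsingleton] at h1
      simp at h1
    refine ⟨c * d⁻¹, mul_ne_zero hc (inv_ne_zero hd), (hconv _).2 ?_⟩
    have := congrArg (· ≫ scal (g d⁻¹) (OmT n k)) hγ
    simpa only [Category.assoc, hinv d _ hd, Category.comp_id, map_mul, BlowPn.scal_mul] using this
  · rintro ⟨c, hc, h⟩
    refine ⟨cokernel.mapIso u a' (Iso.refl _)
      ⟨scal (g c) (OmT n k), scal (g c⁻¹) (OmT n k), hinv c _ hc, ?_⟩ ?_⟩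
    · rw [← BlowPn.scal_mul, ← map_mul, inv_mul_cancel₀ hc, map_one, BlowPn.scal_one]
    · rw [Iso.refl_hom, Category.id_comp]
      exact ((hconv c).1 h).symm

theorem shortExact_pullback_coker {X Y : Scheme.{u}} (i : X ⟶ Y) {A B : Y.Modules} (a : A ⟶ B) [Mono a]
    (h₁ : FlatMod.IsFinLocFree A) (h₂ : FlatMod.IsFinLocFree B) (h₃ : FlatMod.IsFinLocFree (cokernel a)) :
    ((ShortComplex.mk a (cokernel.π a) (cokernel.condition a)).map (Scheme.Modules.pullback i)).ShortExact :=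
  SGA6Ext.shortExact_pullback i (BlowPn.coker_shortExact a) h₁ h₂ h₃

theorem isFinLocFree_omT (n : ℕ) : FlatMod.IsFinLocFree (OmT n k) :=
  ResDesc.isFinLocFree_tensorMod (PnHodge.isFinLocFree_omega (n := n) (A := k))
    (ResDesc.isFinLocFree_of_isInvertible (CohFinite.isInvertible_twist n k 1))

theorem not_isZero_cokernel {n : ℕ} (hn : 2 ≤ n) (u : Twist.twistProjSpace n k (-1) ⟶ OmT n k) [Mono u] :
    ¬ IsZero (cokernel u) := by
  intro hz
  haveI : Epi u := Abelian.epi_of_cokernel_π_eq_zero u (hz.eq_of_tgt _ _)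
  haveI : IsIso u := isIso_of_mono_of_epi u
  obtain ⟨θ⟩ := TwistPairing.nonempty_twist_twist (R := k) n (-1) (-1) (-2) (by norm_num)
  obtain ⟨η⟩ := nonempty_eta (k := k) n 1 (-1) (by norm_num)
  obtain ⟨z⟩ := PnHodge.nonempty_twist_zero_iso (n := n) (A := k)
  have e : CohB1.tensorMod (Omega.sheaf (CohB1.ProjSpace.toSpec n k)) (Twist.twistProjSpace n k 0) ≅
      Twist.twistProjSpace n k (-2) :=
    PicGrp.tensorModIso (Iso.refl _) (z ≪≫ η.symm) ≪≫ (TMul.assocIso _ _ _).symm ≪≫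
      PicGrp.tensorModIso (asIso u).symm (Iso.refl _) ≪≫ θ
  have h := CohQC.hh_subsingleton_of_iso e.symm 1
    (ProjCech.twist_vanish (R := k) n (-2) 1 (fun h => by omega) (fun h => by omega))
  obtain ⟨d⟩ := PnHodge.nonempty_H_diag (n := n) (A := k) 1 (by omega) _ (SGA6Ext.isExtPow_one _)
  exact zero_ne_one (α := k) ((d.toEquiv.subsingleton_congr.1 h).elim 0 1)

section Plane

theorem hh_subsingleton_biprod {X : Scheme.{u}} [X.Over (Spec (CommRingCat.of k))] {A B : X.Modules} (q : ℕ)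
    (hA : Subsingleton (Coh.HH X A q)) (hB : Subsingleton (Coh.HH X B q)) :
    Subsingleton (Coh.HH X (A ⊞ B) q) := by
  refine subsingleton_of_forall_eq 0 fun x => ?_
  have h : x = hhMap k (biprod.fst ≫ biprod.inl) q x + hhMap k (biprod.snd ≫ biprod.inr) q x := by
    rw [← LinearMap.add_apply, ← SerrePn.hhMap_add, biprod.total, CohFinite.hhMap_id]
  rw [h, CohFinite.hhMap_comp, CohFinite.hhMap_comp, show hhMap k biprod.fst q x = 0 from hA.elim _ _,
    show hhMap k biprod.snd q x = 0 from hB.elim _ _, map_zero, map_zero, add_zero]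

theorem nonempty_pullback_neg_one {m n : ℕ} (i : CohB1.ProjSpace m k ⟶ CohB1.ProjSpace n k)
    (w : (Scheme.Modules.pullback i).obj (tO n k 1) ≅ tO m k 1) :
    Nonempty ((Scheme.Modules.pullback i).obj (tO n k (-1)) ≅ tO m k (-1)) := by
  obtain ⟨θ⟩ := nonempty_eta (k := k) n (-1) 1 (by norm_num)
  obtain ⟨η⟩ := nonempty_eta (k := k) m 1 (-1) (by norm_num)
  obtain ⟨η'⟩ := nonempty_eta (k := k) m (-1) 1 (by norm_num)
  obtain ⟨v⟩ := TMul.nonempty_pullTensorIso i (tO n k (-1)) (tO n k 1)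
  let Y := (Scheme.Modules.pullback i).obj (tO n k (-1))
  have c : CohB1.tensorMod Y (tO m k 1) ≅ Coh.structureModule _ :=
    PicGrp.tensorModIso (Iso.refl _) w.symm ≪≫ v ≪≫ (Scheme.Modules.pullback i).mapIso θ ≪≫ PicLoc.pullbackStructureIso i
  exact ⟨(PicGrp.tensorModIso (Iso.refl Y) η ≪≫ SecTwist.unitorR Y).symm ≪≫ (TMul.assocIso _ _ _).symm ≪≫
    PicGrp.tensorModIso c (Iso.refl _) ≪≫ TMul.leftUnitIso _⟩

theorem nonempty_pullback_omT [IsAlgClosed k] (i : CohB1.ProjSpace 2 k ⟶ CohB1.ProjSpace 3 k)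
    (w : (Scheme.Modules.pullback i).obj (tO 3 k 1) ≅ tO 2 k 1) :
    Nonempty ((Scheme.Modules.pullback i).obj (OmT 3 k) ≅ OmT 2 k ⊞ Coh.structureModule (CohB1.ProjSpace 2 k)) := by
  obtain ⟨e⟩ : Nonempty ((Scheme.Modules.pullback i).obj (Omega.sheaf (CohB1.ProjSpace.toSpec 3 k)) ≅
      Omega.sheaf (CohB1.ProjSpace.toSpec 2 k) ⊞ ∐ fun _ : Fin 1 => tO 2 k (-1)) := nonempty_omega_pullback 2 3 i ⟨w⟩
  obtain ⟨v⟩ := TMul.nonempty_pullTensorIso i (Omega.sheaf (CohB1.ProjSpace.toSpec 3 k)) (tO 3 k 1)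
  obtain ⟨t⟩ := nonempty_tensor_biprod (A := Omega.sheaf (CohB1.ProjSpace.toSpec 2 k))
    (B := ∐ fun _ : Fin 1 => tO 2 k (-1)) (tO 2 k 1)
  obtain ⟨η⟩ := nonempty_eta (k := k) 2 (-1) 1 (by norm_num)
  exact ⟨v.symm ≪≫ PicGrp.tensorModIso e w ≪≫ t ≪≫
    biprod.mapIso (Iso.refl _) (PicGrp.tensorModIso (coproductUniqueIso fun _ : Fin 1 => tO 2 k (-1)) (Iso.refl _) ≪≫ η)⟩

theorem restrict_plane [IsAlgClosed k] (u : Twist.twistProjSpace 3 k (-1) ⟶ OmT 3 k) [Mono u]
    (hM : FlatMod.IsFinLocFreeOfRank 2 (cokernel u))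
    (i : CohB1.ProjSpace 2 k ⟶ CohB1.ProjSpace 3 k)
    (hO : Nonempty ((Scheme.Modules.pullback i).obj (Twist.twistProjSpace 3 k 1) ≅ Twist.twistProjSpace 2 k 1)) :
    Subsingleton (Coh.HH (CohB1.ProjSpace 2 k)
        (CohB1.tensorMod ((Scheme.Modules.pullback i).obj (cokernel u)) (Twist.twistProjSpace 2 k (-1))) 0) ∧
      Nontrivial (Coh.HH (CohB1.ProjSpace 2 k) ((Scheme.Modules.pullback i).obj (cokernel u)) 0) := by
  letI : (CohB1.ProjSpace 2 k).Over (Spec (CommRingCat.of k)) := ⟨CohB1.ProjSpace.toSpec 2 k⟩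
  obtain ⟨w⟩ := hO
  let i' := Scheme.Modules.pullback i
  have hT := CohFinite.isInvertible_twist 3 k 1
  have h₁ : FlatMod.IsFinLocFree (Twist.twistProjSpace 3 k (-1)) :=
    ResDesc.isFinLocFree_of_isInvertible (CohFinite.isInvertible_twist 3 k (-1))
  have h₂ : FlatMod.IsFinLocFree (OmT 3 k) :=
    isFinLocFree_omT 3
  have hS := shortExact_pullback_coker i u h₁ h₂ (SGA6Ext.finLocFree_of_rank hM)
  obtain ⟨e₁⟩ := nonempty_pullback_neg_one i w
  obtain ⟨e₂⟩ := nonempty_pullback_omT i w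
  obtain ⟨z⟩ := PnHodge.nonempty_twist_zero_iso (n := 2) (A := k)
  constructor
  · have hS' := CohFinite.shortExact_tmap (CohFinite.isInvertible_twist 2 k (-1)) hS
    obtain ⟨θ⟩ := TwistPairing.nonempty_twist_twist (R := k) 2 (-1) (-1) (-2) (by norm_num)
    refine BlowPn.subsingleton_hh_X₃ hS' 0 ?_ ?_
    · obtain ⟨t'⟩ := nonempty_tensor_biprod (A := OmT 2 k) (B := Coh.structureModule (CohB1.ProjSpace 2 k)) (tO 2 k (-1))
      refine CohQC.hh_subsingleton_of_iso (PicGrp.tensorModIso e₂ (Iso.refl _) ≪≫ t').symm 0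
        (hh_subsingleton_biprod (k := k) 0 ?_ ?_)
      · obtain ⟨η'⟩ := nonempty_eta (k := k) 2 1 (-1) (by norm_num)
        exact CohQC.hh_subsingleton_of_iso (TMul.assocIso _ _ _ ≪≫ PicGrp.tensorModIso (Iso.refl _) (η' ≪≫ z.symm)).symm 0
          (PnHodge.vanish 1 0 0 (fun h => by omega) (fun h => by omega) (fun h => by omega) _ (SGA6Ext.isExtPow_one _))
      · exact CohQC.hh_subsingleton_of_iso (TMul.leftUnitIso _).symm 0
          (ProjCech.twist_vanish (R := k) 2 (-1) 0 (fun h => by omega) (fun h => by omega))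
    · exact CohQC.hh_subsingleton_of_iso (PicGrp.tensorModIso e₁ (Iso.refl _) ≪≫ θ).symm 1
        (ProjCech.twist_vanish (R := k) 2 (-2) 1 (fun h => by omega) (fun h => by omega))
  · by_contra hsub
    rw [not_nontrivial_iff_subsingleton] at hsub
    have h0 : Subsingleton (Coh.HH (CohB1.ProjSpace 2 k) (i'.obj (Twist.twistProjSpace 3 k (-1))) 0) :=
      CohQC.hh_subsingleton_of_iso e₁.symm 0
        (ProjCech.twist_vanish (R := k) 2 (-1) 0 (fun h => by omega) (fun h => by omega))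
    have hmid : Subsingleton (Coh.HH (CohB1.ProjSpace 2 k) (i'.obj (OmT 3 k)) 0) := by
      refine subsingleton_of_forall_eq 0 fun x => ?_
      obtain ⟨y, rfl⟩ := (CohFinite.map_g_eq_zero_iff (CohQC.seq_shortExact hS) 0 x).1 (hsub.elim _ _)
      rw [show y = 0 from h0.elim _ _, map_zero]
    have hO0 : Subsingleton (Coh.HH (CohB1.ProjSpace 2 k) (Twist.twistProjSpace 2 k 0) 0) := by
      refine CohQC.hh_subsingleton_of_iso z.symm 0 (subsingleton_of_forall_eq 0 fun x => ?_)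
      have h := CohQC.hh_subsingleton_of_iso e₂ 0 hmid
      calc x = hhMap k (biprod.inr ≫ biprod.snd) 0 x := by rw [biprod.inr_snd, CohFinite.hhMap_id]
        _ = hhMap k biprod.snd 0 (hhMap k (biprod.inr : _ ⟶ OmT 2 k ⊞ _) 0 x) := CohFinite.hhMap_comp _ _ _ _ _
        _ = 0 := by rw [h.elim (hhMap k (biprod.inr : _ ⟶ OmT 2 k ⊞ _) 0 x) 0, map_zero]
    have h1 := (PnHodge.twist_h0 (n := 2) (k := k) 0 0 (Nat.zero_le _)).2
    rw [show ((0 : ℕ) : ℤ) - (0 : ℕ) = 0 by simp, Module.finrank_zero_of_subsingleton] at h1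
    simp at h1

end Plane

end Groth.Agent.PnEuler
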