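import Groth.Agent.PnEuler.Hyperplane
import Groth.Agent.PnEuler.NullCorr

/-!
# Vanishing propagates from a linear subspace
-/

set_option autoImplicit false
set_option backward.isDefEq.respectTransparency false
set_option backward.isDefEq.respectTransparency.types false
set_option linter.style.haveILetI false
set_option linter.unusedSectionVars false
set_option maxHeartbeats 1000000

universe u

open CategoryTheory CategoryTheory.Limits AlgebraicGeometry TopologicalSpace Opposite

noncomputable section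

namespace Groth.Agent.PnEuler

theorem gen_tensor {X : Scheme.{u}} {M N : X.Modules} (hM : FlatMod.IsFinLocFree M) (hN : PicF.IsInvertible N) :
    FlatMod.IsFinLocFree (CohB1.tensorMod M N) :=
  ResDesc.isFinLocFree_tensorMod hM (ResDesc.isFinLocFree_of_isInvertible hN)

variable {k : Type u} [Field k]

theorem nonempty_pullback_twist {m n : ℕ} (i : CohB1.ProjSpace m k ⟶ CohB1.ProjSpace n k)
    (w : (Scheme.Modules.pullback i).obj (tO n k 1) ≅ tO m k 1) (d : ℤ) :
    Nonempty ((Scheme.Modules.pullback i).obj (tO n k d) ≅ tO m k d) := by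
  have step : ∀ a b c : ℤ, a + b = c → Nonempty ((Scheme.Modules.pullback i).obj (tO n k a) ≅ tO m k a) →
      Nonempty ((Scheme.Modules.pullback i).obj (tO n k b) ≅ tO m k b) →
      Nonempty ((Scheme.Modules.pullback i).obj (tO n k c) ≅ tO m k c) := by
    rintro a b c h ⟨ea⟩ ⟨eb⟩
    obtain ⟨θ⟩ := TwistPairing.nonempty_twist_twist (R := k) n a b c h
    obtain ⟨θ'⟩ := TwistPairing.nonempty_twist_twist (R := k) m a b c h
    obtain ⟨v⟩ := TMul.nonempty_pullTensorIso i (tO n k a) (tO n k b)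
    exact ⟨(Scheme.Modules.pullback i).mapIso θ.symm ≪≫ v.symm ≪≫ PicGrp.tensorModIso ea eb ≪≫ θ'⟩
  obtain ⟨e'⟩ := nonempty_pullback_neg_one i w
  induction d using Int.induction_on with
  | zero => exact step 1 (-1) 0 (by norm_num) ⟨w⟩ ⟨e'⟩
  | succ j ih => exact step j 1 _ rfl ih ⟨w⟩
  | pred j ih => exact step (-j) (-1) _ (by ring) ih ⟨e'⟩

/-- twisting commutes with restriction -/
theorem nonempty_pullback_tensor {m n : ℕ} (i : CohB1.ProjSpace m k ⟶ CohB1.ProjSpace n k)
    (w : (Scheme.Modules.pullback i).obj (tO n k 1) ≅ tO m k 1) (E : (CohB1.ProjSpace n k).Modules) (d : ℤ) :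
    Nonempty ((Scheme.Modules.pullback i).obj (CohB1.tensorMod E (tO n k d)) ≅
      CohB1.tensorMod ((Scheme.Modules.pullback i).obj E) (tO m k d)) := by
  obtain ⟨e⟩ := nonempty_pullback_twist i w d
  obtain ⟨v⟩ := TMul.nonempty_pullTensorIso i E (tO n k d)
  exact ⟨v.symm ≪≫ PicGrp.tensorModIso (Iso.refl _) e⟩

theorem isFinLocFree_tensor_twist {n : ℕ} {E : (CohB1.ProjSpace n k).Modules} (hE : FlatMod.IsFinLocFree E) (d : ℤ) :
    FlatMod.IsFinLocFree (CohB1.tensorMod E (tO n k d)) :=
  gen_tensor hE (CohFinite.isInvertible_twist n k d)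

/-- no linear line in a point -/
theorem pos_of_linear {n : ℕ} (i : CohB1.ProjSpace 1 k ⟶ CohB1.ProjSpace n k)
    (hO : Nonempty ((Scheme.Modules.pullback i).obj (tO n k 1) ≅ tO 1 k 1)) : 1 ≤ n := by
  by_contra hn
  obtain rfl : n = 0 := by omega
  obtain ⟨w⟩ := hO
  haveI := PnHodge.quasiSeparated_toSpec 0 k
  obtain ⟨E, q₀, hq₀, ⟨e⟩, -⟩ := HodgeCI.exists_pulled_euler (k := k) (N := 0) i
  haveI := hq₀
  exact not_epi_of_le (n := 1) le_rfl ((e.inv ≫ q₀) ≫ w.hom) inferInstance

/-- vanishing of sections in negative degrees propagates from a line -/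
theorem subsingleton_h0_neg_of_line : ∀ (n : ℕ) (E : (CohB1.ProjSpace n k).Modules), FlatMod.IsFinLocFree E →
    ∀ (i : CohB1.ProjSpace 1 k ⟶ CohB1.ProjSpace n k) [IsClosedImmersion i],
      i ≫ CohB1.ProjSpace.toSpec n k = CohB1.ProjSpace.toSpec 1 k →
      Nonempty ((Scheme.Modules.pullback i).obj (tO n k 1) ≅ tO 1 k 1) →
      (∀ e : ℤ, 1 ≤ e → Subsingleton (Coh.HH (CohB1.ProjSpace 1 k)
        (CohB1.tensorMod ((Scheme.Modules.pullback i).obj E) (tO 1 k (-e))) 0)) →
      ∀ e : ℤ, 1 ≤ e → Subsingleton (Coh.HH (CohB1.ProjSpace n k) (CohB1.tensorMod E (tO n k (-e))) 0) := by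
  intro n
  induction n with
  | zero => exact fun E _ i _ _ hO => absurd (pos_of_linear i hO) (by omega)
  | succ n ih =>
    intro E hE i hci hi hO hv
    haveI := hci
    rcases Nat.eq_zero_or_pos n with rfl | hn
    · intro e he
      letI : (CohB1.ProjSpace 1 k).Over (Spec (CommRingCat.of k)) := ⟨CohB1.ProjSpace.toSpec 1 k⟩
      haveI := Horrocks.isIntegral_projSpace (k := k) (n := 1)
      haveI : IsProper (CohB1.ProjSpace 1 k ↘ Spec (CommRingCat.of k)) := ProjMor.isProper_toSpec 1 k
      haveI := CurveRR.Easy.isIso_of_closedImmersion_line (k := k) (Groth.Agent.S10829.result k 1) i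
      obtain ⟨w⟩ := hO
      obtain ⟨t⟩ := nonempty_pullback_tensor i w E (-e)
      have hM : FlatMod.IsFinLocFree (CohB1.tensorMod E (tO (0 + 1) k (-e))) := isFinLocFree_tensor_twist hE _
      generalize CohB1.tensorMod E (tO (0 + 1) k (-e)) = M at hM t ⊢
      haveI : ((Scheme.Modules.pullback i).obj M).IsQuasicoherent :=
        LocFree.isQCoh_of_isFinLocFree (SGA6Ext.isFinLocFree_pullback _ hM)
      haveI := CompInt.isIso_unit_of_ker_eq_bot i i.ker_eq_bot_of_isIso M
      exact CohQC.hh_subsingleton_of_iso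
        (asIso ((Scheme.Modules.pullbackPushforwardAdjunction i).unit.app M)).symm 0
        ((CompInt.hh_push_iff i (CohB1.ProjSpace.toSpec (0 + 1) k) _ 0).1 (CohQC.hh_subsingleton_of_iso t.symm 0 (hv e he)))
    · obtain ⟨j, i', hj, hjo, ⟨wj⟩, hi'c, hij, hi'o, hO', hseq⟩ := exists_hyperplane (m := 1) hn i hi hO
      haveI := hj
      haveI := hi'c
      have ih' := ih ((Scheme.Modules.pullback j).obj E) (SGA6Ext.isFinLocFree_pullback _ hE) i' hi'o hO'
        fun e he => CohQC.hh_subsingleton_of_iso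
          (PicGrp.tensorModIso ((Scheme.Modules.pullbackCongr hij.symm).app E ≪≫
            ((Scheme.Modules.pullbackComp i' j).app E).symm) (Iso.refl _)) 0 (hv e he)
      have step : ∀ e : ℤ, 1 ≤ e →
          Subsingleton (Coh.HH (CohB1.ProjSpace (n + 1) k) (CohB1.tensorMod E (tO (n + 1) k (-(e + 1)))) 0) →
          Subsingleton (Coh.HH (CohB1.ProjSpace (n + 1) k) (CohB1.tensorMod E (tO (n + 1) k (-e))) 0) := by
        intro e he h
        obtain ⟨S, hS, hh⟩ := hseq _ (isFinLocFree_tensor_twist hE (-e))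
        obtain ⟨⟨a⟩, ⟨b⟩, ⟨c⟩⟩ := hh 0
        obtain ⟨t⟩ := nonempty_pullback_tensor j wj E (-e)
        obtain ⟨θ⟩ := TwistPairing.nonempty_twist_twist (R := k) (n + 1) (-e) (-1) (-(e + 1)) (by ring)
        have h₁ : Subsingleton (Coh.HH _ S.X₁ 0) := a.subsingleton_congr.2 (CohQC.hh_subsingleton_of_iso
          (TMul.assocIso _ _ _ ≪≫ PicGrp.tensorModIso (Iso.refl _) θ).symm 0 h)
        have h₃ : Subsingleton (Coh.HH _ S.X₃ 0) :=
          c.subsingleton_congr.2 (CohQC.hh_subsingleton_of_iso t.symm 0 (ih' e he))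
        refine b.subsingleton_congr.1 (subsingleton_of_forall_eq 0 fun x => ?_)
        obtain ⟨y, rfl⟩ := (CohFinite.map_g_eq_zero_iff (CohQC.seq_shortExact hS) 0 x).1 (h₃.elim _ _)
        rw [show y = 0 from h₁.elim _ _, map_zero]
      obtain ⟨N, hN⟩ := Horrocks.low_of_locFree (n := n + 1) (by omega) hE
      intro e he
      suffices key : ∀ (p : ℕ) (e : ℤ), 1 ≤ e → -N ≤ e + p →
          Subsingleton (Coh.HH (CohB1.ProjSpace (n + 1) k) (CohB1.tensorMod E (tO (n + 1) k (-e))) 0) from
        key (-N - e).toNat e he (by omega)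
      intro p
      induction p with
      | zero => exact fun e _ h => hN (-e) (by omega)
      | succ p ihp => exact fun e he h => step e he (ihp (e + 1) (by omega) (by omega))

end Groth.Agent.PnEuler
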