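import Groth.Agent.Horrocks.Resol
import Groth.Agent.Horrocks.Bundles
import Groth.Agent.BlowPn.HomLift
import Groth.Agent.PnEuler.SerreBundle
import Groth.Agent.HNSplit.Dual

/-!
# Resolutions by negative twists
-/

set_option autoImplicit false
set_option backward.isDefEq.respectTransparency false
set_option backward.isDefEq.respectTransparency.types false
set_option linter.style.haveILetI false
set_option linter.unusedSectionVars false
set_option maxHeartbeats 1000000

universe u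

open CategoryTheory CategoryTheory.Limits AlgebraicGeometry TopologicalSpace Opposite

noncomputable section

namespace Groth.Agent.PnEuler

/-- dropping summands killed by a map -/
theorem exists_filter {C : Type*} [Category C] [HasZeroMorphisms C] [HasFiniteCoproducts C] {b : ℕ}
    (T : Fin b → C) {K : C} (p : (∐ T) ⟶ K) (Q : Fin b → Prop) (hz : ∀ i, ¬ Q i → Sigma.ι T i ≫ p = 0) :
    ∃ (s : ℕ) (g : Fin s → Fin b) (π : (∐ fun j => T (g j)) ⟶ K) (prj : (∐ T) ⟶ ∐ fun j => T (g j)),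
      (∀ j, Q (g j)) ∧ prj ≫ π = p := by
  classical
  let f := (Fintype.equivFin {i : Fin b // Q i}).symm
  let g : Fin (Fintype.card {i : Fin b // Q i}) → Fin b := fun j => (f j).1
  have hg : ∀ i (h : Q i), g (f.symm ⟨i, h⟩) = i := fun i h => congrArg Subtype.val (f.apply_symm_apply _)
  refine ⟨_, g, Sigma.desc fun j => Sigma.ι T (g j) ≫ p, Sigma.desc fun i => if h : Q i then
    eqToHom (congrArg T (hg i h)).symm ≫ Sigma.ι (fun j => T (g j)) (f.symm ⟨i, h⟩) else 0,
    fun j => (f j).2, Sigma.hom_ext _ _ fun i => ?_⟩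
  rw [← Category.assoc, Sigma.ι_desc]
  by_cases hi : Q i
  · rw [dif_pos hi, Category.assoc, Sigma.ι_desc, ← Category.assoc]
    congr 1
    exact Sigma.eqToHom_comp_ι T (hg i hi).symm
  · rw [dif_neg hi, zero_comp, hz i hi]

variable {k : Type u} [Field k]

/-- a bundle on the plane without sections has a resolution by negative twists -/
theorem exists_neg_resolution (K : (CohB1.ProjSpace 2 k).Modules) (hK : FlatMod.IsFinLocFree K)
    (h0 : Subsingleton (Coh.HH (CohB1.ProjSpace 2 k) K 0)) :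
    ∃ (r s : ℕ) (kk : Fin r → ℤ) (mm : Fin s → ℤ) (S : ShortComplex (CohB1.ProjSpace 2 k).Modules),
      S.ShortExact ∧ (∀ i, kk i < 0) ∧ (∀ j, mm j < 0) ∧
      Nonempty (S.X₁ ≅ ∐ fun i : Fin r => Twist.twistProjSpace 2 k (kk i)) ∧
      Nonempty (S.X₂ ≅ ∐ fun j : Fin s => Twist.twistProjSpace 2 k (mm j)) ∧
      Nonempty (S.X₃ ≅ K) := by
  classical
  letI : (CohB1.ProjSpace 2 k).Over (Spec (CommRingCat.of k)) := ⟨CohB1.ProjSpace.toSpec 2 k⟩
  have hKc := Horrocks.isCoh_of_locFree hK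
  obtain ⟨P, π₀, ⟨b, a, ⟨e⟩⟩, hπ₀, hsurj⟩ :=
    Horrocks.exists_cover_surj K hKc (Horrocks.low_of_locFree (by omega) hK)
  haveI := hπ₀
  -- summands of non-negative degree map to zero
  let T : Fin b → (CohB1.ProjSpace 2 k).Modules := fun i => Twist.twistProjSpace 2 k (a i)
  let p : (∐ T) ⟶ K := e.inv ≫ π₀
  have hz : ∀ i, 0 ≤ a i → Sigma.ι T i ≫ p = 0 := fun i hi => by
    obtain ⟨η⟩ := nonempty_eta (k := k) 2 (-a i) (a i) (by ring)
    obtain ⟨z⟩ := PnHodge.nonempty_twist_zero_iso (n := 2) (A := k)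
    refine BlowPn.hom_eq_zero_of_vanish η (CohFinite.isInvertible_twist 2 k (-a i)) ?_ _
    exact subsingleton_twist_le K (d' := -a i) (d := 0) (by omega)
      (CohQC.hh_subsingleton_of_iso (PicGrp.tensorModIso (Iso.refl K) z ≪≫ SecTwist.unitorR K).symm 0 h0)
  obtain ⟨s, g, π, prj, hg, hp⟩ := exists_filter T p (fun i => a i < 0) fun i hi => hz i (not_lt.1 hi)
  let mm : Fin s → ℤ := fun j => a (g j)
  let T' : Fin s → (CohB1.ProjSpace 2 k).Modules := fun j => Twist.twistProjSpace 2 k (mm j)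
  haveI : Epi p := epi_comp _ _
  haveI : Epi π := by
    haveI : Epi (prj ≫ π) := by rw [hp]; infer_instance
    exact epi_of_epi prj π
  have hsurj' : ∀ j, Horrocks.SurjDeg π j := fun j x => by
    obtain ⟨y, rfl⟩ := hsurj j x
    refine ⟨CohFinite.hhMap k (CohFinite.tmap (e.hom ≫ prj) _) 0 y, ?_⟩
    rw [← CohFinite.hhMap_comp, ← CohFinite.tmap_comp, Category.assoc, hp, Iso.hom_inv_id_assoc]
  have hP' : Horrocks.IsSum (∐ T') := ⟨s, mm, ⟨Iso.refl _⟩⟩
  have hcl := Horrocks.cond_and_low_of_isSum (d := 2) (by omega) hP'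
  have hS := Horrocks.shortExact_kernel π
  haveI := CohFinite.isNoetherian_projSpace 2 k
  have hker : Horrocks.IsSum (kernel π) := by
    refine (Horrocks.isSum_iff (by omega) _ (QC.isCoh_kernel (Horrocks.isCoh_of_isSum hP') hKc.1 π)).2 ⟨?_, ?_⟩
    · intro j i hi hi2
      obtain rfl : i = 0 + 1 := by omega
      exact Horrocks.sub_left _ (Horrocks.shortExact_tmap_kernel π (CohFinite.isInvertible_twist 2 k j)) 0
        (hcl.1 j 1 one_pos (by omega)) (hsurj' j)
    · obtain ⟨n₀, hn₀⟩ := hcl.2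
      exact ⟨n₀, fun j hj => Horrocks.sub_left₀
        (Horrocks.shortExact_tmap_kernel π (CohFinite.isInvertible_twist 2 k j)) (hn₀ j hj)⟩
  obtain ⟨r, kk, ⟨ek⟩⟩ := hker
  refine ⟨r, s, kk, mm, ShortComplex.mk (kernel.ι π) π (kernel.condition π), hS, fun i => ?_, hg,
    ⟨ek⟩, ⟨Iso.refl _⟩, ⟨Iso.refl _⟩⟩
  -- a summand of the kernel has no sections
  obtain ⟨z⟩ := PnHodge.nonempty_twist_zero_iso (n := 2) (A := k)
  have h0P : Subsingleton (Coh.HH (CohB1.ProjSpace 2 k) (CohB1.tensorMod (∐ T') (Twist.twistProjSpace 2 k 0)) 0) :=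
    Horrocks.hh_tw_sum mm 0 0 fun j => Horrocks.hh_tw_Om _ _ _ (fun h => by have h1 : mm j < 0 := hg j; omega)
      (fun h => by omega)
  have h0K : Subsingleton (Coh.HH (CohB1.ProjSpace 2 k) (kernel π) 0) :=
    Horrocks.sub_left₀ hS (CohQC.hh_subsingleton_of_iso
      (PicGrp.tensorModIso (Iso.refl _) z ≪≫ SecTwist.unitorR _) 0 h0P)
  have hret : Subsingleton (Coh.HH (CohB1.ProjSpace 2 k) (Twist.twistProjSpace 2 k (kk i)) 0) := by
    let q : (∐ fun l : Fin r => Twist.twistProjSpace 2 k (kk l)) ⟶ Twist.twistProjSpace 2 k (kk i) :=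
      Sigma.desc fun l => if hl : l = i then eqToHom (by rw [hl]) else 0
    refine Function.Injective.subsingleton
      (f := CohFinite.hhMap k (Sigma.ι (fun l : Fin r => Twist.twistProjSpace 2 k (kk l)) i ≫ ek.inv) 0)
      fun x y hxy => ?_
    have h' := congrArg (CohFinite.hhMap k (ek.hom ≫ q) 0) hxy
    rw [← CohFinite.hhMap_comp, ← CohFinite.hhMap_comp] at h'
    rw [show (Sigma.ι (fun l : Fin r => Twist.twistProjSpace 2 k (kk l)) i ≫ ek.inv) ≫ ek.hom ≫ q = 𝟙 _ by
      rw [Category.assoc, Iso.inv_hom_id_assoc, Sigma.ι_desc, dif_pos rfl, eqToHom_refl], CohFinite.hhMap_id, CohFinite.hhMap_id] at h'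
    exact h'
  exact (subsingleton_h0_twist_iff (k := k) (n := 2) (by omega) (kk i)).1 hret

end Groth.Agent.PnEuler
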