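import Groth.Agent.PnEuler.Split
import Groth.Agent.GenSection.Main
import Groth.Agent.CycPB.Tower
import Groth.Agent.W7Slope.Twist
import Groth.Agent.PBundle.TopPower
import Groth.Agent.TMul.Ample

/-!
# Null correlation bundles exist in odd dimension
-/

set_option autoImplicit false
set_option backward.isDefEq.respectTransparency false
set_option backward.isDefEq.respectTransparency.types false
set_option linter.style.haveILetI false
set_option linter.unusedSectionVars false
set_option maxHeartbeats 1000000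

universe u

open CategoryTheory CategoryTheory.Limits AlgebraicGeometry TopologicalSpace Opposite Groth.Agent.QC
open Groth.Agent.CohFinite (tmap)

noncomputable section

namespace Groth.Agent.PnEuler

variable {X : Scheme.{u}}

/-- tensor squares of a line bundle are symmetric -/
theorem tm_comm_self {L : X.Modules} (hL : PicF.IsInvertible L) {U : X.Opens} (a b : Γ(L, U)) :
    TMul.tm a b = TMul.tm b a := by
  refine section_eq_of_locally fun x hx => ?_
  obtain ⟨V, hV, e, hxV, he⟩ := CohFinite.exists_gen_le hL hx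
  refine ⟨V, hV, hxV, ?_⟩
  obtain ⟨α, hα⟩ := (he V le_rfl).2 (res L hV a)
  obtain ⟨β, hβ⟩ := (he V le_rfl).2 (res L hV b)
  simp only [res_self] at hα hβ
  rw [TMul.res_tm, TMul.res_tm, ← hα, ← hβ, TMul.smul_tm, TMul.tm_smul, TMul.smul_tm, TMul.tm_smul, smul_smul,
    smul_smul, mul_comm]

/-- the free module on a lifted finite type -/
def freeULift (X : Scheme.{u}) (m : ℕ) : (SheafOfModules.free (ULift.{u} (Fin m)) : X.Modules) ⟶ FlatMod.freeMod X m :=
  Sigma.desc fun i : ULift.{u} (Fin m) => Sigma.ι (fun _ : Fin m => Coh.structureModule X) i.down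

theorem ι_freeULift (X : Scheme.{u}) {m : ℕ} (i : ULift.{u} (Fin m)) :
    (Sigma.ι (fun _ : ULift.{u} (Fin m) => Coh.structureModule X) i : _ ⟶ _) ≫ freeULift X m =
      Sigma.ι (fun _ : Fin m => Coh.structureModule X) i.down :=
  Sigma.ι_desc _ _

instance (X : Scheme.{u}) (m : ℕ) : Epi (freeULift X m) := by
  haveI : IsSplitEpi (freeULift X m) := IsSplitEpi.mk' ⟨Sigma.desc fun i =>
    Sigma.ι (fun _ : ULift.{u} (Fin m) => Coh.structureModule X) (ULift.up i), Sigma.hom_ext _ _ fun i => by
      rw [← Category.assoc, Sigma.ι_desc, ι_freeULift, Category.comp_id]⟩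
  infer_instance

/-- the partner in the standard symplectic pairing -/
def pair' {l : ℕ} (j : Fin (2 * l + 2)) : Fin (2 * l + 2) :=
  if h : j.1 % 2 = 0 then ⟨j.1 + 1, by omega⟩ else ⟨j.1 - 1, by omega⟩

/-- the sign in the standard symplectic pairing -/
def sgn' {R : Type*} [Ring R] {l : ℕ} (j : Fin (2 * l + 2)) : R := if j.1 % 2 = 0 then 1 else -1

theorem pair'_pair' {l : ℕ} (j : Fin (2 * l + 2)) : pair' (pair' j) = j := by
  unfold pair'
  by_cases h : j.1 % 2 = 0
  · simp only [dif_pos h, dif_neg (show ¬ (j.1 + 1) % 2 = 0 by omega)]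
    exact Fin.ext (by simp)
  · simp only [dif_neg h, dif_pos (show (j.1 - 1) % 2 = 0 by omega)]
    exact Fin.ext (show j.1 - 1 + 1 = j.1 by omega)

theorem pair'_ne {l : ℕ} (j : Fin (2 * l + 2)) : pair' j ≠ j := by
  unfold pair'
  by_cases h : j.1 % 2 = 0
  · simp only [dif_pos h]; intro h'; have := congrArg Fin.val h'; simp at this
  · simp only [dif_neg h]; intro h'; have := congrArg Fin.val h'; simp at this; omega

theorem sgn'_pair' {R : Type*} [Ring R] {l : ℕ} (j : Fin (2 * l + 2)) : (sgn' (pair' j) : R) = - sgn' j := by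
  unfold sgn' pair'
  by_cases h : j.1 % 2 = 0
  · simp [h, show ¬ (j.1 + 1) % 2 = 0 by omega]
  · simp [h, show (j.1 - 1) % 2 = 0 by omega]

/-- the sum of alternating products vanishes -/
theorem sum_pair' {M : Type*} [AddCommGroup M] {R : Type*} [Ring R] [Module R M] {l : ℕ}
    (F : Fin (2 * l + 2) → Fin (2 * l + 2) → M) (hF : ∀ a b, F a b = F b a) :
    ∑ j, (sgn' j : R) • F j (pair' j) = 0 := by
  refine Finset.sum_involution (fun j _ => pair' j) (fun j _ => ?_) (fun j _ _ => pair'_ne j) (fun j _ => Finset.mem_univ _)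
    fun j _ => pair'_pair' j
  rw [pair'_pair', sgn'_pair', neg_smul, hF (pair' j) j, add_neg_cancel]

/-- the kernel of a map inherits a nowhere zero section with locally free cokernel -/
theorem exists_section_in_kernel {E T : X.Modules} (q : E ⟶ T) [Epi q] {N : ℕ}
    (hE : FlatMod.IsFinLocFreeOfRank (N + 2) E) (hT : PicF.IsInvertible T) {s : Γ(E, ⊤)}
    (hs : GenSection.NowhereZero E (N + 2) s) (hqs : CohQC.secHom s ≫ q = 0) :
    ∃ u : Coh.structureModule X ⟶ kernel q, Mono u ∧ FlatMod.IsFinLocFreeOfRank N (cokernel u) := by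
  have hEq := GenSection.isQCoh_of_rank hE
  haveI := GenSection.mono_secHom hEq hs
  have hC := GenSection.rank_cokernel_secHom hEq hs
  let σ := CohQC.secHom s
  let u := kernel.lift q σ hqs
  haveI : Mono u := mono_of_mono_fac (kernel.lift_ι q σ hqs)
  let d : cokernel σ ⟶ T := cokernel.desc σ q hqs
  haveI : Epi d := epi_of_epi_fac (cokernel.π_desc σ q hqs)
  let w : kernel q ⟶ kernel d := kernel.lift d (kernel.ι q ≫ cokernel.π σ) (by simp [d])
  have huw : u ≫ w = 0 := by
    rw [← cancel_mono (kernel.ι d), Category.assoc, kernel.lift_ι, ← Category.assoc, kernel.lift_ι,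
      cokernel.condition, zero_comp]
  have hσ : (ShortComplex.mk σ (cokernel.π σ) (cokernel.condition σ)).ShortExact :=
    { exact := ShortComplex.exact_cokernel σ }
  have hex : (ShortComplex.mk u w huw).Exact := by
    rw [ShortComplex.exact_iff_exact_up_to_refinements]
    intro A x hx
    have h1 : (x ≫ kernel.ι q) ≫ cokernel.π σ = 0 := by
      have h2 := congrArg (· ≫ kernel.ι d) hx
      simpa [w] using h2
    refine ⟨A, 𝟙 A, inferInstance, hσ.exact.lift (x ≫ kernel.ι q) h1, ?_⟩
    rw [← cancel_mono (kernel.ι q), Category.id_comp, Category.assoc, kernel.lift_ι]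
    exact (hσ.exact.lift_f _ _).symm
  haveI : Epi w := by
    rw [epi_iff_surjective_up_to_refinements]
    intro A y
    obtain ⟨A', π', hπ', z, hz⟩ := surjective_up_to_refinements_of_epi (cokernel.π σ) (y ≫ kernel.ι d)
    refine ⟨A', π', hπ', kernel.lift q z ?_, ?_⟩
    · rw [← cokernel.π_desc σ q hqs, ← Category.assoc, ← hz, Category.assoc, Category.assoc, kernel.condition,
        comp_zero, comp_zero]
    · rw [← cancel_mono (kernel.ι d), Category.assoc, Category.assoc, kernel.lift_ι, kernel.lift_ι_assoc]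
      exact hz
  have hS : (ShortComplex.mk u w huw).ShortExact := { exact := hex }
  refine ⟨u, inferInstance, Nagata.isFinLocFreeOfRank_of_iso
    (IsColimit.coconePointUniqueUpToIso hS.gIsCokernel (colimit.isColimit (parallelPair u 0))) ?_⟩
  exact CycPB.isFinLocFreeOfRank_kernel (n := N) d hC hT

/-- the symplectic section is nowhere zero -/
theorem exists_null_section {L : X.Modules} (hL : PicF.IsInvertible L) {l : ℕ}
    (q : FlatMod.freeMod X (2 * l + 2) ⟶ L) [Epi q] :
    ∃ s : Γ(CohB1.tensorMod (FlatMod.freeMod X (2 * l + 2)) L, ⊤),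
      GenSection.NowhereZero (CohB1.tensorMod (FlatMod.freeMod X (2 * l + 2)) L) (2 * l + 2) s ∧
      CohQC.secHom s ≫ tmap q L = 0 := by
  classical
  let t : Fin (2 * l + 2) → Γ(L, ⊤) := fun j => q.app ⊤ (PBundle.bv X j)
  let s : Γ(CohB1.tensorMod (FlatMod.freeMod X (2 * l + 2)) L, ⊤) :=
    ∑ j, (sgn' j : Γ(X, ⊤)) • TMul.tm (PBundle.bv X j) (t (pair' j))
  refine ⟨s, fun x => ?_, ?_⟩
  · -- some component generates near x
    obtain ⟨U₀, e, hxU₀, he⟩ := TMul.exists_isGen hL x
    obtain ⟨D, hD, hxD, hDU⟩ := exists_isAffineOpen_mem_and_subset (x := x) (U := U₀) hxU₀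
    replace hDU : D ≤ U₀ := hDU
    have heD := he.res hDU
    choose c hc using fun j => (heD D le_rfl).2 (res L (le_top : D ≤ ⊤) (t j))
    simp only [res_self] at hc
    have hspan := GenSection.isGenFam_of_epi (TMul.isQCoh_of_isInvertible hL)
      (freeULift X (2 * l + 2) ≫ q) D hD
    obtain ⟨i, hi⟩ : ∃ i, x ∈ X.basicOpen (c i) := by
      by_contra! hall
      have hmem : res L hDU e ∈ Submodule.span Γ(X, D) (Set.range fun j => res L (le_top : D ≤ ⊤) (t j)) := by
        refine (Submodule.span_mono ?_) (hspan.ge Submodule.mem_top)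
        rintro _ ⟨⟨j⟩, rfl⟩
        refine ⟨j, congrArg (res L _) ?_⟩
        show q.app ⊤ (PBundle.bv X j) = _
        simp only [PBundle.bv, TMul.val]
        rw [← Category.assoc, ι_freeULift]
        rfl
      obtain ⟨a, ha⟩ := (Submodule.mem_span_range_iff_exists_fun _).1 hmem
      have h1 : (∑ j, a j * c j) • res L hDU e = (1 : Γ(X, D)) • res L hDU e := by
        rw [one_smul, Finset.sum_smul]
        conv_rhs => rw [← ha]
        exact Finset.sum_congr rfl fun j _ => by rw [mul_smul, hc]
      have h2 := (heD D le_rfl).1 (a₁ := ∑ j, a j * c j) (a₂ := 1) (by simpa only [res_self] using h1)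
      have hu : IsUnit ((X.presheaf.germ D x hxD).hom (1 : Γ(X, D))) := by rw [map_one]; exact isUnit_one
      rw [← h2, map_sum] at hu
      obtain ⟨j, -, hj⟩ := IsLocalRing.exists_of_isUnit_sum hu
      rw [map_mul] at hj
      exact hall j ((X.mem_basicOpen (c j) x hxD).2 (isUnit_of_mul_isUnit_right hj))
    let D' := X.basicOpen (c i)
    have hD'D : D' ≤ D := X.basicOpen_le _
    have he' := (heD.res hD'D)
    have hfr := W7Slope.isFrame_tm (G := FlatMod.freeMod X (2 * l + 2))
      (e := fun j => res (FlatMod.freeMod X (2 * l + 2)) (le_top : D' ≤ ⊤) (PBundle.bv X j))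
      (fun y hy => by simpa only [WeakAssLib.mgerm_res] using PBundle.isFrame_bv X (2 * l + 2) y trivial) he'
    refine ⟨D', hD.basicOpen _, hi, Module.Basis.ofEquivFun (hfr.equiv le_rfl).symm, pair' i, ?_⟩
    rw [Module.Basis.ofEquivFun_repr_apply]
    have hkey : (hfr.equiv le_rfl).symm (res _ (le_top : D' ≤ ⊤) s) =
        fun j => (sgn' j : Γ(X, D')) * resO X hD'D (c (pair' j)) := by
      rw [LinearEquiv.symm_apply_eq]
      simp only [TMul.IsFrame.equiv, LinearEquiv.ofBijective_apply, LinearMap.coe_mk, AddHom.coe_mk, s, map_sum]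
      refine Finset.sum_congr rfl fun j _ => ?_
      rw [res_smul, TMul.res_tm, res_self,
        show res L (le_top : D' ≤ ⊤) (t (pair' j)) = resO X hD'D (c (pair' j)) • res L hD'D (res L hDU e) by
          rw [← res_smul, hc, res_res], TMul.tm_smul, smul_smul]
      congr 1
      unfold sgn'
      split_ifs <;> simp
    rw [hkey]
    show IsUnit ((sgn' (pair' i) : Γ(X, D')) * resO X hD'D (c (pair' (pair' i))))
    rw [pair'_pair']
    refine IsUnit.mul ?_ (RingedSpace.isUnit_res_basicOpen _ (c i))
    unfold sgn'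
    split_ifs <;> simp
  · rw [GenSection.secHom_comp]
    have h0 : (tmap q L).app ⊤ s = 0 := by
      simp only [s, map_sum, Scheme.Modules.Hom.app_smul, CohFinite.tmap_tm]
      exact sum_pair' (fun a b => TMul.tm (t a) (t b)) fun a b => tm_comm_self hL _ _
    rw [h0]
    refine Scheme.Modules.hom_ext _ _ fun W => ?_
    ext a
    rw [CohQC.secHom_app, map_zero, smul_zero]
    rfl

/-- the null-correlation presentation of the kernel of an epimorphism to a line bundle -/
theorem exists_null_presentation [IsIntegral X] [IsLocallyNoetherian X] {L L' K : X.Modules} (hL : PicF.IsInvertible L)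
    (hL' : PicF.IsInvertible L') (η : CohB1.tensorMod L L' ≅ Coh.structureModule X) {l : ℕ}
    (q : FlatMod.freeMod X (2 * l + 2) ⟶ L) [Epi q] (ε : K ≅ kernel q) :
    ∃ u : L' ⟶ K, Mono u ∧ FlatMod.IsFinLocFreeOfRank (2 * l) (cokernel u) := by
  obtain ⟨s, hs, hqs⟩ := exists_null_section hL q
  have hfree : FlatMod.IsFinLocFreeOfRank (2 * l + 2) (FlatMod.freeMod X (2 * l + 2)) :=
    fun _ => ⟨⊤, trivial, ⟨(Scheme.Modules.restrictFunctorIsoPullback (⊤ : X.Opens).ι).app _ ≪≫ DerPerf.pullFreeIso _ (2 * l + 2)⟩⟩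
  have hrk := W7Slope.rank_tensor_inv hfree hL
  haveI := W7Slope.epi_tmap hL q
  obtain ⟨u', hu', hr'⟩ := exists_section_in_kernel (tmap q L) hrk (TMul.isInvertible_tensorMod hL hL) hs hqs
  haveI := hu'
  have hq : (ShortComplex.mk (kernel.ι q) q (kernel.condition q)).ShortExact :=
    { exact := ShortComplex.exact_kernel q }
  let κ : kernel (tmap q L) ≅ CohB1.tensorMod (kernel q) L :=
    (limit.isLimit _).conePointUniqueUpToIso (CohFinite.shortExact_tmap hL hq).fIsKernel
  let v : Coh.structureModule X ⟶ CohB1.tensorMod (kernel q) L := u' ≫ κ.hom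
  have hv : (ShortComplex.mk v (cokernel.π v) (cokernel.condition v)).ShortExact :=
    { exact := ShortComplex.exact_cokernel v }
  have hrv : FlatMod.IsFinLocFreeOfRank (2 * l) (cokernel v) :=
    Nagata.isFinLocFreeOfRank_of_iso (cokernelCompIsIso u' κ.hom).symm hr'
  have hv' := CohFinite.shortExact_tmap hL' hv
  haveI := hv'.mono_f
  let w := W7Slope.untw η (kernel q) ≪≫ ε.symm
  let a : L' ⟶ K := (TMul.leftUnitIso L').inv ≫ tmap v L' ≫ w.hom
  refine ⟨a, inferInstance, Nagata.isFinLocFreeOfRank_of_iso ?_ (W7Slope.rank_tensor_inv hrv hL')⟩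
  exact (IsColimit.coconePointUniqueUpToIso hv'.gIsCokernel (colimit.isColimit (parallelPair (tmap v L') 0))) ≪≫
    (cokernelCompIsIso (tmap v L') w.hom).symm ≪≫ (cokernelEpiComp (TMul.leftUnitIso L').inv (tmap v L' ≫ w.hom)).symm

end Groth.Agent.PnEuler
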