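import Groth.Agent.PnEuler.LineVanish
import Groth.Agent.MumBound.Core
import Groth.Agent.SerrePn.ClosedStatements
import Groth.Agent.SerrePn.Local
import Groth.Agent.CMFlat.Quotient
import Groth.Agent.Horrocks.Bundles

/-!
# Intermediate cohomology propagates from a linear subspace
-/

set_option autoImplicit false
set_option backward.isDefEq.respectTransparency false
set_option backward.isDefEq.respectTransparency.types false
set_option linter.style.haveILetI false
set_option linter.unusedSectionVars false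
set_option maxHeartbeats 1000000

universe u

open CategoryTheory CategoryTheory.Limits AlgebraicGeometry TopologicalSpace Opposite

noncomputable section

namespace Groth.Agent.PnEuler

variable {k : Type u} [Field k]

theorem exists_neg_vanish_projSpace (n : ℕ) {E : (CohB1.ProjSpace n k).Modules} (hE : FlatMod.IsFinLocFree E) :
    ∃ T : ℤ, ∀ t : ℤ, t ≤ T → ∀ q : ℕ, q < n →
      Subsingleton (Coh.HH (CohB1.ProjSpace n k) (CohB1.tensorMod E (tO n k t)) q) := by
  letI : (CohB1.ProjSpace n k).Over (Spec (CommRingCat.of k)) := ⟨CohB1.ProjSpace.toSpec n k⟩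
  obtain ⟨q₀, hq⟩ := SerrePn.vanish_vb_of_cm (n := n) (𝟙 (CohB1.ProjSpace n k)) (Category.id_comp _)
    (fun x hx => by
      haveI := SerrePn.isRegularLocalRing_stalk k n x
      exact ⟨CMFlat.isCohenMacaulayLocalRing_of_isRegularLocalRing _, SerrePn.ringKrullDim_stalk k n x hx⟩) E hE
  refine ⟨-(q₀ : ℤ), fun t ht q hqn => ?_⟩
  obtain ⟨p, rfl⟩ : ∃ p : ℕ, t = -(p : ℤ) := ⟨(-t).toNat, by omega⟩
  exact CohQC.hh_subsingleton_of_iso
    (PicGrp.tensorModIso (Iso.refl E) ((Scheme.Modules.pullbackId _).app _)) q (hq p (by omega) q hqn)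

theorem isIso_of_closedImmersion_self {m : ℕ} (i : CohB1.ProjSpace m k ⟶ CohB1.ProjSpace m k)
    [IsClosedImmersion i] : IsIso i := by
  haveI := Horrocks.isIntegral_projSpace (k := k) (n := m)
  have hcl := i.isClosedEmbedding
  haveI : Surjective i := ⟨fun y => by
    by_contra hy
    have hne : Set.range i ≠ Set.univ := fun h => hy (Set.mem_range.1 (h ▸ Set.mem_univ y))
    rcases Nat.eq_zero_or_pos m with rfl | hm
    · haveI := ProjMor.isIso_toSpec_zero k
      haveI : Subsingleton (CohB1.ProjSpace 0 k) :=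
        (Scheme.homeoOfIso (asIso (CohB1.ProjSpace.toSpec 0 k))).toEquiv.subsingleton
      exact hy ⟨y, Subsingleton.elim _ _⟩
    · have h0 := Horrocks.dim_le_of_closed_ne_univ hcl.isClosed_range hne (m - 1) (by omega)
      rw [← hcl.isEmbedding.toHomeomorph.isHomeomorph.topologicalKrullDim_eq, Groth.Agent.S10829.result k m] at h0
      have := CartierDim.natCast_le_withBot.mp h0
      omega⟩
  exact isIso_of_isClosedImmersion_of_surjective i

/-- no intermediate cohomology on a hyperplane implies none at all -/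
theorem cond_of_pullback_hyperplane {N : ℕ} (hN : 2 ≤ N) {E : (CohB1.ProjSpace (N + 1) k).Modules}
    (hE : FlatMod.IsFinLocFree E) (j : CohB1.ProjSpace N k ⟶ CohB1.ProjSpace (N + 1) k)
    (wj : (Scheme.Modules.pullback j).obj (tO (N + 1) k 1) ≅ tO N k 1)
    (hseq : ∀ G : (CohB1.ProjSpace (N + 1) k).Modules, FlatMod.IsFinLocFree G →
        ∃ S : ShortComplex (CohB1.ProjSpace (N + 1) k).Modules, S.ShortExact ∧ ∀ q,
          Nonempty (Coh.HH (CohB1.ProjSpace (N + 1) k) S.X₁ q ≃
            Coh.HH (CohB1.ProjSpace (N + 1) k) (CohB1.tensorMod G (tO (N + 1) k (-1))) q) ∧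
          Nonempty (Coh.HH (CohB1.ProjSpace (N + 1) k) S.X₂ q ≃ Coh.HH (CohB1.ProjSpace (N + 1) k) G q) ∧
          Nonempty (Coh.HH (CohB1.ProjSpace (N + 1) k) S.X₃ q ≃
            Coh.HH (CohB1.ProjSpace N k) ((Scheme.Modules.pullback j).obj G) q))
    (ih' : Horrocks.Cond ((Scheme.Modules.pullback j).obj E)) : Horrocks.Cond E := by
  let A : ℤ → ℕ → Prop := fun e q =>
    Subsingleton (Coh.HH (CohB1.ProjSpace (N + 1) k) (CohB1.tensorMod E (tO (N + 1) k e)) q)
  let B : ℤ → ℕ → Prop := fun e q => Subsingleton (Coh.HH (CohB1.ProjSpace N k)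
    (CohB1.tensorMod ((Scheme.Modules.pullback j).obj E) (tO N k e)) q)
  have up : ∀ e q, B e q → A (e - 1) q → A e q := by
    intro e q hB hA
    obtain ⟨S, hS, hh⟩ := hseq _ (isFinLocFree_tensor_twist hE e)
    obtain ⟨⟨a⟩, ⟨b⟩, ⟨c⟩⟩ := hh q
    obtain ⟨t⟩ := nonempty_pullback_tensor j wj E e
    obtain ⟨θ⟩ := TwistPairing.nonempty_twist_twist (R := k) (N + 1) e (-1) (e - 1) (by ring)
    have h₁ : Subsingleton (Coh.HH _ S.X₁ q) := a.subsingleton_congr.2 (CohQC.hh_subsingleton_of_iso
      (TMul.assocIso _ _ _ ≪≫ PicGrp.tensorModIso (Iso.refl _) θ).symm q hA)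
    have h₃ : Subsingleton (Coh.HH _ S.X₃ q) :=
      c.subsingleton_congr.2 (CohQC.hh_subsingleton_of_iso t.symm q hB)
    refine b.subsingleton_congr.1 (subsingleton_of_forall_eq 0 fun x => ?_)
    obtain ⟨y, rfl⟩ := (CohFinite.map_g_eq_zero_iff (CohQC.seq_shortExact hS) q x).1 (h₃.elim _ _)
    rw [show y = 0 from h₁.elim _ _, map_zero]
  have down : ∀ e q, B e q → A e (q + 1) → A (e - 1) (q + 1) := by
    intro e q hB hA
    obtain ⟨S, hS, hh⟩ := hseq _ (isFinLocFree_tensor_twist hE e)
    obtain ⟨-, -, ⟨c⟩⟩ := hh q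
    obtain ⟨⟨a⟩, ⟨b⟩, -⟩ := hh (q + 1)
    obtain ⟨t⟩ := nonempty_pullback_tensor j wj E e
    obtain ⟨θ⟩ := TwistPairing.nonempty_twist_twist (R := k) (N + 1) e (-1) (e - 1) (by ring)
    exact CohQC.hh_subsingleton_of_iso (TMul.assocIso _ _ _ ≪≫ PicGrp.tensorModIso (Iso.refl _) θ) (q + 1)
      (a.subsingleton_congr.1 (BlowPn.subsingleton_hh_X₁_succ hS q (b.subsingleton_congr.2 hA)
        (c.subsingleton_congr.2 (CohQC.hh_subsingleton_of_iso t.symm q hB))))
  intro e q hq hqd
  change A e q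
  rcases Nat.lt_or_ge q 2 with hq1 | hq2
  · obtain rfl : q = 1 := by omega
    obtain ⟨T, hT⟩ := exists_neg_vanish_projSpace (N + 1) hE
    suffices key : ∀ (p : ℕ) (e : ℤ), e ≤ T + p → A e 1 from key (e - T).toNat e (by omega)
    intro p
    induction p with
    | zero => exact fun e he => hT e (by omega) 1 (by omega)
    | succ p ihp => exact fun e he => up e 1 (ih' e 1 one_pos (by omega)) (ihp _ (by omega))
  · obtain ⟨p₀, rfl⟩ : ∃ p, q = p + 1 := ⟨q - 1, by omega⟩
    obtain ⟨T, hT⟩ := MumBound.eventually_vanish (Horrocks.isCoh_of_locFree hE)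
    suffices key : ∀ (p : ℕ) (e : ℤ), (T : ℤ) ≤ e + p → A e (p₀ + 1) from key ((T : ℤ) - e).toNat e (by omega)
    intro p
    induction p with
    | zero => exact fun e he => hT e (by omega) (p₀ + 1) (by omega)
    | succ p ihp =>
      intro e he
      have h := down (e + 1) p₀ (ih' (e + 1) p₀ (by omega) (by omega)) (ihp _ (by omega))
      rwa [add_sub_cancel_right] at h

/-- no intermediate cohomology, from a linear subspace of dimension at least two -/
theorem cond_of_pullback {m : ℕ} (hm : 2 ≤ m) : ∀ (d : ℕ) (E : (CohB1.ProjSpace (m + d) k).Modules),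
    FlatMod.IsFinLocFree E →
    ∀ (i : CohB1.ProjSpace m k ⟶ CohB1.ProjSpace (m + d) k) [IsClosedImmersion i],
      i ≫ CohB1.ProjSpace.toSpec (m + d) k = CohB1.ProjSpace.toSpec m k →
      Nonempty ((Scheme.Modules.pullback i).obj (tO (m + d) k 1) ≅ tO m k 1) →
      Horrocks.Cond ((Scheme.Modules.pullback i).obj E) → Horrocks.Cond E := by
  intro d
  induction d with
  | zero =>
    intro E hE i hci hi hO hc e q hq hqm
    haveI := hci
    obtain ⟨w⟩ := hO
    obtain ⟨t⟩ := nonempty_pullback_tensor (m := m) (n := m) i w E e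
    haveI := isIso_of_closedImmersion_self (k := k) (m := m) i
    have hM : FlatMod.IsFinLocFree (CohB1.tensorMod E (tO (m + 0) k e)) := isFinLocFree_tensor_twist hE _
    change Subsingleton (Coh.HH _ (CohB1.tensorMod E (tO (m + 0) k e)) q)
    generalize CohB1.tensorMod E (tO (m + 0) k e) = M at hM t ⊢
    haveI : ((Scheme.Modules.pullback i).obj M).IsQuasicoherent :=
      LocFree.isQCoh_of_isFinLocFree (SGA6Ext.isFinLocFree_pullback _ hM)
    haveI := CompInt.isIso_unit_of_ker_eq_bot i i.ker_eq_bot_of_isIso M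
    exact CohQC.hh_subsingleton_of_iso
      (asIso ((Scheme.Modules.pullbackPushforwardAdjunction i).unit.app M)).symm q
      ((CompInt.hh_push_iff i (CohB1.ProjSpace.toSpec (m + 0) k) _ q).1
        (CohQC.hh_subsingleton_of_iso t.symm q (hc e q hq hqm)))
  | succ d ih =>
    intro E hE i hci hi hO hc
    haveI := hci
    obtain ⟨j, i', hj, hjo, ⟨wj⟩, hi'c, hij, hi'o, hO', hseq⟩ := exists_hyperplane (m := m) (n := m + d) (by omega) i hi hO
    haveI := hj
    haveI := hi'c
    have hE' := SGA6Ext.isFinLocFree_pullback j hE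
    have ih' := ih ((Scheme.Modules.pullback j).obj E) hE' i' hi'o hO' fun e q h1 h2 =>
      CohQC.hh_subsingleton_of_iso (PicGrp.tensorModIso ((Scheme.Modules.pullbackCongr hij.symm).app E ≪≫
        ((Scheme.Modules.pullbackComp i' j).app E).symm) (Iso.refl _)) q (hc e q h1 h2)
    exact cond_of_pullback_hyperplane (N := m + d) (Nat.le_add_right_of_le hm) hE j wj hseq ih'

end Groth.Agent.PnEuler
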