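import Groth.Agent.PnEuler.FormSeq
import Groth.Agent.HNSplit.Dual
import Groth.Agent.BlowPn.HomLift

/-!
# Bundles trivial on all lines through a point
-/

set_option autoImplicit false
set_option backward.isDefEq.respectTransparency false
set_option backward.isDefEq.respectTransparency.types false
set_option linter.style.haveILetI false
set_option linter.unusedSectionVars false
set_option maxHeartbeats 1000000

universe u

open CategoryTheory CategoryTheory.Limits AlgebraicGeometry TopologicalSpace Opposite Groth.Agent.QC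
open Groth.Agent.CohFinite (tmap)
open Groth.Agent.PicBdd (scal)

noncomputable section

namespace Groth.Agent.PnEuler

variable {k : Type u} [Field k]

theorem point_free {r : ℕ} {E : (CohB1.ProjSpace 0 k).Modules} (hE : FlatMod.IsFinLocFreeOfRank r E) :
    Nonempty (E ≅ FlatMod.freeMod (CohB1.ProjSpace 0 k) r) := by
  haveI := ProjMor.isIso_toSpec_zero k
  haveI : Subsingleton (CohB1.ProjSpace 0 k) :=
    (Scheme.homeoOfIso (asIso (CohB1.ProjSpace.toSpec 0 k))).toEquiv.subsingleton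
  haveI := Horrocks.isIntegral_projSpace (k := k) (n := 0)
  obtain ⟨W, hxW, ⟨e⟩⟩ := hE (genericPoint _)
  obtain rfl : W = ⊤ := top_le_iff.mp fun y _ => Subsingleton.elim (genericPoint (CohB1.ProjSpace 0 k)) y ▸ hxW
  let X := CohB1.ProjSpace 0 k
  let e1 : (Scheme.Modules.pullback X.topIso.inv).obj (E.restrict (⊤ : X.Opens).ι) ≅ E :=
    (Scheme.Modules.pullback X.topIso.inv).mapIso
      ((Scheme.Modules.restrictFunctorIsoPullback (⊤ : X.Opens).ι).app E) ≪≫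
      (Scheme.Modules.pullbackComp _ _).app E ≪≫
      (Scheme.Modules.pullbackCongr (X.topIso.inv_hom_id)).app E ≪≫ (Scheme.Modules.pullbackId X).app E
  exact ⟨e1.symm ≪≫ (Scheme.Modules.pullback X.topIso.inv).mapIso e ≪≫ DerPerf.pullFreeIso _ r⟩

/-- closed points are linear points -/
theorem exists_pt [IsAlgClosed k] {n : ℕ} (x : CohB1.ProjSpace n k)
    (hx : IsClosed ({x} : Set (CohB1.ProjSpace n k))) :
    ∃ pt : CohB1.ProjSpace 0 k ⟶ CohB1.ProjSpace n k, IsClosedImmersion pt ∧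
      pt ≫ CohB1.ProjSpace.toSpec n k = CohB1.ProjSpace.toSpec 0 k ∧
      Nonempty ((Scheme.Modules.pullback pt).obj (tO n k 1) ≅ tO 0 k 1) ∧ ∀ t, pt t = x := by
  haveI := ProjMor.isIso_toSpec_zero k
  haveI := ProjMor.isProper_toSpec n k
  haveI : LocallyOfFiniteType (Over.mk (CohB1.ProjSpace.toSpec n k)).hom :=
    inferInstanceAs (LocallyOfFiniteType (CohB1.ProjSpace.toSpec n k))
  obtain ⟨p, hp⟩ := GrpAct.exists_point (K := k) (Z := Over.mk (CohB1.ProjSpace.toSpec n k)) x hx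
  have hw : p.left ≫ CohB1.ProjSpace.toSpec n k = 𝟙 _ := by
    refine (Over.w p).trans ?_
    show Spec.map (CommRingCat.ofHom (algebraMap k k)) = 𝟙 _
    rw [Algebra.algebraMap_self]
    exact Spec.map_id _
  let pt : CohB1.ProjSpace 0 k ⟶ CohB1.ProjSpace n k := CohB1.ProjSpace.toSpec 0 k ≫ p.left
  have hpt : pt ≫ CohB1.ProjSpace.toSpec n k = CohB1.ProjSpace.toSpec 0 k := by
    simp only [pt, Category.assoc, hw]
    exact Category.comp_id _
  haveI : IsClosedImmersion (pt ≫ CohB1.ProjSpace.toSpec n k) := by rw [hpt]; infer_instance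
  haveI : IsClosedImmersion pt := IsClosedImmersion.of_comp pt (CohB1.ProjSpace.toSpec n k)
  refine ⟨pt, inferInstance, hpt, ?_, fun t => hp _⟩
  obtain ⟨a⟩ := point_free (CurveRR.isFinLocFreeOfRank_one (PicLoc.isInvertible_pullback pt (CohFinite.isInvertible_twist n k 1)))
  obtain ⟨b⟩ := point_free (CurveRR.isFinLocFreeOfRank_one (CohFinite.isInvertible_twist 0 k 1))
  exact ⟨a ≪≫ b.symm⟩

theorem val_comp_scal {X : Scheme.{u}} {L : X.Modules} (s : Coh.structureModule X ⟶ L) (a : Γ(X, ⊤)) :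
    TMul.val (s ≫ scal a L) ⊤ = a • TMul.val s ⊤ := by
  rw [TMul.val_comp]
  show (scal a L).app ⊤ (TMul.val s ⊤) = _
  rw [PicBdd.scal_app]
  exact congrArg (· • _) (congrArg (fun f => f a) (X.presheaf.map_id (op ⊤)))

/-- a pencil of linear forms through a linear point -/
theorem exists_pencil {n : ℕ} (hn : 1 ≤ n) (pt : CohB1.ProjSpace 0 k ⟶ CohB1.ProjSpace (n + 1) k)
    (hi : pt ≫ CohB1.ProjSpace.toSpec (n + 1) k = CohB1.ProjSpace.toSpec 0 k)
    (hO : Nonempty ((Scheme.Modules.pullback pt).obj (tO (n + 1) k 1) ≅ tO 0 k 1)) :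
    ∃ s₁ s₂ : Coh.structureModule (CohB1.ProjSpace (n + 1) k) ⟶ tO (n + 1) k 1,
      s₁ ≠ 0 ∧ AbelMap.pullSec pt s₁ = 0 ∧ AbelMap.pullSec pt s₂ = 0 ∧
      ∀ c : k, s₂ + s₁ ≫ scal (Coh.toGlobal (CohB1.ProjSpace.toSpec (n + 1) k) c) _ ≠ 0 := by
  obtain ⟨w⟩ := hO
  letI : (CohB1.ProjSpace (n + 1) k).Over (Spec (CommRingCat.of k)) := ⟨CohB1.ProjSpace.toSpec (n + 1) k⟩
  letI : (CohB1.ProjSpace 0 k).Over (Spec (CommRingCat.of k)) := ⟨CohB1.ProjSpace.toSpec 0 k⟩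
  haveI : IsProper (CohB1.ProjSpace (n + 1) k ↘ Spec (CommRingCat.of k)) := ProjMor.isProper_toSpec (n + 1) k
  haveI : IsProper (CohB1.ProjSpace 0 k ↘ Spec (CommRingCat.of k)) := ProjMor.isProper_toSpec 0 k
  letI m1 := CurveRR.secMod k (tO (n + 1) k 1) ⊤
  letI m2 := CurveRR.secMod k ((Scheme.Modules.pullback pt).obj (tO (n + 1) k 1)) ⊤
  have hd : ∀ N : ℕ, Module.Finite k (Coh.HH (CohB1.ProjSpace N k) (tO N k 1) 0) ∧
      Module.finrank k (Coh.HH (CohB1.ProjSpace N k) (tO N k 1) 0) = N + 1 := fun N => by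
    obtain ⟨h1, h2⟩ := PnHodge.twist_h0 (n := N) (k := k) 0 1 (Nat.zero_le _)
    simp only [Nat.cast_one, Nat.cast_zero, sub_zero, Nat.sub_zero] at h1 h2
    exact ⟨h1, h2.trans (Nat.choose_succ_self_right N)⟩
  have eP := CohFinite.hhEquiv k w 0
  haveI := (hd (n + 1)).1
  haveI := (hd 0).1
  haveI : Module.Finite k Γ(tO (n + 1) k 1, ⊤) := Module.Finite.equiv (CurveRR.secH0 (k := k) _).symm
  haveI : Module.Finite k (Coh.HH (CohB1.ProjSpace 0 k) ((Scheme.Modules.pullback pt).obj (tO (n + 1) k 1)) 0) :=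
    Module.Finite.equiv eP.symm
  haveI : Module.Finite k Γ((Scheme.Modules.pullback pt).obj (tO (n + 1) k 1), ⊤) :=
    Module.Finite.equiv (CurveRR.secH0 (k := k) _).symm
  let φ : Γ(tO (n + 1) k 1, ⊤) →ₗ[k] Γ((Scheme.Modules.pullback pt).obj (tO (n + 1) k 1), ⊤) :=
    { toFun := OmegaSh.pullSect pt (tO (n + 1) k 1) ⊤
      map_add' := map_add _
      map_smul' := fun a s => by
        show OmegaSh.pullSect pt (tO (n + 1) k 1) ⊤ (CurveRR.cst k (CohB1.ProjSpace (n + 1) k) ⊤ a • s) =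
          HSMul.hSMul (α := Γ(CohB1.ProjSpace 0 k, pt ⁻¹ᵁ ⊤)) (CurveRR.cst k (CohB1.ProjSpace 0 k) ⊤ a)
            (OmegaSh.pullSect pt (tO (n + 1) k 1) ⊤ s)
        rw [OmegaSh.pullSect_smul]
        exact congrArg (· • _) (CurveVA.app_cst pt hi ⊤ a) }
  have hr : 2 ≤ Module.finrank k (LinearMap.ker φ) := by
    have h1 := φ.finrank_range_add_finrank_ker
    have h2 := Submodule.finrank_le (LinearMap.range φ)
    rw [CurveRR.finrank_sec] at h1 h2
    change _ = Module.finrank k (Coh.HH _ _ 0) at h1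
    change _ ≤ Module.finrank k (Coh.HH _ _ 0) at h2
    rw [(hd (n + 1)).2] at h1
    rw [eP.finrank_eq, (hd 0).2] at h2
    omega
  have hne : LinearMap.ker φ ≠ ⊥ := fun h => by rw [h, finrank_bot] at hr; omega
  obtain ⟨Q₁, h₁, h₁0⟩ := Submodule.exists_mem_ne_zero_of_ne_bot hne
  obtain ⟨Q₂, h₂, h₂0⟩ : ∃ Q ∈ LinearMap.ker φ, Q ∉ Submodule.span k {Q₁} := by
    by_contra! hle
    have := Submodule.finrank_mono hle
    rw [finrank_span_singleton h₁0] at this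
    omega
  have hp : ∀ Q ∈ LinearMap.ker φ, AbelMap.pullSec pt (TMul.homOf Q) = 0 := fun Q hQ => by
    refine TMul.hom_ext_val (((AmpleDesc.val_pullback pt (TMul.homOf Q)).trans ?_).trans (ZeroSch.val_zero ⊤).symm)
    rw [TMul.val_homOf, res_self]
    exact hQ
  refine ⟨TMul.homOf Q₁, TMul.homOf Q₂, fun h => h₁0 ?_, hp _ h₁, hp _ h₂, fun c h => h₂0 ?_⟩
  · have := congrArg (fun t => TMul.val t ⊤) h
    simp only [TMul.val_homOf, res_self] at this
    exact this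
  · have h' := congrArg (fun t => TMul.val t ⊤) h
    simp only [ZeroSch.val_add, val_comp_scal, TMul.val_homOf, res_self, ZeroSch.val_zero] at h'
    refine Submodule.mem_span_singleton.2 ⟨-c, ?_⟩
    show CurveRR.cst k (CohB1.ProjSpace (n + 1) k) ⊤ (-c) • Q₁ = Q₂
    rw [map_neg, neg_smul, eq_comm, ← add_eq_zero_iff_eq_neg]
    refine Eq.trans ?_ h'
    exact congrArg (Q₂ + · • Q₁) ((RingHom.comp_apply _ _ _).trans (resO_self le_rfl _))

theorem pullSec_comb {X Y : Scheme.{u}} (f : X ⟶ Y) {L : Y.Modules} (s₁ s₂ : Coh.structureModule Y ⟶ L)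
    (g : L ⟶ L) (h₁ : AbelMap.pullSec f s₁ = 0) (h₂ : AbelMap.pullSec f s₂ = 0) :
    AbelMap.pullSec f (s₂ + s₁ ≫ g) = 0 := by
  unfold AbelMap.pullSec at h₁ h₂ ⊢
  rw [Functor.map_add, Functor.map_comp, Preadditive.comp_add, ← Category.assoc, h₁, h₂, zero_comp, add_zero]

/-- a linear hyperplane with the given form contains the point -/
theorem exists_factor_pt {m n : ℕ} {s : Coh.structureModule (CohB1.ProjSpace (n + 1) k) ⟶ tO (n + 1) k 1}
    {j : CohB1.ProjSpace n k ⟶ CohB1.ProjSpace (n + 1) k} [IsClosedImmersion j]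
    (hj : j.ker = PicF2.zeroScheme _ s) (pt : CohB1.ProjSpace m k ⟶ CohB1.ProjSpace (n + 1) k)
    (hp : AbelMap.pullSec pt s = 0) : ∃ p', p' ≫ j = pt := by
  have hT := CohFinite.isInvertible_twist (n + 1) k 1
  have h1 := AbelMap.zeroScheme_pullSec pt hT s
  rw [hp, zeroScheme_zero (PicLoc.isInvertible_pullback pt hT)] at h1
  have hZ : PicF2.zeroScheme _ s ≤ pt.ker := by
    refine ((PicF2.zeroScheme _ s).le_map_comap pt).trans_eq ?_
    rw [← h1, Scheme.IdealSheafData.map_bot]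
  exact ⟨IsClosedImmersion.lift j pt (hj.trans_le hZ), IsClosedImmersion.lift_fac _ _ _⟩

/-- on a plane, `H¹(E(-1))` vanishes -/
theorem subsingleton_h1_neg_one [IsAlgClosed k] {r : ℕ} (E : (CohB1.ProjSpace 2 k).Modules)
    (hE : FlatMod.IsFinLocFree E)
    (pt : CohB1.ProjSpace 0 k ⟶ CohB1.ProjSpace 2 k)
    (hi : pt ≫ CohB1.ProjSpace.toSpec 2 k = CohB1.ProjSpace.toSpec 0 k)
    (hO : Nonempty ((Scheme.Modules.pullback pt).obj (tO 2 k 1) ≅ tO 0 k 1))
    (h : ∀ (i : CohB1.ProjSpace 1 k ⟶ CohB1.ProjSpace 2 k) [IsClosedImmersion i],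
      i ≫ CohB1.ProjSpace.toSpec 2 k = CohB1.ProjSpace.toSpec 1 k →
      Nonempty ((Scheme.Modules.pullback i).obj (tO 2 k 1) ≅ tO 1 k 1) →
      (∃ p', p' ≫ i = pt) →
      Nonempty ((Scheme.Modules.pullback i).obj E ≅ FlatMod.freeMod (CohB1.ProjSpace 1 k) r)) :
    Subsingleton (Coh.HH (CohB1.ProjSpace 2 k) (CohB1.tensorMod E (tO 2 k (-1))) 1) := by
  obtain ⟨s₁, s₂, hs₁, hp₁, hp₂, hc⟩ := exists_pencil (n := 1) le_rfl pt hi hO
  letI : (CohB1.ProjSpace 2 k).Over (Spec (CommRingCat.of k)) := ⟨CohB1.ProjSpace.toSpec 2 k⟩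
  haveI : IsProper (CohB1.ProjSpace 2 k ↘ Spec (CommRingCat.of k)) := ProjMor.isProper_toSpec 2 k
  let G := CohB1.tensorMod E (tO 2 k (-2))
  have hG : FlatMod.IsFinLocFree G := isFinLocFree_tensor_twist hE _
  let Φ : (Coh.structureModule (CohB1.ProjSpace 2 k) ⟶ tO 2 k 1) →
      (Coh.HH (CohB1.ProjSpace 2 k) (CohB1.tensorMod (Coh.structureModule (CohB1.ProjSpace 2 k)) G) 1 →ₗ[k]
        Coh.HH (CohB1.ProjSpace 2 k) (CohB1.tensorMod (tO 2 k 1) G) 1) := fun s => CohFinite.hhMap k (tmap s G) 1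
  obtain ⟨θ⟩ := TwistPairing.nonempty_twist_twist (R := k) 2 (-2) 1 (-1) (by norm_num)
  let eW : CohB1.tensorMod (tO 2 k 1) G ≅ CohB1.tensorMod E (tO 2 k (-1)) :=
    TMul.commIso _ _ ≪≫ TMul.assocIso _ _ _ ≪≫ PicGrp.tensorModIso (Iso.refl E) θ
  have hbij : ∀ s, s ≠ 0 → AbelMap.pullSec pt s = 0 → Function.Bijective (Φ s) := by
    intro s hs hp
    obtain ⟨j, hjc, hj, hjk, ⟨wj⟩, hseq⟩ := exists_mult_seq (n := 1) s hs
    haveI := hjc
    obtain ⟨t⟩ := h j hj ⟨wj⟩ (exists_factor_pt hjk pt hp)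
    obtain ⟨X₃, g, w, hS, hv⟩ := hseq G hG
    obtain ⟨tt⟩ := nonempty_pullback_tensor (m := 1) j wj E (-1)
    have hv' : ∀ q, Subsingleton (Coh.HH (CohB1.ProjSpace 2 k) X₃ q) := fun q => hv q
      (CohQC.hh_subsingleton_of_iso ((Scheme.Modules.pullback j).mapIso eW ≪≫ tt ≪≫
        PicGrp.tensorModIso t (Iso.refl _)).symm q
        (BlowPn.subsingleton_hh_free r _ q (ProjCech.twist_vanish (R := k) 1 (-1) q (fun h => by omega) (fun h => by omega))))
    refine ⟨(injective_iff_map_eq_zero _).2 fun x hx => ?_, fun y => ?_⟩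
    · obtain ⟨z, rfl⟩ := (CohFinite.map_f_eq_zero_iff (CohQC.seq_shortExact hS) 0 x).1 hx
      rw [show z = 0 from (hv' 0).elim _ _, map_zero]
    · obtain ⟨z, hz⟩ := (CohFinite.map_g_eq_zero_iff (CohQC.seq_shortExact hS) 1 y).1 ((hv' 1).elim _ _)
      exact ⟨z, hz⟩
  haveI : Module.Finite k (Coh.HH (CohB1.ProjSpace 2 k) (CohB1.tensorMod (Coh.structureModule (CohB1.ProjSpace 2 k)) G) 1) :=
    letI := CohFinite.finite_projSpace 2 k G (Horrocks.isCoh_of_locFree hG) 1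
    Module.Finite.equiv (CohFinite.hhEquiv k (TMul.leftUnitIso G) 1).symm
  suffices hV : Subsingleton (Coh.HH (CohB1.ProjSpace 2 k)
      (CohB1.tensorMod (Coh.structureModule (CohB1.ProjSpace 2 k)) G) 1) from
    CohQC.hh_subsingleton_of_iso eW 1
      (hbij s₁ hs₁ hp₁).2.subsingleton
  by_contra hV
  rw [not_subsingleton_iff_nontrivial] at hV
  haveI := hV
  let e₁ := LinearEquiv.ofBijective (Φ s₁) (hbij s₁ hs₁ hp₁)
  obtain ⟨c, hcc⟩ := Module.End.exists_eigenvalue ((e₁.symm.toLinearMap ∘ₗ Φ s₂ : Module.End k _))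
  obtain ⟨v, hv⟩ := hcc.exists_hasEigenvector
  have h2 : Φ s₂ v = c • Φ s₁ v := by
    have h3 := congrArg e₁ hv.apply_eq_smul
    simpa [e₁] using h3
  let a : Γ(CohB1.ProjSpace 2 k, ⊤) := Coh.toGlobal (CohB1.ProjSpace.toSpec 2 k) (-c)
  refine hv.2 ((hbij _ (hc (-c)) (pullSec_comb pt s₁ s₂ _ hp₁ hp₂)).1 ?_)
  rw [map_zero]
  show CohFinite.hhMap k (tmap (s₂ + s₁ ≫ scal a _) G) 1 v = 0
  rw [CohFinite.tmap_add, CohFinite.tmap_comp, BlowPn.tmap_scal, W7Slope.hhMap_add, CohFinite.hhMap_comp]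
  show Φ s₂ v + CohFinite.hhMap k (scal a _) 1 (Φ s₁ v) = 0
  have hsc : ∀ z : Coh.HH (CohB1.ProjSpace 2 k) (CohB1.tensorMod (tO 2 k 1) G) 1,
      CohFinite.hhMap k (scal a _) 1 z = (-c) • z := fun z =>
    congrArg (fun f => Sheaf.H.map f 1 z) (BlowPn.toSheaf_scal a _)
  rw [hsc, h2, neg_smul, add_neg_cancel]

end Groth.Agent.PnEuler
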