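import Groth.Agent.PnEuler.PointLines

/-!
# Triviality from lines through a point
-/

set_option autoImplicit false
set_option backward.isDefEq.respectTransparency false
set_option backward.isDefEq.respectTransparency.types false
set_option linter.style.haveILetI false
set_option linter.unusedSectionVars false
set_option maxHeartbeats 1000000

universe u

open CategoryTheory CategoryTheory.Limits AlgebraicGeometry TopologicalSpace Opposite

noncomputable section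

namespace Groth.Agent.PnEuler

variable {k : Type u} [Field k]

/-- trivial on the lines through the point -/
def TrivLines {n : ℕ} (r : ℕ) (E : (CohB1.ProjSpace n k).Modules)
    (pt : CohB1.ProjSpace 0 k ⟶ CohB1.ProjSpace n k) : Prop :=
  ∀ (i : CohB1.ProjSpace 1 k ⟶ CohB1.ProjSpace n k) [IsClosedImmersion i],
    i ≫ CohB1.ProjSpace.toSpec n k = CohB1.ProjSpace.toSpec 1 k →
    Nonempty ((Scheme.Modules.pullback i).obj (tO n k 1) ≅ tO 1 k 1) →
    (∃ p', p' ≫ i = pt) →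
    Nonempty ((Scheme.Modules.pullback i).obj E ≅ FlatMod.freeMod (CohB1.ProjSpace 1 k) r)

theorem cond_plane [IsAlgClosed k] {r : ℕ} (E : (CohB1.ProjSpace 2 k).Modules) (hE : FlatMod.IsFinLocFree E)
    (pt : CohB1.ProjSpace 0 k ⟶ CohB1.ProjSpace 2 k) [IsClosedImmersion pt]
    (hi : pt ≫ CohB1.ProjSpace.toSpec 2 k = CohB1.ProjSpace.toSpec 0 k)
    (hO : Nonempty ((Scheme.Modules.pullback pt).obj (tO 2 k 1) ≅ tO 0 k 1))
    (h : TrivLines r E pt) : Horrocks.Cond E := by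
  have h0 := subsingleton_h1_neg_one E hE pt hi hO h
  obtain ⟨j, p', hj, hjo, ⟨wj⟩, -, hpj, -, -, hseq⟩ := exists_hyperplane (m := 0) (n := 1) (Nat.zero_le _) pt hi hO
  haveI := hj
  obtain ⟨tf⟩ := h j hjo ⟨wj⟩ ⟨p', hpj⟩
  have hB : ∀ (e : ℤ) (q : ℕ), ¬ (q = 0 ∧ 0 ≤ e) → ¬ (q = 1 ∧ e ≤ -2) →
      Subsingleton (Coh.HH (CohB1.ProjSpace 1 k)
        ((Scheme.Modules.pullback j).obj (CohB1.tensorMod E (tO 2 k e))) q) := fun e q h₀ h₁ => by
    obtain ⟨t⟩ := nonempty_pullback_tensor (m := 1) j wj E e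
    exact CohQC.hh_subsingleton_of_iso (t ≪≫ PicGrp.tensorModIso tf (Iso.refl _)).symm q
      (BlowPn.subsingleton_hh_free r _ q (ProjCech.twist_vanish (R := k) 1 e q h₀
        (fun hh => h₁ ⟨hh.1, by have := hh.2; push_cast at this; omega⟩)))
  intro e q hq hq2
  obtain rfl : q = 1 := by omega
  change Subsingleton (Coh.HH _ (CohB1.tensorMod E (tO 2 k e)) 1)
  rcases le_or_gt (-1) e with he | he
  · obtain ⟨p, rfl⟩ : ∃ p : ℕ, e = -1 + p := ⟨(e + 1).toNat, by omega⟩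
    induction p with
    | zero => simpa using h0
    | succ p ih =>
      obtain ⟨S, hS, hh⟩ := hseq _ (isFinLocFree_tensor_twist hE (-1 + ((p + 1 : ℕ) : ℤ)))
      obtain ⟨⟨a⟩, ⟨b⟩, ⟨c⟩⟩ := hh 1
      obtain ⟨θ⟩ := TwistPairing.nonempty_twist_twist (R := k) 2 (-1 + ((p + 1 : ℕ) : ℤ)) (-1) (-1 + (p : ℤ))
        (by push_cast; ring)
      have h₁ : Subsingleton (Coh.HH _ S.X₁ 1) := a.subsingleton_congr.2 (CohQC.hh_subsingleton_of_iso
        (TMul.assocIso _ _ _ ≪≫ PicGrp.tensorModIso (Iso.refl _) θ).symm 1 (ih (by omega)))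
      have h₃ : Subsingleton (Coh.HH _ S.X₃ 1) :=
        c.subsingleton_congr.2 (hB _ 1 (fun h => by omega) (fun h => by omega))
      refine b.subsingleton_congr.1 (subsingleton_of_forall_eq 0 fun x => ?_)
      obtain ⟨y, rfl⟩ := (CohFinite.map_g_eq_zero_iff (CohQC.seq_shortExact hS) 1 x).1 (h₃.elim _ _)
      rw [show y = 0 from h₁.elim _ _, map_zero]
  · obtain ⟨p, rfl⟩ : ∃ p : ℕ, e = -1 - p := ⟨(-1 - e).toNat, by omega⟩
    clear he
    induction p with
    | zero => simpa using h0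
    | succ p ih =>
      obtain ⟨S, hS, hh⟩ := hseq _ (isFinLocFree_tensor_twist hE (-1 - (p : ℤ)))
      obtain ⟨-, -, ⟨c⟩⟩ := hh 0
      obtain ⟨⟨a⟩, ⟨b⟩, -⟩ := hh 1
      obtain ⟨θ⟩ := TwistPairing.nonempty_twist_twist (R := k) 2 (-1 - (p : ℤ)) (-1) (-1 - ((p + 1 : ℕ) : ℤ))
        (by push_cast; ring)
      exact CohQC.hh_subsingleton_of_iso (TMul.assocIso _ _ _ ≪≫ PicGrp.tensorModIso (Iso.refl _) θ) 1
        (a.subsingleton_congr.1 (BlowPn.subsingleton_hh_X₁_succ hS 0 (b.subsingleton_congr.2 ih)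
          (c.subsingleton_congr.2 (hB _ 0 (fun h => by omega) (fun h => by omega)))))

theorem trivLines_pullback {m n r : ℕ} {E : (CohB1.ProjSpace n k).Modules}
    (j : CohB1.ProjSpace m k ⟶ CohB1.ProjSpace n k) [IsClosedImmersion j]
    (hj : j ≫ CohB1.ProjSpace.toSpec n k = CohB1.ProjSpace.toSpec m k)
    (w : (Scheme.Modules.pullback j).obj (tO n k 1) ≅ tO m k 1)
    (p' : CohB1.ProjSpace 0 k ⟶ CohB1.ProjSpace m k) {pt : CohB1.ProjSpace 0 k ⟶ CohB1.ProjSpace n k}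
    (hp : p' ≫ j = pt) (h : TrivLines r E pt) : TrivLines r ((Scheme.Modules.pullback j).obj E) p' := by
  intro i hic hi hO hfac
  obtain ⟨wi⟩ := hO
  obtain ⟨q, hq⟩ := hfac
  haveI := hic
  obtain ⟨t⟩ := h (i ≫ j) (by rw [Category.assoc, hj, hi])
    ⟨((Scheme.Modules.pullbackComp i j).app _).symm ≪≫ (Scheme.Modules.pullback i).mapIso w ≪≫ wi⟩
    ⟨q, by rw [← Category.assoc, hq, hp]⟩
  exact ⟨(Scheme.Modules.pullbackComp i j).app E ≪≫ t⟩

theorem cond_of_trivLines [IsAlgClosed k] : ∀ (d : ℕ) {r : ℕ} (E : (CohB1.ProjSpace (2 + d) k).Modules),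
    FlatMod.IsFinLocFree E →
    ∀ (pt : CohB1.ProjSpace 0 k ⟶ CohB1.ProjSpace (2 + d) k) [IsClosedImmersion pt],
      pt ≫ CohB1.ProjSpace.toSpec (2 + d) k = CohB1.ProjSpace.toSpec 0 k →
      Nonempty ((Scheme.Modules.pullback pt).obj (tO (2 + d) k 1) ≅ tO 0 k 1) →
      TrivLines r E pt → Horrocks.Cond E := by
  intro d
  induction d with
  | zero =>
    intro r E hE pt hc hi hO h
    haveI := hc
    exact cond_plane E hE pt hi hO h
  | succ d ih =>
    intro r E hE pt hc hi hO h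
    haveI := hc
    obtain ⟨j, p', hj, hjo, ⟨wj⟩, hp'c, hpj, hp'o, hp'O, hseq⟩ :=
      exists_hyperplane (m := 0) (n := 2 + d) (Nat.zero_le _) pt hi hO
    haveI := hj
    haveI := hp'c
    have hc' := ih _ (SGA6Ext.isFinLocFree_pullback j hE) p' hp'o hp'O (trivLines_pullback j hjo wj p' hpj h)
    exact cond_of_pullback_hyperplane (N := 2 + d) (Nat.le_add_right 2 d) hE j wj hseq hc'

theorem exists_line_through : ∀ (d : ℕ) (pt : CohB1.ProjSpace 0 k ⟶ CohB1.ProjSpace (1 + d) k)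
    [IsClosedImmersion pt], pt ≫ CohB1.ProjSpace.toSpec (1 + d) k = CohB1.ProjSpace.toSpec 0 k →
    Nonempty ((Scheme.Modules.pullback pt).obj (tO (1 + d) k 1) ≅ tO 0 k 1) →
    ∃ i : CohB1.ProjSpace 1 k ⟶ CohB1.ProjSpace (1 + d) k, IsClosedImmersion i ∧
      i ≫ CohB1.ProjSpace.toSpec (1 + d) k = CohB1.ProjSpace.toSpec 1 k ∧
      Nonempty ((Scheme.Modules.pullback i).obj (tO (1 + d) k 1) ≅ tO 1 k 1) ∧ ∃ p', p' ≫ i = pt := by
  intro d
  induction d with
  | zero =>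
    intro pt _ _ _
    exact ⟨𝟙 _, inferInstance, Category.id_comp _, ⟨(Scheme.Modules.pullbackId _).app _⟩, pt, Category.comp_id _⟩
  | succ d ih =>
    intro pt hc hi hO
    haveI := hc
    obtain ⟨j, p', hj, hjo, ⟨wj⟩, hp'c, hpj, hp'o, hp'O, -⟩ :=
      exists_hyperplane (m := 0) (n := 1 + d) (Nat.zero_le _) pt hi hO
    haveI := hj
    haveI := hp'c
    obtain ⟨i, hic, hio, ⟨wi⟩, q, hq⟩ := ih p' hp'o hp'O
    haveI := hic
    refine ⟨i ≫ j, inferInstance, ?_, ⟨((Scheme.Modules.pullbackComp i j).app _).symm ≪≫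
      (Scheme.Modules.pullback i).mapIso wj ≪≫ wi⟩, q, ?_⟩
    · rw [Category.assoc]
      exact (congrArg (i ≫ ·) hjo).trans hio
    · rw [← Category.assoc, hq, hpj]

theorem subsingleton_of_retract {X : Scheme.{u}} [X.Over (Spec (CommRingCat.of k))] {A B : X.Modules}
    (ι : A ⟶ B) (π : B ⟶ A) (h : ι ≫ π = 𝟙 _) (q : ℕ) (hB : Subsingleton (Coh.HH X B q)) :
    Subsingleton (Coh.HH X A q) := by
  refine Function.Injective.subsingleton (f := CohFinite.hhMap k ι q) fun a b hab => ?_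
  have h' := congrArg (CohFinite.hhMap k π q) hab
  rw [← CohFinite.hhMap_comp, ← CohFinite.hhMap_comp, h, CohFinite.hhMap_id, CohFinite.hhMap_id] at h'
  exact h'

theorem twists_eq_zero {n r : ℕ} (i : CohB1.ProjSpace 1 k ⟶ CohB1.ProjSpace n k)
    (w : (Scheme.Modules.pullback i).obj (tO n k 1) ≅ tO 1 k 1) (a : Fin r → ℤ)
    {E : (CohB1.ProjSpace n k).Modules} (e : E ≅ ∐ fun j : Fin r => Twist.twistProjSpace n k (a j))
    (t : (Scheme.Modules.pullback i).obj E ≅ FlatMod.freeMod (CohB1.ProjSpace 1 k) r) (j : Fin r) : a j = 0 := by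
  classical
  letI : (CohB1.ProjSpace 1 k).Over (Spec (CommRingCat.of k)) := ⟨CohB1.ProjSpace.toSpec 1 k⟩
  let T := fun j : Fin r => Twist.twistProjSpace n k (a j)
  let π : (∐ T) ⟶ T j := Sigma.desc fun l => if hl : l = j then eqToHom (by rw [hl]) else 0
  have hπ : Sigma.ι T j ≫ π = 𝟙 _ := by simp [π]
  obtain ⟨v⟩ := nonempty_pullback_twist i w (a j)
  obtain ⟨θ⟩ := TwistPairing.nonempty_twist_twist (R := k) 1 (a j) (-1) (a j - 1) (by ring)
  have key : ∀ q : ℕ, Subsingleton (Coh.HH (CohB1.ProjSpace 1 k) (tO 1 k (a j - 1)) q) := fun q => by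
    refine CohQC.hh_subsingleton_of_iso (PicGrp.tensorModIso v (Iso.refl _) ≪≫ θ) q ?_
    refine subsingleton_of_retract (k := k)
      (CohFinite.tmap ((Scheme.Modules.pullback i).map (Sigma.ι T j ≫ e.inv) ≫ t.hom) (tO 1 k (-1)))
      (CohFinite.tmap (t.inv ≫ (Scheme.Modules.pullback i).map (e.hom ≫ π)) (tO 1 k (-1))) ?_ q
      (BlowPn.subsingleton_hh_free r _ q (ProjCech.twist_vanish (R := k) 1 (-1) q (fun h => by omega) (fun h => by omega)))
    rw [← CohFinite.tmap_comp, Category.assoc, Iso.hom_inv_id_assoc, ← Functor.map_comp, Category.assoc,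
      Iso.inv_hom_id_assoc, hπ, CategoryTheory.Functor.map_id, CohFinite.tmap_id]
  have h0 := (subsingleton_h0_twist_iff (k := k) (n := 1) one_pos (a j - 1)).1 (key 0)
  by_contra hne
  obtain ⟨m, hm, hm'⟩ : ∃ m : ℕ, 2 ≤ m ∧ a j - 1 = -(m : ℤ) := ⟨(1 - a j).toNat, by omega, by omega⟩
  have h1 := key 1
  rw [hm'] at h1
  have h2 := (PnHodge.twist_hn (n := 1) (k := k) m (by omega)).2
  rw [Module.finrank_zero_of_subsingleton, Nat.choose_one_right] at h2
  omega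

theorem free_of_trivLines [IsAlgClosed k] {n r : ℕ} (E : (CohB1.ProjSpace n k).Modules)
    (hE : FlatMod.IsFinLocFreeOfRank r E) (x : CohB1.ProjSpace n k)
    (hx : IsClosed ({x} : Set (CohB1.ProjSpace n k)))
    (h : ∀ (i : CohB1.ProjSpace 1 k ⟶ CohB1.ProjSpace n k) [IsClosedImmersion i],
      i ≫ CohB1.ProjSpace.toSpec n k = CohB1.ProjSpace.toSpec 1 k →
      Nonempty ((Scheme.Modules.pullback i).obj (Twist.twistProjSpace n k 1) ≅ Twist.twistProjSpace 1 k 1) →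
      x ∈ Set.range i.base →
      Nonempty ((Scheme.Modules.pullback i).obj E ≅ FlatMod.freeMod (CohB1.ProjSpace 1 k) r)) :
    Nonempty (E ≅ FlatMod.freeMod (CohB1.ProjSpace n k) r) := by
  obtain ⟨pt, hptc, hpo, hpO, hpx⟩ := exists_pt x hx
  haveI := hptc
  have ht : TrivLines r E pt := fun i hic hi hO ⟨q, hq⟩ => h i hi hO (by
    haveI := Horrocks.isIntegral_projSpace (k := k) (n := 0)
    refine ⟨q (genericPoint _), ?_⟩
    rw [← hpx (genericPoint _), ← hq]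
    rfl)
  clear h hpx hx
  by_cases h0 : n = 0
  · subst h0
    exact point_free hE
  by_cases h1 : n = 1
  · subst h1
    obtain ⟨t⟩ := ht (𝟙 _) (Category.id_comp _) ⟨(Scheme.Modules.pullbackId _).app _⟩ ⟨pt, Category.comp_id _⟩
    exact ⟨((Scheme.Modules.pullbackId _).app E).symm ≪≫ t⟩
  obtain ⟨d, rfl⟩ : ∃ d, n = 2 + d := ⟨n - 2, by omega⟩
  have hf := HNSplit.isFinLocFree_of_rank hE
  have hc := cond_of_trivLines d E hf pt hpo hpO ht
  obtain ⟨a, ⟨e⟩⟩ := Horrocks.exists_sum_of_rank hE (Horrocks.cond_low_of_locFree (by omega) hf hc)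
  obtain ⟨i, hi⟩ : ∃ i : CohB1.ProjSpace 1 k ⟶ CohB1.ProjSpace (2 + d) k, IsClosedImmersion i ∧
      i ≫ CohB1.ProjSpace.toSpec (2 + d) k = CohB1.ProjSpace.toSpec 1 k ∧
      Nonempty ((Scheme.Modules.pullback i).obj (tO (2 + d) k 1) ≅ tO 1 k 1) ∧ ∃ p', p' ≫ i = pt := by
    have key : ∀ (N : ℕ) (d' : ℕ), N = 1 + d' → ∀ (pt : CohB1.ProjSpace 0 k ⟶ CohB1.ProjSpace N k)
        [IsClosedImmersion pt], pt ≫ CohB1.ProjSpace.toSpec N k = CohB1.ProjSpace.toSpec 0 k →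
        Nonempty ((Scheme.Modules.pullback pt).obj (tO N k 1) ≅ tO 0 k 1) →
        ∃ i : CohB1.ProjSpace 1 k ⟶ CohB1.ProjSpace N k, IsClosedImmersion i ∧
          i ≫ CohB1.ProjSpace.toSpec N k = CohB1.ProjSpace.toSpec 1 k ∧
          Nonempty ((Scheme.Modules.pullback i).obj (tO N k 1) ≅ tO 1 k 1) ∧ ∃ p', p' ≫ i = pt := by
      rintro N d' rfl
      exact exists_line_through d'
    exact key _ (d + 1) (by omega) pt hpo hpO
  obtain ⟨hic, hio, ⟨w⟩, hfac⟩ := hi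
  haveI := hic
  obtain ⟨t⟩ := ht i hio ⟨w⟩ hfac
  have ha : ∀ j, a j = 0 := twists_eq_zero i w a e t
  exact ⟨e ≪≫ Sigma.mapIso fun j => eqToIso (by rw [ha j]) ≪≫
    (PnHodge.nonempty_twist_zero_iso (n := 2 + d) (A := k)).some⟩

end Groth.Agent.PnEuler
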