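import Groth.Agent.PnEuler.RankTwoEnd
import Groth.Agent.PnEuler.RankTwo
import Groth.Agent.MumBound.Core
import Groth.Agent.W7Slope.H1Quot
import Groth.Agent.BlowPn.HomLift

/-!
# Stable rank two bundles on projective space are simple
-/

set_option autoImplicit false
set_option backward.isDefEq.respectTransparency false
set_option backward.isDefEq.respectTransparency.types false
set_option linter.style.haveILetI false
set_option linter.unusedSectionVars false
set_option maxHeartbeats 1000000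

universe u

open CategoryTheory CategoryTheory.Limits AlgebraicGeometry TopologicalSpace Opposite
open Groth.Agent.CohFinite (tmap hhMap)
open Groth.Agent.PicBdd (scal)

noncomputable section

namespace Groth.Agent.PnEuler

variable {k : Type u} [Field k]

section Stable

variable {n : ℕ} {E L : (CohB1.ProjSpace n k).Modules}

/-- maps from twists into a bundle without normalised sections -/
theorem lt_of_hom_ne_zero (hE : FlatMod.IsFinLocFree E) {k₀ : ℤ}
    (h0 : Subsingleton (Coh.HH (CohB1.ProjSpace n k) (CohB1.tensorMod E (tO n k k₀)) 0))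
    {a : ℤ} (s : tO n k a ⟶ E) (hs : s ≠ 0) : a < -k₀ := by
  haveI : IsIntegral (CohB1.ProjSpace n k) := PicPn.isIntegral
  by_contra! ha
  obtain ⟨f, hf⟩ := exists_hom_twist_ne_zero (k := k) n (a := -k₀) (b := a) ha
  haveI := mono_of_ne_zero_locFree (CohFinite.isInvertible_twist n k a) hE s hs
  obtain ⟨η⟩ := nonempty_eta (k := k) n k₀ (-k₀) (by ring)
  have h1 : f ≫ s = 0 :=
    BlowPn.hom_eq_zero_of_vanish η (CohFinite.isInvertible_twist n k k₀) h0 _
  exact hf (by rw [← cancel_mono s, h1, zero_comp])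

/-- a bundle without normalised sections has no zero divisors among its endomorphisms -/
theorem eq_zero_or_eq_zero (hE : FlatMod.IsFinLocFreeOfRank 2 E) (c k₀ : ℤ) (hL : ExtPow.IsExtPow 2 E L)
    (e : L ≅ Twist.twistProjSpace n k c) (hk₀ : -1 ≤ c + 2 * k₀)
    (h0 : Subsingleton (Coh.HH (CohB1.ProjSpace n k) (CohB1.tensorMod E (tO n k k₀)) 0))
    (ψ₁ ψ₂ : E ⟶ E) (h : ψ₁ ≫ ψ₂ = 0) : ψ₁ = 0 ∨ ψ₂ = 0 := by
  by_contra! hne
  haveI : IsIntegral (CohB1.ProjSpace n k) := PicPn.isIntegral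
  haveI := CohFinite.isNoetherian_projSpace n k
  have hEf := HNSplit.isFinLocFree_of_rank hE
  have hK := isInvertible_kernel (fun x => SerrePn.isRegularLocalRing_stalk k n x) hE hE
    (LocFree.isQCoh_of_isFinLocFree hEf) ψ₂ hne.2 ψ₁ hne.1 h
  obtain ⟨α, ⟨θ⟩⟩ := PicPn.exists_iso_any (kernel ψ₂) hK
  let q : E ⟶ tO n k α := kernel.lift ψ₂ ψ₁ h ≫ θ.hom
  have hq : q ≠ 0 := fun hq => hne.1 (by
    have h1 : kernel.lift ψ₂ ψ₁ h = 0 := by rw [← cancel_mono θ.hom, zero_comp]; exact hq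
    rw [← kernel.lift_ι ψ₂ ψ₁ h, h1, zero_comp])
  have hs : θ.inv ≫ kernel.ι ψ₂ ≠ 0 := fun hs => hne.1 (by
    have h1 : kernel.ι ψ₂ = 0 := by rw [← cancel_epi θ.inv, comp_zero]; exact hs
    rw [← kernel.lift_ι ψ₂ ψ₁ h, h1, comp_zero])
  have h1 := lt_of_hom_ne_zero hEf h0 _ hs
  -- transpose the quotient with the determinant pairing
  obtain ⟨φ₁, hφ₁⟩ := SGA6Ext.isExtPow_one E
  obtain ⟨φ₂, hφ₂⟩ := hL
  obtain ⟨ι⟩ := HodgeCI.exists_iso_homSh (n := 2) (p := 1) φ₁ φ₁ φ₂ hφ₁ hφ₁ hφ₂ (by norm_num) hE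
    (LocFree.isQCoh_of_isFinLocFree hEf)
  obtain ⟨τ⟩ := TwistPairing.nonempty_twist_twist (R := k) n α (c - α) c (by ring)
  let p : CohB1.tensorMod E (tO n k (c - α)) ⟶ L := tmap q (tO n k (c - α)) ≫ τ.hom ≫ e.inv
  have hp : p ≠ 0 := fun hp => hq (LinRes.eq_zero_of_tmap (CohFinite.isInvertible_twist n k (c - α)) q (by
    rw [← cancel_mono (τ.hom ≫ e.inv), zero_comp]
    exact hp))
  have hs' : W7Hull.curEquiv p ≫ ι.inv ≠ 0 := fun hs' => hp (W7Hull.curEquiv.injective (by
    have h0 : W7Hull.curEquiv (0 : CohB1.tensorMod E (tO n k (c - α)) ⟶ L) = 0 := by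
      apply W7Hull.curEquiv.symm.injective
      rw [Equiv.symm_apply_apply]
      refine TMul.hom_ext fun U a m => RefStalk.germ_ext fun y hy => ?_
      change _ = WeakAssLib.mgerm L hy ((W7Hull.uncur 0).app U (TMul.tm a m))
      rw [W7Hull.uncur_tm]
      exact map_zero _
    rw [h0, ← cancel_mono ι.inv, zero_comp]
    exact hs'))
  have h2 := lt_of_hom_ne_zero hEf h0 _ hs'
  omega

/-- a stable bundle has only homotheties -/
theorem endomorphism_scalar [IsAlgClosed k] (hE : FlatMod.IsFinLocFreeOfRank 2 E) (c k₀ : ℤ)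
    (hL : ExtPow.IsExtPow 2 E L) (e : L ≅ Twist.twistProjSpace n k c) (hk₀ : -1 ≤ c + 2 * k₀)
    (h0 : Subsingleton (Coh.HH (CohB1.ProjSpace n k) (CohB1.tensorMod E (tO n k k₀)) 0)) (φ : E ⟶ E) :
    ∃ c' : k, (SheafOfModules.toSheaf (CohB1.ProjSpace n k).ringCatSheaf).map φ =
      Coh.smulAb E (Coh.toGlobal (CohB1.ProjSpace.toSpec n k) c') := by
  classical
  letI : (CohB1.ProjSpace n k).Over (Spec (CommRingCat.of k)) := ⟨CohB1.ProjSpace.toSpec n k⟩
  have hEc := CurveRR.isCoh_of_rank hE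
  have hdom := eq_zero_or_eq_zero hE c k₀ hL e hk₀ h0
  -- a regular twist
  obtain ⟨T, hT⟩ := MumBound.eventually_vanish hEc
  let N : ℤ := (T : ℤ) + n
  let G := CohB1.tensorMod E (tO n k N)
  have hG : Coh.IsCoh G := CohFinite.isCoh_tensor hEc (CohFinite.isInvertible_twist n k N)
  have hreg : Curv2.IsMRegular k n G 0 := fun i hi hin => by
    obtain ⟨θ⟩ := TwistPairing.nonempty_twist_twist (R := k) n N (0 - i) (N + (0 - i)) rfl
    exact CohQC.hh_subsingleton_of_iso (TMul.assocIso _ _ _ ≪≫ PicGrp.tensorModIso (Iso.refl E) θ).symm i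
      (hT (N + (0 - i)) (by omega) i hi)
  let V := Coh.HH (CohB1.ProjSpace n k) G 0
  haveI : Module.Finite k V := CohFinite.finite_projSpace n k G hG 0
  let ρ : (E ⟶ E) → Module.End k V := fun f => hhMap k (tmap f (tO n k N)) 0
  have hρ : ∀ f : E ⟶ E, ρ f = 0 → f = 0 := fun f hf => by
    refine LinRes.eq_zero_of_tmap (CohFinite.isInvertible_twist n k N) f
      (LinRes.hom_eq_zero G hG hreg _ fun z => ?_)
    have h1 := CompInt.h0_nat (tmap f (tO n k N))
      ((Sheaf.H.equiv₀ (Coh.toAb G) (isTerminalTop : IsTerminal (⊤ : (CohB1.ProjSpace n k).Opens))).symm z)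
    rw [AddEquiv.apply_symm_apply] at h1
    rw [← h1]
    refine (congrArg _ (LinearMap.congr_fun hf _)).trans (map_zero _)
  let g := Coh.toGlobal (CohB1.ProjSpace.toSpec n k)
  have hsub : ∀ (f : E ⟶ E) (a : k), ρ (f - scal (g a) E) = ρ f - algebraMap k (Module.End k V) a := by
    intro f a
    refine LinearMap.ext fun x => ?_
    rw [LinearMap.sub_apply, eq_sub_iff_add_eq]
    have h1 : hhMap k (scal (g a) G) 0 x = a • x :=
      congrArg (fun ψ => Sheaf.H.map ψ 0 x) (BlowPn.toSheaf_scal (g a) G)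
    have h2 : tmap f (tO n k N) = tmap (f - scal (g a) E) (tO n k N) + scal (g a) G := by
      rw [← BlowPn.tmap_scal, ← CohFinite.tmap_add, sub_add_cancel]
    show _ + a • x = hhMap k (tmap f (tO n k N)) 0 x
    rw [h2, W7Slope.hhMap_add, h1]
  obtain ⟨P, hPm, hP⟩ := (Algebra.IsIntegral.isIntegral (R := k) (ρ φ))
  obtain ⟨m, hm⟩ : ∃ m : Multiset k, (m.map fun a => Polynomial.X - Polynomial.C a).prod = P :=
    ⟨P.roots, Polynomial.prod_multiset_X_sub_C_of_monic_of_roots_card_eq hPm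
      (IsAlgClosed.card_roots_eq_natDegree)⟩
  obtain ⟨l, rfl⟩ : ∃ l : List k, (l : Multiset k) = m := ⟨m.toList, m.coe_toList⟩
  suffices key : ∀ (l : List k) (ψ : E ⟶ E),
      (l.map fun a => Polynomial.aeval (ρ φ) (Polynomial.X - Polynomial.C a)).prod * ρ ψ = 0 →
      ψ = 0 ∨ ∃ a : k, φ - scal (g a) E = 0 by
    have hP' : Polynomial.aeval (ρ φ) P = 0 := hP
    rw [← hm, Multiset.map_coe, Multiset.prod_coe, map_list_prod, List.map_map] at hP'
    rcases key l (𝟙 E) (by rw [show (l.map fun a => Polynomial.aeval (ρ φ) (Polynomial.X - Polynomial.C a)).prod = 0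
        from hP', zero_mul]) with h1 | ⟨a, ha⟩
    · exact ⟨0, by
        have hz : φ = 0 := by rw [← Category.id_comp φ, h1, zero_comp]
        rw [hz, map_zero, ← BlowPn.toSheaf_scal, BlowPn.scal_zero, Functor.map_zero]⟩
    · exact ⟨a, by rw [sub_eq_zero.1 ha, BlowPn.toSheaf_scal]⟩
  intro l
  induction l using List.reverseRecOn with
  | nil =>
    intro ψ h
    rw [List.map_nil, List.prod_nil, one_mul] at h
    exact Or.inl (hρ ψ h)
  | append_singleton l a ih =>
    intro ψ h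
    rw [List.map_append, List.prod_append, List.map_singleton, List.prod_singleton, mul_assoc] at h
    have h2 : Polynomial.aeval (ρ φ) (Polynomial.X - Polynomial.C a) * ρ ψ = ρ (ψ ≫ (φ - scal (g a) E)) := by
      rw [map_sub, Polynomial.aeval_X, Polynomial.aeval_C, ← hsub]
      refine LinearMap.ext fun x => ?_
      show hhMap k _ 0 (hhMap k _ 0 x) = hhMap k (tmap (ψ ≫ _) _) 0 x
      rw [CohFinite.tmap_comp, CohFinite.hhMap_comp]
    rw [h2] at h
    rcases ih _ h with h1 | h1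
    · rcases hdom _ _ h1 with h3 | h3
      · exact Or.inl h3
      · exact Or.inr ⟨a, h3⟩
    · exact Or.inr h1

end Stable

end Groth.Agent.PnEuler
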