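import Groth.Agent.PnEuler.NullExist
import Groth.Agent.PnEuler.NullCorr
import Groth.Agent.PnEuler.RankTwoEnd
import Groth.Agent.BlowExcBundle.Main
import Groth.Agent.CurveRR.GlobGen
import Groth.Agent.NegFilt.Basic
import Mathlib.LinearAlgebra.Matrix.Block

/-!
# Simple bundles of rank `n - 1` on `P^n`
-/

set_option autoImplicit false
set_option backward.isDefEq.respectTransparency false
set_option backward.isDefEq.respectTransparency.types false
set_option linter.style.haveILetI false
set_option linter.unusedSectionVars false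
set_option maxHeartbeats 1000000

universe u

open CategoryTheory CategoryTheory.Limits AlgebraicGeometry TopologicalSpace Opposite Abelian
open Groth.Agent.QC Groth.Agent.WeakAssLib
open Groth.Agent.CohFinite (tmap)
open Groth.Agent.PicBdd (scal scal_comp)

noncomputable section

namespace Groth.Agent.PnEuler

/-- the Wronskian coefficients -/
def omg {n : ℕ} (s : Fin (2 * n - 1)) (a b : Fin (n + 1)) : ℤ :=
  if a.1 + b.1 = s.1 + 1 then (b.1 : ℤ) - a.1 else 0

theorem omg_swap {n : ℕ} (s : Fin (2 * n - 1)) (a b : Fin (n + 1)) : omg s b a = - omg s a b := by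
  unfold omg
  split_ifs <;> omega

theorem omg_self {n : ℕ} (s : Fin (2 * n - 1)) (a : Fin (n + 1)) : omg s a a = 0 := by
  unfold omg
  split_ifs <;> omega

/-- alternating forms vanish on symmetric tensors -/
theorem sum_omg {R M : Type*} [Ring R] [AddCommGroup M] [Module R M] {n : ℕ} (s : Fin (2 * n - 1))
    (F : Fin (n + 1) → Fin (n + 1) → M) (hF : ∀ a b, F a b = F b a) :
    ∑ a, ∑ b, (omg s a b : R) • F a b = 0 := by
  rw [← Finset.sum_product']
  refine Finset.sum_involution (fun p _ => (p.2, p.1)) (fun p _ => ?_) (fun p _ hp h => hp ?_)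
    (fun p _ => by simp) fun p _ => rfl
  · rw [omg_swap s p.1 p.2, Int.cast_neg, neg_smul, hF p.2 p.1, add_neg_cancel]
  · rw [show p.2 = p.1 from (Prod.ext_iff.1 h).1, omg_self, Int.cast_zero, zero_smul]

/-- at a point where some coordinate is a unit the Wronskian forms fill the annihilator -/
theorem exists_omg_solve {R : Type*} [CommRing R] [IsLocalRing R] [CharZero (IsLocalRing.ResidueField R)] {n : ℕ}
    (c : Fin (n + 1) → R) (hc : ∃ a, IsUnit (c a)) (y : Fin (n + 1) → R) (hy : ∑ a, c a * y a = 0) :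
    ∃ z : Fin (2 * n - 1) → R, ∀ a, ∑ s, z s * ∑ b, (omg s a b : R) * c b = y a := by
  classical
  let S := Finset.univ.filter fun a => IsUnit (c a)
  have hS : S.Nonempty := let ⟨a, ha⟩ := hc; ⟨a, by simp [S, ha]⟩
  let a₀ := S.min' hS
  have ha₀ : IsUnit (c a₀) := (Finset.mem_filter.1 (S.min'_mem hS)).2
  let res := IsLocalRing.residue R
  have hlt : ∀ a, a < a₀ → res (c a) = 0 := fun a ha => by
    rw [IsLocalRing.residue_eq_zero_iff, IsLocalRing.mem_maximalIdeal, mem_nonunits_iff]
    exact fun h => absurd (S.min'_le a (Finset.mem_filter.2 ⟨Finset.mem_univ _, h⟩)) (not_le.2 ha)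
  have hne : ∀ i : Fin n, (a₀.succAbove i).1 ≠ a₀.1 := fun i h => Fin.succAbove_ne a₀ i (Fin.ext h)
  let σ : Fin n → Fin (2 * n - 1) := fun j =>
    ⟨a₀.1 + (a₀.succAbove j).1 - 1, by have := hne j; have := a₀.2; have := (a₀.succAbove j).2; omega⟩
  let M : Fin (2 * n - 1) → Fin (n + 1) → R := fun s a => ∑ b, (omg s a b : R) * c b
  let A : Matrix (Fin n) (Fin n) R := fun i j => M (σ j) (a₀.succAbove i)
  have htri : (A.map res).BlockTriangular id := fun i j hij => by
    have hlt' : (a₀.succAbove j).1 < (a₀.succAbove i).1 := Fin.strictMono_succAbove a₀ hij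
    have := hne j
    simp only [Matrix.map_apply, A, M, map_sum, map_mul, map_intCast]
    refine Finset.sum_eq_zero fun b _ => ?_
    unfold omg
    split_ifs with h
    · rw [hlt b (show b.1 < a₀.1 by simp only [σ] at h; omega), mul_zero]
    · rw [Int.cast_zero, zero_mul]
  have hdiag : ∀ i, (A.map res) i i = (((a₀.1 : ℤ) - (a₀.succAbove i).1 : ℤ) : IsLocalRing.ResidueField R) * res (c a₀) :=
    fun i => by
    have := hne i
    simp only [Matrix.map_apply, A, M, map_sum, map_mul, map_intCast]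
    rw [Finset.sum_eq_single a₀ (fun b _ hb => ?_) (by simp)]
    · unfold omg
      rw [if_pos (by simp only [σ]; omega)]
    · unfold omg
      rw [if_neg, Int.cast_zero, zero_mul]
      intro h
      exact hb (Fin.ext (by simp only [σ] at h; omega))
  have hdet : IsUnit A.det := by
    rw [← IsLocalRing.residue_ne_zero_iff_isUnit]
    change res A.det ≠ 0
    rw [RingHom.map_det, RingHom.mapMatrix_apply, Matrix.det_of_upperTriangular htri]
    refine Finset.prod_ne_zero_iff.2 fun i _ => ?_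
    rw [hdiag]
    refine mul_ne_zero (Int.cast_ne_zero.2 ?_) ((IsLocalRing.residue_ne_zero_iff_isUnit _).2 ha₀)
    have := hne i
    omega
  obtain ⟨w, hw⟩ : ∃ w, A.mulVec w = fun i => y (a₀.succAbove i) := by
    refine ⟨A⁻¹.mulVec fun i => y (a₀.succAbove i), ?_⟩
    rw [Matrix.mulVec_mulVec, Matrix.mul_nonsing_inv _ hdet, Matrix.one_mulVec]
  let z : Fin (2 * n - 1) → R := fun s => ∑ j, if σ j = s then w j else 0
  have hz : ∀ a, ∑ s, z s * M s a = ∑ j, w j * M (σ j) a := fun a => by
    simp only [z, Finset.sum_mul]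
    rw [Finset.sum_comm]
    simp [ite_mul]
  have hoff : ∀ i, ∑ s, z s * M s (a₀.succAbove i) = y (a₀.succAbove i) := fun i => by
    rw [hz, ← congrFun hw i]
    exact Finset.sum_congr rfl fun j _ => mul_comm _ _
  refine ⟨z, fun a => ?_⟩
  rcases eq_or_ne a a₀ with rfl | ha
  · have hM : ∀ s, ∑ a, c a * M s a = 0 := fun s => by
      rw [← sum_omg (R := R) s (fun a b => c a * c b) fun a b => mul_comm _ _]
      simp only [M, Finset.mul_sum, smul_eq_mul]
      exact Finset.sum_congr rfl fun a _ => Finset.sum_congr rfl fun b _ => by ring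
    have h0 : ∑ a, c a * ((∑ s, z s * M s a) - y a) = 0 := by
      simp only [mul_sub, Finset.sum_sub_distrib, hy, sub_zero, Finset.mul_sum]
      rw [Finset.sum_comm]
      refine Finset.sum_eq_zero fun s _ => ?_
      simp only [mul_left_comm (c _) (z s), ← Finset.mul_sum, hM, mul_zero]
    rw [Finset.sum_eq_single a₀ (fun b _ hb => ?_) (by simp), IsUnit.mul_right_eq_zero ha₀, sub_eq_zero] at h0
    · exact h0
    · obtain ⟨i, rfl⟩ := Fin.exists_succAbove_eq hb
      rw [hoff, sub_self, mul_zero]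
  · obtain ⟨i, rfl⟩ := Fin.exists_succAbove_eq ha
    exact hoff i

section General

variable {X : Scheme.{u}} {L : X.Modules} {n : ℕ} (q : FlatMod.freeMod X (n + 1) ⟶ L)

/-- the sections given by the Wronskian forms -/
def wsec (s : Fin (2 * n - 1)) : Γ(CohB1.tensorMod (FlatMod.freeMod X (n + 1)) L, ⊤) :=
  ∑ a, ∑ b, (omg s a b : Γ(X, ⊤)) • TMul.tm (PBundle.bv X a) (q.app ⊤ (PBundle.bv X b))

/-- the map they define -/
def whom : FlatMod.freeMod X (2 * n - 1) ⟶ CohB1.tensorMod (FlatMod.freeMod X (n + 1)) L :=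
  Sigma.desc fun s => CohQC.secHom (wsec q s)

theorem fι_app_one {m : ℕ} {M : X.Modules} (φ : FlatMod.freeMod X m ⟶ M) (j : Fin m) :
    fι j ≫ φ = CohQC.secHom (φ.app ⊤ (PBundle.bv X j)) := by
  rw [← GenSection.secHom_comp]
  congr 1
  refine Scheme.Modules.hom_ext _ _ fun W => ?_
  ext a
  obtain ⟨a, rfl⟩ : ∃ a' : Γ(X, W), (show Γ(Coh.structureModule X, W) from a') = a := ⟨a, rfl⟩
  rw [CohQC.secHom_app, TMul.app_eq_smul, PBundle.bv, TMul.res_val]

theorem whom_bv (s : Fin (2 * n - 1)) : (whom q).app ⊤ (PBundle.bv X s) = wsec q s := by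
  have h : fι s ≫ whom q = CohQC.secHom (wsec q s) := Sigma.ι_desc _ _
  rw [fι_app_one] at h
  have h' := congrArg (fun φ : Coh.structureModule X ⟶ CohB1.tensorMod (FlatMod.freeMod X (n + 1)) L => φ.app ⊤ (show Γ(Coh.structureModule X, ⊤) from (1 : Γ(X, ⊤)))) h
  simpa only [CohQC.secHom_app, one_smul, res_self] using h'

theorem whom_comp (hL : PicF.IsInvertible L) : whom q ≫ tmap q L = 0 := by
  refine Sigma.hom_ext _ _ fun s => ?_
  rw [comp_zero, ← Category.assoc, show Sigma.ι _ s ≫ whom q = CohQC.secHom (wsec q s) from Sigma.ι_desc _ _,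
    GenSection.secHom_comp]
  have h0 : (tmap q L).app ⊤ (wsec q s) = 0 := by
    simp only [wsec, map_sum, Scheme.Modules.Hom.app_smul, CohFinite.tmap_tm]
    exact sum_omg s (fun a b => TMul.tm (q.app ⊤ (PBundle.bv X a)) (q.app ⊤ (PBundle.bv X b)))
      fun a b => tm_comm_self hL _ _
  rw [h0]
  refine Scheme.Modules.hom_ext _ _ fun W => ?_
  ext a
  rw [CohQC.secHom_app, map_zero, smul_zero]
  rfl

/-- the lifted map -/
def wlift (hL : PicF.IsInvertible L) : FlatMod.freeMod X (2 * n - 1) ⟶ kernel (tmap q L) :=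
  kernel.lift _ (whom q) (whom_comp q hL)

theorem epi_wlift {k : Type u} [Field k] [CharZero k] (g : k →+* Γ(X, ⊤)) (hL : PicF.IsInvertible L) [Epi q] :
    Epi (wlift q hL) := by
  classical
  refine Horrocks.epi_of_stalk _ fun x y => ?_
  haveI : CharZero (IsLocalRing.ResidueField (X.presheaf.stalk x)) :=
    charZero_of_injective_ringHom (RingHom.injective
      ((IsLocalRing.residue (X.presheaf.stalk x)).comp
        ((X.presheaf.germ ⊤ x trivial).hom.comp g)))
  obtain ⟨U₀, e, hxU₀, he⟩ := TMul.exists_isGen hL x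
  obtain ⟨D, hD, hxD, hDU⟩ := exists_isAffineOpen_mem_and_subset (x := x) (U := U₀) hxU₀
  replace hDU : D ≤ U₀ := hDU
  have heD := he.res hDU
  let t : Fin (n + 1) → Γ(L, ⊤) := fun b => q.app ⊤ (PBundle.bv X b)
  choose c hc using fun j => (heD D le_rfl).2 (res L (le_top : D ≤ ⊤) (t j))
  simp only [res_self] at hc
  let γ : Fin (n + 1) → X.presheaf.stalk x := fun j => (X.presheaf.germ D x hxD).hom (c j)
  have hspan := GenSection.isGenFam_of_epi (TMul.isQCoh_of_isInvertible hL) (freeULift X (n + 1) ≫ q) D hD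
  have hunit : ∃ a, IsUnit (γ a) := by
    have hmem : res L hDU e ∈ Submodule.span Γ(X, D) (Set.range fun j => res L (le_top : D ≤ ⊤) (t j)) := by
      refine (Submodule.span_mono ?_) (hspan.ge Submodule.mem_top)
      rintro _ ⟨⟨j⟩, rfl⟩
      refine ⟨j, congrArg (res L _) ?_⟩
      show q.app ⊤ (PBundle.bv X j) = _
      simp only [PBundle.bv, TMul.val]
      rw [← Category.assoc, ι_freeULift]
      rfl
    obtain ⟨a, ha⟩ := (Submodule.mem_span_range_iff_exists_fun _).1 hmem
    have h1 : (∑ j, a j * c j) • res L hDU e = (1 : Γ(X, D)) • res L hDU e := by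
      rw [one_smul, Finset.sum_smul]
      conv_rhs => rw [← ha]
      exact Finset.sum_congr rfl fun j _ => by rw [mul_smul, hc]
    have h2 := (heD D le_rfl).1 (a₁ := ∑ j, a j * c j) (a₂ := 1) (by simpa only [res_self] using h1)
    have hu : IsUnit ((X.presheaf.germ D x hxD).hom (1 : Γ(X, D))) := by rw [map_one]; exact isUnit_one
    rw [← h2, map_sum] at hu
    obtain ⟨j, -, hj⟩ := IsLocalRing.exists_of_isUnit_sum hu
    rw [map_mul] at hj
    exact ⟨j, isUnit_of_mul_isUnit_right hj⟩
  let T := CohB1.tensorMod (FlatMod.freeMod X (n + 1)) L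
  let f : Fin (n + 1) → Γ(T, D) := fun j =>
    TMul.tm (res (FlatMod.freeMod X (n + 1)) (le_top : D ≤ ⊤) (PBundle.bv X j)) (res L hDU e)
  have hfr : TMul.IsFrame f := W7Slope.isFrame_tm (G := FlatMod.freeMod X (n + 1))
    (fun z hz => by simpa only [WeakAssLib.mgerm_res] using PBundle.isFrame_bv X (n + 1) z trivial) heD
  obtain ⟨η, hη⟩ := (hfr x hxD).2 (stalkHom (kernel.ι (tmap q L)) x y)
  simp only at hη
  have hq0 : ∑ a, γ a * η a = 0 := by
    have h0 : stalkL (tmap q L) x (stalkHom (kernel.ι (tmap q L)) x y) = 0 := by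
      change stalkHom (tmap q L) x (stalkHom (kernel.ι (tmap q L)) x y) = 0
      obtain ⟨W, hxW, s, rfl⟩ := (kernel (tmap q L)).presheaf.exists_germ_eq (x := x) y
      rw [WeakAssLib.stalkHom_germ, WeakAssLib.stalkHom_germ]
      have : (tmap q L).app W ((kernel.ι (tmap q L)).app W s) = 0 :=
        congrArg (fun φ : _ ⟶ CohB1.tensorMod L L => φ.app W s) (kernel.condition (tmap q L))
      rw [this, map_zero]
    rw [← hη, map_sum] at h0
    have h1 : ∀ a, stalkL (tmap q L) x (η a • mgerm T hxD (f a)) =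
        (η a * γ a) • mgerm (CohB1.tensorMod L L) hxD (TMul.tm (res L hDU e) (res L hDU e)) := fun a => by
      rw [map_smul]
      change η a • stalkHom (tmap q L) x _ = _
      rw [WeakAssLib.stalkHom_germ, CohFinite.tmap_tm, ← app_res, ← hc, TMul.smul_tm, mgerm_smul, smul_smul]
    simp only [h1, ← Finset.sum_smul] at h0
    have hbij := BlowExcBundle.isFrame_of_isGen (TMul.isGen_tm heD heD) x hxD
    have h2 := congrFun (hbij.1 (a₁ := fun _ : Fin 1 => ∑ a, η a * γ a) (a₂ := 0) (by simpa using h0)) 0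
    exact (Finset.sum_congr rfl fun a _ => mul_comm _ _).trans h2
  obtain ⟨z, hz⟩ := exists_omg_solve γ hunit η hq0
  refine ⟨∑ s, z s • mgerm (FlatMod.freeMod X (2 * n - 1)) (U := ⊤) (x := x) trivial (PBundle.bv X s), ?_⟩
  refine WeakAssLib.stalkHom_injective (kernel.ι (tmap q L)) x ?_
  rw [← hη]
  have hsec : ∀ s, stalkHom (kernel.ι (tmap q L)) x (stalkHom (wlift q hL) x
      (mgerm (FlatMod.freeMod X (2 * n - 1)) (U := ⊤) (x := x) trivial (PBundle.bv X s))) =
      ∑ a, (∑ b, (omg s a b : X.presheaf.stalk x) * γ b) • mgerm T hxD (f a) := fun s => by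
    rw [WeakAssLib.stalkHom_germ, WeakAssLib.stalkHom_germ]
    have : (kernel.ι (tmap q L)).app ⊤ ((wlift q hL).app ⊤ (PBundle.bv X s)) = wsec q s := by
      rw [← whom_bv]
      exact congrArg (fun φ : _ ⟶ T => φ.app ⊤ (PBundle.bv X s)) (kernel.lift_ι _ _ _)
    rw [this, ← mgerm_res T (le_top : D ≤ ⊤) hxD, wsec, map_sum, map_sum]
    refine Finset.sum_congr rfl fun a _ => ?_
    rw [map_sum, map_sum, Finset.sum_smul]
    refine Finset.sum_congr rfl fun b _ => ?_
    rw [res_smul, TMul.res_tm, map_intCast, show res L (le_top : D ≤ ⊤) (q.app ⊤ (PBundle.bv X b)) = c b • res L hDU e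
      from (hc b).symm, TMul.tm_smul, smul_smul, mgerm_smul, map_mul, map_intCast]
  change stalkL (kernel.ι (tmap q L)) x (stalkL (wlift q hL) x _) = _
  simp only [map_sum, map_smul]
  calc _ = ∑ s, z s • ∑ a, (∑ b, (omg s a b : X.presheaf.stalk x) * γ b) • mgerm T hxD (f a) :=
        Finset.sum_congr rfl fun s _ => congrArg (z s • ·) (hsec s)
    _ = _ := by
      simp only [Finset.smul_sum, smul_smul]
      rw [Finset.sum_comm]
      refine Finset.sum_congr rfl fun a _ => ?_
      rw [← Finset.sum_smul, hz]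

/-- coefficient extraction on a tensor with a free module -/
theorem exists_coord {X : Scheme.{u}} (L : X.Modules) {m : ℕ} (a : Fin m) :
    ∃ π : CohB1.tensorMod (FlatMod.freeMod X m) L ⟶ L, ∀ (a' : Fin m) (t : Γ(L, ⊤)),
      π.app ⊤ (TMul.tm (PBundle.bv X a') t) = (if a' = a then (1 : Γ(X, ⊤)) else 0) • t := by
  classical
  let δ : FlatMod.freeMod X m ⟶ Coh.structureModule X :=
    Sigma.desc fun j => if j = a then 𝟙 _ else 0
  refine ⟨tmap δ L ≫ (TMul.leftUnitIso L).hom, fun a' t => ?_⟩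
  have h : δ.app ⊤ (PBundle.bv X a') =
      (show Γ(Coh.structureModule X, ⊤) from (if a' = a then (1 : Γ(X, ⊤)) else 0)) := by
    have h1 : fι a' ≫ δ = if a' = a then 𝟙 _ else 0 := Sigma.ι_desc _ _
    rw [fι_app_one] at h1
    have h2 := congrArg (fun φ : Coh.structureModule X ⟶ Coh.structureModule X =>
      φ.app ⊤ (show Γ(Coh.structureModule X, ⊤) from (1 : Γ(X, ⊤)))) h1
    simp only [CohQC.secHom_app, one_smul, res_self] at h2
    rw [h2]
    split_ifs <;> rfl
  change (TMul.leftUnitIso L).hom.app ⊤ ((tmap δ L).app ⊤ _) = _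
  rw [CohFinite.tmap_tm, h]
  exact CurveRR.leftUnitIso_tm _ _ _

/-- scalar combinations of the Wronskian sections vanish only trivially -/
theorem wsec_indep {k : Type u} [Field k] [CharZero k] (g : k →+* Γ(X, ⊤))
    (hinj : ∀ e : Fin (n + 1) → k, ∑ b, g (e b) • q.app ⊤ (PBundle.bv X b) = 0 → e = 0)
    (z : Fin (2 * n - 1) → k) (hz : ∑ s, g (z s) • wsec q s = 0) : z = 0 := by
  classical
  have key : ∀ a b, ∑ s, z s * (omg s a b : k) = 0 := fun a b => by
    refine congrFun (hinj (fun b => ∑ s, z s * (omg s a b : k)) ?_) b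
    obtain ⟨π, hπ⟩ := exists_coord L a
    have h := congrArg (fun v => π.app ⊤ v) hz
    simp only [map_zero, map_sum, Scheme.Modules.Hom.app_smul, wsec, hπ] at h
    rw [← h]
    simp only [map_sum, map_mul, map_intCast, Finset.sum_smul]
    rw [Finset.sum_comm]
    refine Finset.sum_congr rfl fun s _ => ?_
    rw [Finset.smul_sum]
    refine Eq.trans ?_ (Finset.sum_eq_single a (fun a' _ ha' => by simp [ha']) (by simp)).symm
    rw [Finset.smul_sum]
    simp [mul_smul]
  funext s
  have hs := s.2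
  obtain ⟨a, b, hab, hlt⟩ : ∃ a b : Fin (n + 1), a.1 + b.1 = s.1 + 1 ∧ a.1 < b.1 := by
    rcases Nat.lt_or_ge (s.1 + 1) (n + 1) with h | h
    · exact ⟨⟨0, by omega⟩, ⟨s.1 + 1, h⟩, by simp, by simp⟩
    · exact ⟨⟨s.1 + 1 - n, by omega⟩, ⟨n, by omega⟩, by simp; omega, by simp; omega⟩
  have h := key a b
  rw [Finset.sum_eq_single s (fun s' _ hs' => by
    unfold omg
    rw [if_neg (fun he => hs' (Fin.ext (by omega))), Int.cast_zero, mul_zero]) (by simp)] at h
  refine (mul_eq_zero.1 h).resolve_right (Int.cast_ne_zero.2 ?_)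
  unfold omg
  rw [if_pos hab]
  omega

/-- endomorphisms of the kernel of the Wronskian map are scalars -/
theorem kernel_wlift_simple {k : Type u} [Field k] [CharZero k] (g : k →+* Γ(X, ⊤)) (hg : Function.Surjective g)
    [HasExt.{u} X.Modules] (hL : PicF.IsInvertible L) [Epi q]
    (hinj : ∀ e : Fin (n + 1) → k, ∑ b, g (e b) • q.app ⊤ (PBundle.bv X b) = 0 → e = 0)
    (hP : ∀ γ : kernel (tmap q L) ⟶ kernel (tmap q L), ∃ a : Γ(X, ⊤), γ = scal a _)
    (hext : Subsingleton (Ext (kernel (tmap q L)) (Coh.structureModule X) 1))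
    (ψ : kernel (wlift q hL) ⟶ kernel (wlift q hL)) : ∃ c : k, ψ = scal (g c) _ := by
  classical
  haveI := epi_wlift q g hL
  have hS : (ShortComplex.mk (kernel.ι (wlift q hL)) (wlift q hL) (kernel.condition (wlift q hL))).ShortExact :=
    { exact := ShortComplex.exact_kernel (wlift q hL) }
  obtain ⟨π, hπ⟩ := LinRes.exists_total (b := 2 * n - 1) (Coh.structureModule X)
  have hlift : ∀ t, ∃ χ : FlatMod.freeMod X (2 * n - 1) ⟶ Coh.structureModule X,
      kernel.ι (wlift q hL) ≫ χ = ψ ≫ kernel.ι (wlift q hL) ≫ π t := fun t => by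
    obtain ⟨x, hx⟩ := Ext.contravariant_sequence_exact₁ hS (Coh.structureModule X)
      (Ext.mk₀ (ψ ≫ kernel.ι (wlift q hL) ≫ π t)) (n₁ := 1) rfl (hext.elim _ _)
    obtain ⟨χ, rfl⟩ := (Ext.mk₀_bijective _ _).2 x
    rw [Ext.mk₀_comp_mk₀] at hx
    exact ⟨χ, (Ext.mk₀_bijective _ _).1 hx⟩
  choose χ hχ using hlift
  let A : FlatMod.freeMod X (2 * n - 1) ⟶ FlatMod.freeMod X (2 * n - 1) := ∑ t, χ t ≫ fι t
  have hA : kernel.ι (wlift q hL) ≫ A = ψ ≫ kernel.ι (wlift q hL) := by
    simp only [A, Preadditive.comp_sum, ← Category.assoc, hχ]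
    simp only [Category.assoc, ← Preadditive.comp_sum]
    exact (congrArg (fun z => ψ ≫ kernel.ι (wlift q hL) ≫ z) hπ).trans (by rw [Category.comp_id])
  haveI : Epi (ShortComplex.mk (kernel.ι (wlift q hL)) (wlift q hL) (kernel.condition (wlift q hL))).g := ‹Epi (wlift q hL)›
  let γ := hS.exact.desc (A ≫ (wlift q hL)) (by
    show kernel.ι (wlift q hL) ≫ A ≫ (wlift q hL) = 0
    rw [← Category.assoc, hA, Category.assoc, kernel.condition, comp_zero])
  obtain ⟨a, ha⟩ := hP γ
  obtain ⟨c, rfl⟩ := hg a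
  have h0 : (A - scal (g c) _) ≫ (wlift q hL) = 0 := by
    rw [Preadditive.sub_comp, scal_comp, ← ha, sub_eq_zero]
    exact (hS.exact.g_desc _ _).symm
  obtain ⟨f, hf⟩ := exists_linF g hg (A - scal (g c) (FlatMod.freeMod X (2 * n - 1)))
  have hD : A - scal (g c) (FlatMod.freeMod X (2 * n - 1)) = 0 := by
    refine Sigma.hom_ext _ _ fun j => ?_
    rw [comp_zero]
    have hz : (fun t => f (Pi.single j 1) t) = 0 := by
      refine wsec_indep q g hinj _ ?_
      have h1 : (∑ t, scal (g (f (Pi.single j 1) t)) (Coh.structureModule X) ≫ fι t) ≫ whom q = 0 := by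
        rw [← ι_linF, ← hf, Category.assoc]
        have : whom q = (wlift q hL) ≫ kernel.ι (tmap q L) := (kernel.lift_ι _ _ _).symm
        rw [this, reassoc_of% h0, zero_comp, comp_zero]
      have h2 := congrArg (fun φ : Coh.structureModule X ⟶ CohB1.tensorMod (FlatMod.freeMod X (n + 1)) L =>
        φ.app ⊤ (show Γ(Coh.structureModule X, ⊤) from (1 : Γ(X, ⊤)))) h1
      simp only [Preadditive.sum_comp, scal_comp, Category.assoc] at h2
      simp only [← Category.assoc, show ∀ t, fι t ≫ whom q = CohQC.secHom (wsec q t) from fun t => Sigma.ι_desc _ _,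
        NegFilt.app_sum] at h2
      refine Eq.trans ?_ h2
      refine Finset.sum_congr rfl fun t _ => ?_
      change _ = (scal _ _).app ⊤ ((CohQC.secHom (wsec q t)).app ⊤ _)
      rw [CohQC.secHom_app, one_smul, res_self, PicBdd.scal_app, resO_self]
    show fι j ≫ _ = 0
    rw [hf, ι_linF]
    exact Finset.sum_eq_zero fun t _ => by rw [congrFun hz t]; simp [BlowPn.scal_zero]
  refine ⟨c, ?_⟩
  rw [← cancel_mono (kernel.ι (wlift q hL)), ← hA, sub_eq_zero.1 hD, scal_comp]

end General

end Groth.Agent.PnEuler
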